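import Groth.Prelude.Def_Found
import Groth.Agent.Props.N2Local
import Mathlib.FieldTheory.Galois.Basic
import Mathlib.FieldTheory.Normal.Closure
import Mathlib.FieldTheory.PurelyInseparable.Basic
import Mathlib.RingTheory.DedekindDomain.IntegralClosure
import Mathlib.RingTheory.IntegralClosure.IntegrallyClosed

/-!
Reduction of the N-2 property to purely inseparable extensions.
-/

set_option autoImplicit false
set_option linter.style.haveILetI false

universe u

namespace Groth.Agent.Nagata

/-- The integral closure in a smaller field is finite if the one in a bigger field is. -/
theorem finite_integralClosure_of_algHom {R : Type u} [CommRing R] [IsNoetherianRing R] {L M : Type u}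
    [CommRing L] [CommRing M] [Algebra R L] [Algebra R M] (f : L →ₐ[R] M) (hf : Function.Injective f)
    [Module.Finite R (integralClosure R M)] : Module.Finite R (integralClosure R L) := by
  let g : integralClosure R L →ₗ[R] integralClosure R M :=
    { toFun := fun x => ⟨f x, IsIntegral.map f x.2⟩
      map_add' := fun x y => Subtype.ext (map_add f (x : L) y)
      map_smul' := fun r x => Subtype.ext (map_smul f r (x : L)) }
  exact Module.Finite.of_injective g fun x y h => Subtype.ext (hf (congrArg Subtype.val h))

/-- Transport of finiteness of the integral closure along a tower: if `R'` is integral over `R`, the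
integral closures agree. -/
theorem finite_integralClosure_of_tower {R R' L : Type u} [CommRing R] [CommRing R'] [CommRing L]
    [Algebra R R'] [Algebra R L] [Algebra R' L] [IsScalarTower R R' L] [Module.Finite R R']
    [Module.Finite R' (integralClosure R' L)] : Module.Finite R (integralClosure R L) := by
  haveI : Algebra.IsIntegral R R' := Algebra.IsIntegral.of_finite R R'
  haveI : Module.Finite R (integralClosure R' L) := Module.Finite.trans R' _
  let e : (integralClosure R' L) →ₗ[R] integralClosure R L :=
    { toFun := fun x => ⟨x, isIntegral_trans (x : L) x.2⟩
      map_add' := fun _ _ => rfl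
      map_smul' := fun _ _ => rfl }
  refine Module.Finite.of_surjective e fun x => ⟨⟨x, ?_⟩, rfl⟩
  exact (x.2 : IsIntegral R (x : L)).tower_top

/-- A separable step on top of a finite closure. -/
theorem finite_integralClosure_separable {R K M N : Type u} [CommRing R] [IsDomain R]
    [IsNoetherianRing R] [Field K] [Field M] [Field N] [Algebra R K] [IsFractionRing R K]
    [Algebra K M] [FiniteDimensional K M] [Algebra R M] [IsScalarTower R K M] [Algebra M N]
    [FiniteDimensional M N] [Algebra.IsSeparable M N] [Algebra R N] [IsScalarTower R M N]
    [Module.Finite R (integralClosure R M)] : Module.Finite R (integralClosure R N) := by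
  let R1 := integralClosure R M
  haveI : IsFractionRing R1 M := integralClosure.isFractionRing_of_finite_extension K M
  haveI : IsIntegrallyClosed R1 := integralClosure.isIntegrallyClosedOfFiniteExtension K
  haveI : IsNoetherianRing R1 := IsNoetherianRing.of_finite R R1
  haveI : Module.Finite R1 (integralClosure R1 N) :=
    IsIntegralClosure.finite R1 M N (integralClosure R1 N)
  exact finite_integralClosure_of_tower (R' := R1)

/-- A normal Noetherian domain is N-2 as soon as its integral closure in every finite purely
inseparable extension of the fraction field is finite. -/
theorem isN2_of_purelyInseparable (R : Type u) [CommRing R] [IsDomain R] [IsNoetherianRing R]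
    [IsIntegrallyClosed R]
    (h : ∀ (M : Type u) [Field M] [Algebra R M] [Algebra (FractionRing R) M]
      [IsScalarTower R (FractionRing R) M] [FiniteDimensional (FractionRing R) M]
      [IsPurelyInseparable (FractionRing R) M], Module.Finite R (integralClosure R M)) :
    CAlg.IsN2 R := by
  intro L _ _ _ _ hfin
  haveI := hfin
  let K := FractionRing R
  -- pass to the normal closure
  let Ω := AlgebraicClosure L
  let N : IntermediateField K Ω := IntermediateField.normalClosure K L Ω
  haveI : FiniteDimensional K N := normalClosure.is_finiteDimensional K L Ω
  haveI : Normal K N := normalClosure.normal K L Ω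
  let M : IntermediateField K N := IntermediateField.fixedField (⊤ : Subgroup Gal(N/K))
  haveI : IsGalois M N := IsGalois.of_fixed_field N (⊤ : Subgroup Gal(N/K))
  haveI : IsPurelyInseparable K M := by
    classical
    rw [isPurelyInseparable_iff_natSepDegree_eq_one]
    intro x
    have halg : IsAlgebraic K (x : N) := Algebra.IsAlgebraic.isAlgebraic _
    have hmin : minpoly K x = minpoly K (x : N) :=
      (minpoly.algebraMap_eq (algebraMap M N).injective x).symm
    rw [hmin, Polynomial.natSepDegree_eq_of_splits _ (Normal.splits (inferInstance : Normal K N) (x : N))]
    have hroots : ((minpoly K (x : N)).aroots N).toFinset = {(x : N)} := by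
      ext y
      rw [Multiset.mem_toFinset, Polynomial.mem_aroots, Finset.mem_singleton]
      constructor
      · rintro ⟨_, hy⟩
        obtain ⟨σ, hσ⟩ := minpoly.exists_algEquiv_of_root halg hy
        have hfix := (IntermediateField.mem_fixedField_iff _ _).mp x.2 σ.symm (Subgroup.mem_top _)
        rw [← hfix, ← hσ, AlgEquiv.symm_apply_apply]
      · rintro rfl
        exact ⟨minpoly.ne_zero halg.isIntegral, minpoly.aeval K _⟩
    rw [hroots, Finset.card_singleton]
  haveI : FiniteDimensional K M := inferInstance
  haveI hR1 : Module.Finite R (integralClosure R M) := h M
  haveI : IsScalarTower R M N := IsScalarTower.of_algebraMap_eq fun r => rfl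
  haveI : Module.Finite R (integralClosure R N) :=
    finite_integralClosure_separable (K := K) (M := M)
  exact finite_integralClosure_of_algHom
    ((Algebra.IsAlgebraic.isAlgebraic (R := K) (A := L) |> fun _ =>
      (IntermediateField.inclusion (IsScalarTower.toAlgHom K L Ω).fieldRange_le_normalClosure).comp
        (AlgEquiv.ofInjectiveField (IsScalarTower.toAlgHom K L Ω)).toAlgHom).restrictScalars R)
    (RingHom.injective _)

end Groth.Agent.Nagata
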