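import Groth.Agent.Nagata.ReducedCore
import Groth.Agent.Nagata.Basic
import Groth.Agent.RegLoc.Completion
import Groth.Agent.Props.NormalCM
import Mathlib.RingTheory.AdicCompletion.LocalRing
import Mathlib.RingTheory.TensorProduct.Quotient
import Mathlib.RingTheory.Ideal.GoingUp

/-!
Nagata local domains are analytically unramified.
-/

set_option autoImplicit false
set_option linter.style.haveILetI false

open TensorProduct IsLocalRing

universe u

namespace Groth.Agent.Nagata

/-- A prime associated to a principal ideal of a normal Noetherian domain has height one and is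
locally principal. -/
theorem assPrime_of_normal {S : Type u} [CommRing S] [IsDomain S] [IsNoetherianRing S]
    [IsIntegrallyClosed S] {x : S} (hx : x ≠ 0) {p : Ideal S}
    (hp : p ∈ associatedPrimes S (S ⧸ Ideal.span {x})) :
    p ∈ (Ideal.span {x}).minimalPrimes ∧ LocPrincipal p ∧
      (maximalIdeal (Localization.AtPrime p (hp := hp.1))).IsPrincipal := by
  classical
  obtain ⟨hpp, z, hz⟩ := isAssociatedPrime_iff.mp hp
  haveI := hpp
  obtain ⟨y, rfl⟩ := Ideal.Quotient.mk_surjective z
  have hpy : ∀ b : S, b ∈ p ↔ b * y ∈ Ideal.span {x} := by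
    intro b
    rw [hz, Submodule.mem_colon_singleton, Submodule.mem_bot]
    exact Ideal.Quotient.eq_zero_iff_mem (a := b * y)
  let T := Localization.AtPrime p
  haveI : IsIntegrallyClosed T :=
    isIntegrallyClosed_of_isLocalization T p.primeCompl p.primeCompl_le_nonZeroDivisors
  have hprin : (maximalIdeal T).IsPrincipal := by
    by_contra hA
    have hx' : algebraMap S T x ≠ 0 :=
      fun h => hx ((IsLocalization.to_map_eq_zero_iff T p.primeCompl_le_nonZeroDivisors).mp h)
    have hdvd := Props.NormalCM.notMem_of_smul_mem hx' (y := algebraMap S T y) (fun b hb => ?_) hA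
    · obtain ⟨v, hv⟩ := hdvd
      obtain ⟨c, s, rfl⟩ := IsLocalization.exists_mk'_eq p.primeCompl v
      have h1 : algebraMap S T (y * s) = algebraMap S T (x * c) := by
        rw [map_mul, map_mul, hv, mul_assoc, IsLocalization.mk'_spec]
      have h2 := IsLocalization.injective T p.primeCompl_le_nonZeroDivisors h1
      exact s.2 ((hpy _).mpr (Ideal.mem_span_singleton'.mpr ⟨c, by rw [mul_comm, ← h2, mul_comm]⟩))
    · obtain ⟨b, s, rfl⟩ := IsLocalization.exists_mk'_eq p.primeCompl b
      obtain ⟨c, hc⟩ := Ideal.mem_span_singleton'.mp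
        ((hpy b).mp ((IsLocalization.AtPrime.mk'_mem_maximal_iff T p b s).mp hb))
      refine ⟨IsLocalization.mk' T c s, ?_⟩
      rw [IsLocalization.mul_mk'_eq_mk'_of_mul, mul_comm, IsLocalization.mul_mk'_eq_mk'_of_mul,
        mul_comm y b, ← hc, mul_comm c x]
  have hxp : x ∈ p := (hpy x).mpr (Ideal.mul_mem_right _ _ (Ideal.mem_span_singleton_self x))
  refine ⟨⟨⟨hpp, (Ideal.span_singleton_le_iff_mem _).mpr hxp⟩, fun q hq hqp => ?_⟩,
    locPrincipal_of_isPrincipal p hprin, hprin⟩
  haveI := hq.1
  have h2 : p.height ≤ 1 := by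
    have h := Ideal.height_le_one_of_isPrincipal_of_mem_minimalPrimes (maximalIdeal T) (maximalIdeal T)
      (by rw [Ideal.minimalPrimes_eq_subsingleton_self]; rfl)
    have h' : ringKrullDim T = p.height := IsLocalization.AtPrime.ringKrullDim_eq_height p T
    rw [← maximalIdeal_height_eq_ringKrullDim] at h'
    exact le_of_eq_of_le (WithBot.coe_injective h').symm h
  rcases eq_or_lt_of_le hqp with h | h
  · exact h.ge
  · exfalso
    have hq0 : (⊥ : Ideal S) < q := bot_lt_iff_ne_bot.mpr fun h0 => hx (by
      have := hq.2 (Ideal.mem_span_singleton_self x)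
      rwa [h0, Ideal.mem_bot] at this)
    have h3 := Ideal.height_strict_mono_of_isPrime_of_isPrime hq0
    have h4 := (Ideal.height_strict_mono_of_isPrime_of_isPrime h).trans_le h2
    rw [ENat.lt_one_iff_eq_zero] at h4
    rw [h4] at h3
    exact not_lt_bot h3

/-- The fraction field of a finite domain is finite over the fraction field. -/
theorem finiteDimensional_fractionRing (D S K L : Type u) [CommRing D] [CommRing S] [Field K] [Field L]
    [Algebra D S] [Module.Finite D S] [Algebra D K] [Algebra S L] [IsFractionRing S L] [Algebra K L]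
    [Algebra D L] [IsScalarTower D K L] [IsScalarTower D S L] : FiniteDimensional K L := by
  classical
  obtain ⟨G, hG⟩ := Module.Finite.fg_top (R := D) (M := S)
  let A : Subalgebra K L := Algebra.adjoin K (algebraMap S L '' (G : Set S))
  haveI : Module.Finite K A := Algebra.finite_adjoin_of_finite_of_isIntegral (G.finite_toSet.image _) (by
    rintro _ ⟨g, -, rfl⟩
    exact ((Algebra.IsIntegral.of_finite D S).isIntegral g |>.map (IsScalarTower.toAlgHom D S L)).tower_top)
  have hS : ∀ s : S, algebraMap S L s ∈ A := by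
    intro s
    have hs : s ∈ Submodule.span D (G : Set S) := hG ▸ Submodule.mem_top
    induction hs using Submodule.span_induction with
    | mem g hg => exact Algebra.subset_adjoin ⟨g, hg, rfl⟩
    | zero => rw [map_zero]; exact A.zero_mem
    | add a b _ _ ha hb => rw [map_add]; exact A.add_mem ha hb
    | smul c a _ ha =>
      rw [Algebra.smul_def, map_mul, ← IsScalarTower.algebraMap_apply D S L,
        IsScalarTower.algebraMap_apply D K L]
      exact A.mul_mem (A.algebraMap_mem _) ha
  refine Module.Finite.of_surjective A.val.toLinearMap fun z => ?_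
  obtain ⟨a, b, -, rfl⟩ := IsFractionRing.div_surjective S z
  refine ⟨⟨_, ?_⟩, rfl⟩
  change algebraMap S L a / algebraMap S L b ∈ A
  rw [div_eq_mul_inv]
  refine A.mul_mem (hS a) ?_
  have hint : IsIntegral K (algebraMap S L b) :=
    ((Algebra.IsIntegral.of_finite K A).isIntegral (⟨_, hS b⟩ : A)).map A.val
  exact (Algebra.adjoin_le (Set.singleton_subset_iff.mpr (hS b))) hint.inv_mem_adjoin

theorem mem_map_of_tensor_mk_eq_zero {R S B : Type u} [CommRing R] [CommRing S] [CommRing B] [Algebra R S]
    [Algebra R B] (p : Ideal S) (z : S ⊗[R] B)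
    (hz : (Algebra.TensorProduct.map (Ideal.Quotient.mkₐ R p) (AlgHom.id R B)) z = 0) :
    z ∈ p.map (algebraMap S (S ⊗[R] B)) := by
  let g : S →ₗ[R] S ⧸ p := (Ideal.Quotient.mkₐ R p).toLinearMap
  have hz' : g.rTensor B z = 0 := hz
  obtain ⟨w, rfl⟩ := (rTensor_exact B (LinearMap.exact_subtype_ker_map g)
    Ideal.Quotient.mk_surjective z).mp hz'
  clear hz hz'
  induction w using TensorProduct.induction_on with
  | zero => simp
  | tmul a b =>
    rw [LinearMap.rTensor_tmul]
    have : (a : S) ⊗ₜ[R] b = algebraMap S (S ⊗[R] B) a * ((1 : S) ⊗ₜ b) := by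
      rw [Algebra.TensorProduct.algebraMap_apply, Algebra.TensorProduct.tmul_mul_tmul, one_mul]
      simp
    rw [Submodule.subtype_apply, this]
    exact Ideal.mul_mem_right _ _ (Ideal.mem_map_of_mem _ (Ideal.Quotient.eq_zero_iff_mem.mp a.2))
  | add u v hu hv => rw [map_add]; exact Ideal.add_mem _ hu hv

variable {R : Type u} [CommRing R] [IsLocalRing R] [IsNoetherianRing R]

local notation "Rh" => AdicCompletion (maximalIdeal R) R

set_option maxHeartbeats 1600000 in
set_option synthInstance.maxHeartbeats 80000 in
theorem isReduced_tensor_completion (hR : CAlg.IsNagata R) :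
    ∀ (S : Type u) [CommRing S] [IsDomain S] [Algebra R S] [Module.Finite R S],
      IsReduced (S ⊗[R] Rh) := by
  classical
  suffices ∀ (P : Ideal R) (S : Type u) [CommRing S] [IsDomain S] [Algebra R S] [Module.Finite R S],
      RingHom.ker (algebraMap R S) = P → IsReduced (S ⊗[R] Rh) from fun S _ _ _ _ => this _ S rfl
  intro P
  induction P using (IsWellFounded.induction (α := Ideal R) (· > ·)) with
  | ind P ih =>
  intro S₀ _ _ _ _ hker₀
  haveI hPp : P.IsPrime := hker₀ ▸ RingHom.ker_isPrime _
  -- normalisation
  let D := R ⧸ P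
  letI : Algebra D S₀ := (Ideal.Quotient.lift P (algebraMap R S₀) fun a ha => by
    rwa [← hker₀, RingHom.mem_ker] at ha).toAlgebra
  haveI : IsScalarTower R D S₀ := IsScalarTower.of_algebraMap_eq fun r => rfl
  haveI : FaithfulSMul D S₀ := (faithfulSMul_iff_algebraMap_injective D S₀).mpr
    (RingHom.lift_injective_of_ker_le_ideal _ _ hker₀.le)
  haveI : Module.Finite D S₀ := Module.Finite.of_restrictScalars_finite R D S₀
  let K := FractionRing D
  let L := FractionRing S₀
  letI : Algebra K L := FractionRing.liftAlgebra D L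
  haveI : FiniteDimensional K L := finiteDimensional_fractionRing D S₀ K L
  have hN2 : CAlg.IsN2 D := hR.2 P
  haveI : Module.Finite D (integralClosure D L) := Props.N2Local.finite_integralClosure hN2 K L
  let S := integralClosure D L
  haveI : IsFractionRing S L := integralClosure.isFractionRing_of_finite_extension K L
  haveI : IsIntegrallyClosed S := integralClosure.isIntegrallyClosedOfFiniteExtension K
  haveI : Module.Finite R S := Module.Finite.trans D S
  haveI : IsNoetherianRing S := IsNoetherianRing.of_finite R S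
  let f : S₀ →ₐ[R] S := ((IsScalarTower.toAlgHom D S₀ L).codRestrict S fun s =>
    (Algebra.IsIntegral.isIntegral (R := D) s).map (IsScalarTower.toAlgHom D S₀ L)).restrictScalars R
  have hf : Function.Injective f := fun a b h =>
    IsFractionRing.injective S₀ L (congrArg Subtype.val h)
  have hker : RingHom.ker (algebraMap R S) = P := by
    refine Eq.trans ?_ hker₀
    ext r
    rw [RingHom.mem_ker, RingHom.mem_ker, ← f.commutes, map_eq_zero_iff f hf]
  suffices IsReduced (S ⊗[R] Rh) by
    exact isReduced_of_injective (Algebra.TensorProduct.map f (AlgHom.id R Rh))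
      (Module.Flat.rTensor_preserves_injective_linearMap (M := Rh) f.toLinearMap hf)
  rcases eq_or_lt_of_le (IsLocalRing.le_maximalIdeal hPp.ne_top) with hPm | hPm
  · -- killed by the maximal ideal
    let g : Rh →ₐ[R] S :=
      { toRingHom := (Ideal.Quotient.lift (maximalIdeal R) (algebraMap R S) fun a ha => by
          rwa [← hPm, ← hker, RingHom.mem_ker] at ha).comp (AdicCompletion.evalOneₐ (maximalIdeal R)).toRingHom
        commutes' := fun r => by
          simp }
    let ret : S ⊗[R] Rh →ₐ[R] S := Algebra.TensorProduct.lift (AlgHom.id R S) g fun _ _ => Commute.all _ _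
    have hsurj : ∀ w : S ⊗[R] Rh, ∃ s : S, w = s ⊗ₜ 1 := by
      intro w
      induction w using TensorProduct.induction_on with
      | zero => exact ⟨0, (TensorProduct.zero_tmul _ _).symm⟩
      | tmul s b =>
        obtain ⟨r, hr⟩ := Ideal.Quotient.mk_surjective (AdicCompletion.evalOneₐ (maximalIdeal R) b)
        refine ⟨r • s, ?_⟩
        have hmem : b - algebraMap R Rh r ∈ (maximalIdeal R).map (algebraMap R Rh) := by
          rw [← AdicCompletion.ker_evalOneₐ_eq_map _ (IsNoetherian.noetherian _), RingHom.mem_ker, map_sub,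
            sub_eq_zero, AlgHom.toRingHom_eq_coe, RingHom.coe_coe, ← hr]
          simp
        rw [TensorProduct.smul_tmul, ← sub_eq_zero, ← TensorProduct.tmul_sub, ← Algebra.algebraMap_eq_smul_one]
        generalize b - algebraMap R Rh r = v at hmem
        induction hmem using Submodule.span_induction generalizing s with
        | mem v hv =>
          obtain ⟨a, ha, rfl⟩ := hv
          rw [Algebra.algebraMap_eq_smul_one, ← TensorProduct.smul_tmul, Algebra.smul_def,
            show algebraMap R S a = 0 from by rwa [← RingHom.mem_ker, hker, hPm], zero_mul,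
            TensorProduct.zero_tmul]
        | zero => simp
        | add u v _ _ hu hv => rw [TensorProduct.tmul_add, hu, hv, add_zero]
        | smul c v _ hv =>
          have : s ⊗ₜ[R] (c • v) = ((1 : S) ⊗ₜ[R] c) * (s ⊗ₜ[R] v) := by
            rw [Algebra.TensorProduct.tmul_mul_tmul, one_mul, smul_eq_mul]
          rw [this, hv, mul_zero]
      | add u v hu hv =>
        obtain ⟨a, rfl⟩ := hu; obtain ⟨b, rfl⟩ := hv
        exact ⟨a + b, (TensorProduct.add_tmul _ _ _).symm⟩
    refine isReduced_of_injective ret fun a b hab => ?_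
    obtain ⟨s, rfl⟩ := hsurj a
    obtain ⟨t, rfl⟩ := hsurj b
    have : s = t := by simpa [ret] using hab
    rw [this]
  -- cut by an element of the maximal ideal
  obtain ⟨x, hxm, hxP⟩ := SetLike.exists_of_lt hPm
  have hx0 : algebraMap R S x ≠ 0 := fun h => hxP (by rw [← hker]; exact h)
  haveI : IsNoetherianRing Rh := RegLoc.Completion.isNoetherianRing_adicCompletion' _
  haveI : IsNoetherianRing (Rh ⊗[R] S) := IsNoetherianRing.of_finite Rh _
  haveI : IsNoetherianRing (S ⊗[R] Rh) :=
    isNoetherianRing_of_ringEquiv (Rh ⊗[R] S) (Algebra.TensorProduct.comm R Rh S).toRingEquiv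
  refine isReduced_of_divisor (A := S) (B := S ⊗[R] Rh) (algebraMap R S x) (fun a b h => mul_left_cancel₀ hx0 h) ?_
    fun p hp => ?_
  · rw [← IsScalarTower.algebraMap_apply, Ideal.mem_jacobson_bot]
    intro y
    let e := (Algebra.TensorProduct.comm R S Rh)
    have hxj : algebraMap R (Rh ⊗[R] S) x ∈ (⊥ : Ideal (Rh ⊗[R] S)).jacobson := by
      rw [Ideal.jacobson, Ideal.mem_sInf]
      intro M hM
      haveI : M.IsMaximal := hM.2
      haveI : Algebra.IsIntegral Rh (Rh ⊗[R] S) := Algebra.IsIntegral.of_finite _ _
      have hmax := Ideal.isMaximal_comap_of_isIntegral_of_isMaximal (R := Rh) M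
      have : algebraMap R Rh x ∈ M.comap (algebraMap Rh (Rh ⊗[R] S)) := by
        rw [IsLocalRing.eq_maximalIdeal hmax, AdicCompletion.maximalIdeal_eq_map]
        exact Ideal.mem_map_of_mem _ hxm
      rwa [Ideal.mem_comap, ← IsScalarTower.algebraMap_apply] at this
    have := Ideal.mem_jacobson_bot.mp hxj (e y)
    have hu := this.map e.symm
    rwa [map_add, map_mul, map_one, AlgEquiv.commutes, AlgEquiv.symm_apply_apply] at hu
  · obtain ⟨hmin, hloc, -⟩ := assPrime_of_normal hx0 hp
    haveI := hmin.1.1
    refine ⟨hmin, hloc, ?_⟩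
    haveI : Module.Finite R (S ⧸ p) := Module.Finite.trans S _
    have hlt : RingHom.ker (algebraMap R (S ⧸ p)) > P := by
      refine lt_of_le_of_ne (fun r hr => ?_) fun h => hxP ?_
      · rw [RingHom.mem_ker, IsScalarTower.algebraMap_apply R S, show algebraMap R S r = 0 by
          rwa [← RingHom.mem_ker, hker], map_zero]
      · rw [h, RingHom.mem_ker, IsScalarTower.algebraMap_apply R S, Ideal.Quotient.algebraMap_eq,
          Ideal.Quotient.eq_zero_iff_mem]
        exact hmin.1.2 (Ideal.mem_span_singleton_self _)
    haveI := ih _ hlt (S ⧸ p) rfl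
    let F : S ⊗[R] Rh →ₐ[R] (S ⧸ p) ⊗[R] Rh :=
      Algebra.TensorProduct.map (Ideal.Quotient.mkₐ R p) (AlgHom.id R Rh)
    have hkill : ∀ z ∈ p.map (algebraMap S (S ⊗[R] Rh)), F z = 0 := by
      intro z hz
      refine (Ideal.map_le_iff_le_comap.mpr (fun a ha => ?_) :
        p.map (algebraMap S (S ⊗[R] Rh)) ≤ RingHom.ker F.toRingHom) hz
      show F (a ⊗ₜ 1) = 0
      simp [F, Ideal.Quotient.eq_zero_iff_mem.mpr ha]
    refine isReduced_of_injective (Ideal.Quotient.lift _ F.toRingHom hkill)
      (RingHom.lift_injective_of_ker_le_ideal _ _ fun z hz => ?_)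
    exact mem_map_of_tensor_mk_eq_zero p z hz

theorem isReduced_completion_of_isNagata [IsDomain R] (hR : CAlg.IsNagata R) : IsReduced Rh := by
  haveI := isReduced_tensor_completion hR R
  exact isReduced_of_injective (Algebra.TensorProduct.lid R Rh).symm
    (Algebra.TensorProduct.lid R Rh).symm.injective

end Groth.Agent.Nagata
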