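import Groth.Prelude.Def_Found
import Groth.Agent.CAlgLib.ResidueExt
import Groth.Agent.RegLoc.AdicNoeth
import Mathlib

/-!
Existence of Cohen rings.
-/

namespace Groth.Agent.Nagata.CohenRing

universe u

open IsLocalRing

/-- A Noetherian local ring whose maximal ideal is generated by a non zero divisor is a DVR. -/
theorem isDVR_of_span {R : Type u} [CommRing R] [IsLocalRing R] [IsNoetherianRing R] (π : R)
    (hπ : maximalIdeal R = Ideal.span {π}) (hnzd : IsRegular π) :
    ∃ _ : IsDomain R, IsDiscreteValuationRing R := by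
  have hrep : ∀ x : R, x ≠ 0 → ∃ (n : ℕ) (u : Rˣ), x = u * π ^ n := by
    intro x hx
    have hk : (⨅ n : ℕ, maximalIdeal R ^ n) = ⊥ :=
      Ideal.iInf_pow_eq_bot_of_isLocalRing _ (maximalIdeal.isMaximal R).ne_top
    have : ∃ n, x ∉ maximalIdeal R ^ n := by
      by_contra h
      push Not at h
      exact hx ((Submodule.mem_bot R).mp (hk ▸ Submodule.mem_iInf _ |>.mpr h))
    classical
    obtain ⟨n, hn⟩ : ∃ n, x ∈ maximalIdeal R ^ n ∧ x ∉ maximalIdeal R ^ (n + 1) := by
      have h1 := Nat.find_spec this
      rcases h : Nat.find this with _ | n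
      · rw [h] at h1; simp at h1
      · refine ⟨n, ?_, h ▸ h1⟩
        by_contra h2
        exact absurd (Nat.find_min' this h2) (by omega)
    rw [hπ, Ideal.span_singleton_pow, Ideal.span_singleton_pow, Ideal.mem_span_singleton,
      Ideal.mem_span_singleton] at hn
    obtain ⟨c, rfl⟩ := hn.1
    have hc : IsUnit c := by
      by_contra h
      have : c ∈ maximalIdeal R := h
      rw [hπ, Ideal.mem_span_singleton] at this
      obtain ⟨d, rfl⟩ := this
      exact hn.2 ⟨d, by ring⟩
    exact ⟨n, hc.unit, by rw [IsUnit.unit_spec]; ring⟩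
  have hdom : IsDomain R := by
    have : NoZeroDivisors R := ⟨fun {x y} h => by
      by_contra hc
      push Not at hc
      obtain ⟨n, u, rfl⟩ := hrep x hc.1
      obtain ⟨m, v, rfl⟩ := hrep y hc.2
      have h2 : π ^ (n + m) * ((u * v : Rˣ) : R) = π ^ (n + m) * 0 := by
        rw [mul_zero, ← h]; push_cast; ring
      exact (u * v).ne_zero ((hnzd.pow (n + m)).left h2)⟩
    exact NoZeroDivisors.to_isDomain R
  refine ⟨hdom, ?_⟩
  have hne : ¬ IsField R := by
    intro hF
    have hbot := IsLocalRing.isField_iff_maximalIdeal_eq.mp hF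
    rw [hπ, Ideal.span_singleton_eq_bot] at hbot
    exact not_subsingleton R (subsingleton_of_zero_eq_one (hnzd.left (by simp [hbot])))
  have hpr : (maximalIdeal R).IsPrincipal := ⟨π, hπ⟩
  exact ((IsDiscreteValuationRing.TFAE R hne).out 0 4).mpr hpr

/-- Cohen rings exist. -/
theorem exists_cohenRing (p : ℕ) [hp : Fact p.Prime] (k : Type u) [Field k] [CharP k p] :
    ∃ (Λ : Type u) (_ : CommRing Λ) (_ : IsLocalRing Λ), CAlg.IsCohenRing Λ ∧
      Nonempty (IsLocalRing.ResidueField Λ ≃+* k) := by
  let Z := ULift.{u} ℤ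
  let e : Z ≃+* ℤ := ULift.ringEquiv
  have : IsNoetherianRing Z := isNoetherianRing_of_ringEquiv ℤ e.symm
  let f : Z →+* k := (Int.castRingHom k).comp e.toRingHom
  have : IsDomain Z := e.injective.isDomain
  let P : Ideal Z := RingHom.ker f
  have hP : P.IsPrime := RingHom.ker_isPrime f
  have hPeq : P = Ideal.span {(p : Z)} := by
    ext x
    rw [RingHom.mem_ker, Ideal.mem_span_singleton]
    change (((e x : ℤ)) : k) = 0 ↔ _
    rw [CharP.intCast_eq_zero_iff k p]
    constructor
    · rintro ⟨c, hc⟩
      refine ⟨e.symm c, e.injective ?_⟩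
      rw [map_mul, map_natCast, e.apply_symm_apply, hc]
    · rintro ⟨c, rfl⟩
      exact ⟨e c, by rw [map_mul, map_natCast]⟩
  let A := Localization.AtPrime P
  have : IsNoetherianRing A := IsLocalization.isNoetherianRing P.primeCompl A inferInstance
  have hu : ∀ y : P.primeCompl, IsUnit (f y) := fun y => IsUnit.mk0 _ y.2
  let _ : Algebra A k := (IsLocalization.lift (S := A) hu).toAlgebra
  have hA : RingHom.ker (algebraMap A k) = maximalIdeal A := by
    refine le_antisymm (IsLocalRing.le_maximalIdeal (RingHom.ker_ne_top _)) ?_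
    rw [← Localization.AtPrime.map_eq_maximalIdeal, Ideal.map_le_iff_le_comap]
    intro x hx
    rw [Ideal.mem_comap, RingHom.mem_ker, RingHom.algebraMap_toAlgebra, IsLocalization.lift_eq]
    exact hx
  have hmA : maximalIdeal A = Ideal.span {(p : A)} := by
    refine (Localization.AtPrime.map_eq_maximalIdeal (I := P)).symm.trans
      ((congrArg (Ideal.map (algebraMap Z A)) hPeq).trans ?_)
    rw [Ideal.map_span, Set.image_singleton, map_natCast]
  obtain ⟨B, _, _, _, _, _, _, ψ, hψs, hψk⟩ := CAlgLib.ResidueExt.exists_flat_extension A k hA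
  have hkmax : (RingHom.ker ψ).IsMaximal := RingHom.ker_isMaximal_of_surjective ψ hψs
  have hmB : maximalIdeal B = Ideal.span {(p : B)} := by
    rw [← IsLocalRing.eq_maximalIdeal hkmax, hψk, hmA, Ideal.map_span, Set.image_singleton,
      map_natCast]
  have : IsDomain A :=
    IsLocalization.isDomain_of_le_nonZeroDivisors (R := Z) (S := A) P.primeCompl_le_nonZeroDivisors
  have hpA : IsRegular (p : A) := by
    have hinj : Function.Injective (algebraMap Z A) := IsLocalization.injective A P.primeCompl_le_nonZeroDivisors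
    have : (p : Z) ≠ 0 := by
      intro h
      have h2 : ((p : ℤ)) = 0 := by rw [← map_natCast e, h, map_zero]
      exact hp.out.ne_zero (by exact_mod_cast h2)
    refine IsRegular.of_ne_zero ?_
    rw [← map_natCast (algebraMap Z A)]
    exact fun h => this (hinj (h.trans (map_zero _).symm))
  have hregB : IsSMulRegular B (p : A) :=
    Module.Flat.isSMulRegular_of_nonZeroDivisors (mem_nonZeroDivisors_of_ne_zero hpA.ne_zero)
  let Λ := AdicCompletion (maximalIdeal B) B
  have : IsNoetherianRing (B ⧸ maximalIdeal B) := inferInstance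
  have : IsNoetherianRing Λ :=
    RegLoc.AdicNoeth.isNoetherianRing_adicCompletion _ (maximalIdeal B).fg_of_isNoetherianRing
  have hmΛ : maximalIdeal Λ = Ideal.span {(p : Λ)} := by
    refine AdicCompletion.maximalIdeal_eq_map.trans
      ((congrArg (Ideal.map (algebraMap B Λ)) hmB).trans ?_)
    rw [Ideal.map_span, Set.image_singleton, map_natCast]
  have hpB : IsRegular (p : B) := by
    rw [isRegular_iff_mem_nonZeroDivisors, mem_nonZeroDivisors_iff_right]
    intro x hx
    apply hregB
    simp only [Algebra.smul_def, mul_zero]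
    rw [show algebraMap A B (p : A) = (p : B) from map_natCast _ p, mul_comm]; exact hx
  have hregΛ : IsRegular (p : Λ) := by
    rw [isRegular_iff_mem_nonZeroDivisors, mem_nonZeroDivisors_iff_right]
    intro x hx
    have := Module.Flat.isSMulRegular_of_nonZeroDivisors (M := Λ) (r := (p : B))
      hpB.mem_nonZeroDivisors
    apply this
    simp only [Algebra.smul_def, map_natCast, mul_zero]
    rw [mul_comm]; exact hx
  obtain ⟨hdom, hdvr⟩ := isDVR_of_span (p : Λ) hmΛ hregΛ
  refine ⟨Λ, inferInstance, inferInstance, ⟨hdom, hdvr, inferInstance, p, hp.out, hmΛ⟩, ⟨?_⟩⟩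
  refine (RingEquiv.ofBijective _ (AdicCompletion.residueField_map_bijective B)).symm.trans ?_
  exact (Ideal.quotEquivOfEq (IsLocalRing.eq_maximalIdeal hkmax).symm).trans
    (RingHom.quotientKerEquivOfSurjective hψs)

end Groth.Agent.Nagata.CohenRing
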