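import Groth.Prelude.Def_Found
import Groth.Agent.Nagata.CohenRing
import Groth.Agent.S9455
import Groth.Agent.RegLoc.CoeffField
import Groth.Agent.CAlg48.PSEval
import Mathlib

/-!
Cohen structure theorem: complete local rings are quotients of power series rings over Cohen rings
or fields.
-/

namespace Groth.Agent.Nagata.CohenLift

universe u

open IsLocalRing

variable {R : Type u} [CommRing R] [IsLocalRing R]

theorem exists_lift_step (Λ : Type u) [CommRing Λ] [IsDomain Λ] [IsDiscreteValuationRing Λ]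
    [IsAdicComplete (maximalIdeal Λ) Λ] (p : ℕ) (hp : p.Prime)
    (hm : maximalIdeal Λ = Ideal.span {(p : Λ)}) (hpR : (p : R) ∈ maximalIdeal R) (n : ℕ)
    (u : Λ →+* R ⧸ maximalIdeal R ^ (n + 1)) :
    ∃ u' : Λ →+* R ⧸ maximalIdeal R ^ (n + 2),
      (Ideal.Quotient.factorPow (maximalIdeal R) (Nat.le_succ (n + 1))).comp u' = u := by
  classical
  let m := maximalIdeal R
  set N := p ^ (n + 2) with hN
  let A := Λ ⧸ Ideal.span {((p : Λ) ^ (n + 2))}
  have hmem : ∀ j, j ≤ n + 2 → ((N : ℕ) : R) ∈ m ^ j := fun j hj => by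
    rw [hN, Nat.cast_pow]
    exact Ideal.pow_le_pow_right hj (Ideal.pow_mem_pow hpR _)
  have hz : ∀ j, j ≤ n + 2 → ((N : ℕ) : R ⧸ m ^ j) = 0 := fun j hj => by
    rw [← map_natCast (Ideal.Quotient.mk (m ^ j)), Ideal.Quotient.eq_zero_iff_mem]
    exact hmem j hj
  let hh : ∀ j, j ≤ n + 2 → (ZMod N →+* R ⧸ m ^ j) := fun j hj =>
    ZMod.castHom (ringChar.dvd (hz j hj)) (R ⧸ m ^ j)
  let _ : Algebra (ZMod N) A :=
    (ZMod.castHom (ringChar.dvd (show ((N : ℕ) : A) = 0 by
      rw [← map_natCast (Ideal.Quotient.mk _), Ideal.Quotient.eq_zero_iff_mem, hN, Nat.cast_pow]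
      exact Ideal.mem_span_singleton_self _)) A).toAlgebra
  let _ : Algebra (ZMod N) (R ⧸ m ^ (n + 2)) := (hh (n + 2) le_rfl).toAlgebra
  let _ : Algebra (ZMod N) (R ⧸ m ^ (n + 1)) := (hh (n + 1) (by omega)).toAlgebra
  have hfs : Algebra.FormallySmooth (ZMod N) A := S9455.result Λ p hp hm (n + 2) (by omega)
  have hker : ∀ a ∈ Ideal.span {((p : Λ) ^ (n + 2))}, u a = 0 := by
    intro a ha
    obtain ⟨c, rfl⟩ := Ideal.mem_span_singleton'.mp ha
    rw [map_mul, map_pow, map_natCast]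
    have := hz (n + 1) (by omega)
    rw [hN, Nat.cast_pow] at this
    rw [this, mul_zero]
  let ubar : A →ₐ[ZMod N] R ⧸ m ^ (n + 1) :=
    { Ideal.Quotient.lift _ u hker with
      commutes' := fun r => RingHom.congr_fun (Subsingleton.elim
        ((Ideal.Quotient.lift _ u hker).comp (algebraMap (ZMod N) A))
        (algebraMap (ZMod N) (R ⧸ m ^ (n + 1)))) r }
  let π : (R ⧸ m ^ (n + 2)) →ₐ[ZMod N] R ⧸ m ^ (n + 1) :=
    { Ideal.Quotient.factorPow m (Nat.le_succ (n + 1)) with
      commutes' := fun r => RingHom.congr_fun (Subsingleton.elim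
        ((Ideal.Quotient.factorPow m (Nat.le_succ (n + 1))).comp
          (algebraMap (ZMod N) (R ⧸ m ^ (n + 2))))
        (algebraMap (ZMod N) (R ⧸ m ^ (n + 1)))) r }
  have hπ : Function.Surjective π :=
    Ideal.Quotient.factor_surjective (Ideal.pow_le_pow_right (Nat.le_succ (n + 1)))
  have hπn : IsNilpotent (RingHom.ker (π : (R ⧸ m ^ (n + 2)) →+* R ⧸ m ^ (n + 1))) := by
    refine ⟨2, eq_bot_iff.mpr ?_⟩
    have hk : RingHom.ker (π : (R ⧸ m ^ (n + 2)) →+* R ⧸ m ^ (n + 1)) =
        (m ^ (n + 1)).map (Ideal.Quotient.mk (m ^ (n + 2))) := by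
      refine le_antisymm ?_ ?_
      · intro x hx
        obtain ⟨r, rfl⟩ := Ideal.Quotient.mk_surjective x
        exact Ideal.mem_map_of_mem _ (Ideal.Quotient.eq_zero_iff_mem.mp hx)
      · rw [Ideal.map_le_iff_le_comap]
        exact fun r hr => Ideal.Quotient.eq_zero_iff_mem.mpr hr
    rw [hk, ← Ideal.map_pow, ← pow_mul]
    refine le_of_eq_of_le ?_ le_rfl
    rw [Ideal.map_eq_bot_iff_le_ker, Ideal.mk_ker]
    exact Ideal.pow_le_pow_right (by omega)
  let v := Algebra.FormallySmooth.liftOfSurjective ubar π hπ hπn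
  have hv : π.comp v = ubar := Algebra.FormallySmooth.comp_liftOfSurjective _ _ _ _
  refine ⟨v.toRingHom.comp (Ideal.Quotient.mk _), RingHom.ext fun a => ?_⟩
  have h := AlgHom.congr_fun hv (Ideal.Quotient.mk _ a)
  exact h.trans (Ideal.Quotient.lift_mk _ u hker)

/-- A complete local ring receives a ring map from a field or Cohen ring inducing a surjection onto
the residue field. -/
theorem exists_coeff (R : Type u) [CommRing R] [IsLocalRing R] [IsAdicComplete (maximalIdeal R) R] :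
    ∃ (Λ : Type u) (_ : CommRing Λ), (IsField Λ ∨ CAlg.IsCohenRing Λ) ∧
      ∃ g : Λ →+* R, Function.Surjective ((residue R).comp g) := by
  obtain ⟨p, hchar⟩ := CharP.exists (ResidueField R)
  rcases CharP.char_is_prime_or_zero (ResidueField R) p with hp | rfl
  · have := Fact.mk hp
    obtain ⟨Λ, _, _, hΛ, ⟨e⟩⟩ := CohenRing.exists_cohenRing p (ResidueField R)
    obtain ⟨hdom, hdvr, hcpl, q, hq, hm⟩ := id hΛ
    have hpR : ((q : ℕ) : R) ∈ maximalIdeal R := by
      have h1 : residue Λ (q : Λ) = 0 :=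
        Ideal.Quotient.eq_zero_iff_mem.mpr (hm ▸ Ideal.mem_span_singleton_self _)
      have h2 : residue R (q : R) = 0 := by
        rw [map_natCast, ← map_natCast e, ← map_natCast (residue Λ), h1, map_zero]
      exact Ideal.Quotient.eq_zero_iff_mem.mp h2
    set m := maximalIdeal R
    let u0 : Λ →+* R ⧸ m ^ (0 + 1) :=
      (Ideal.quotEquivOfEq (show m = m ^ (0 + 1) by rw [zero_add, pow_one])).toRingHom.comp
        (e.toRingHom.comp (residue Λ))
    choose step hstep using exists_lift_step (R := R) Λ q hq hm hpR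
    let u : ∀ n : ℕ, Λ →+* R ⧸ m ^ (n + 1) :=
      fun n => Nat.rec (motive := fun n => Λ →+* R ⧸ m ^ (n + 1)) u0 step n
    have hmono : StrictMono (fun n : ℕ => n + 1) := fun a b h => by simpa using h
    let g : Λ →+* R := IsAdicComplete.StrictMono.liftRingHom m hmono u (fun {n} => hstep n (u n))
    refine ⟨Λ, inferInstance, Or.inr hΛ, g, fun x => ?_⟩
    obtain ⟨a, ha⟩ := residue_surjective (e.symm x)
    refine ⟨a, ?_⟩
    have h1 : Ideal.Quotient.mk (m ^ (0 + 1)) (g a) = u0 a :=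
      IsAdicComplete.StrictMono.mk_liftRingHom m hmono u _ (n := 0) a
    obtain ⟨r, hr⟩ := residue_surjective x
    have h2 : u0 a = Ideal.Quotient.mk (m ^ (0 + 1)) r := by
      change (Ideal.quotEquivOfEq (show m = m ^ (0 + 1) by rw [zero_add, pow_one])) (e (residue Λ a)) = _
      rw [ha, RingEquiv.apply_symm_apply, ← hr]
      rfl
    rw [h2, Ideal.Quotient.eq, zero_add, pow_one] at h1
    rw [RingHom.comp_apply, ← hr]
    exact Ideal.Quotient.eq.mpr h1
  · have := CharP.charP_to_charZero (ResidueField R)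
    obtain ⟨s, hs⟩ := Groth.Agent.RegLoc.exists_coefficient_field R
    exact ⟨ResidueField R, inferInstance, Or.inl (Field.toIsField _), s,
      fun x => ⟨x, RingHom.congr_fun hs x⟩⟩

theorem surjective_of_gen (Λ : Type u) [CommRing Λ] (g : Λ →+* R) [IsAdicComplete (maximalIdeal R) R]
    (hg : Function.Surjective ((residue R).comp g)) {n : ℕ} (f : MvPowerSeries (Fin n) Λ →+* R)
    (hfC : ∀ a, f (MvPowerSeries.C a) = g a)
    (hgen : Ideal.span (Set.range fun i => f (MvPowerSeries.X i)) = maximalIdeal R) :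
    Function.Surjective f := by
  have hmap : (Ideal.span (Set.range (MvPowerSeries.X : Fin n → MvPowerSeries (Fin n) Λ))).map f =
      maximalIdeal R := by
    rw [Ideal.map_span, ← Set.range_comp]
    exact hgen
  have : IsHausdorff ((Ideal.span (Set.range (MvPowerSeries.X : Fin n → MvPowerSeries (Fin n) Λ))).map f) R := by
    rw [hmap]; infer_instance
  refine surjective_of_mk_map_comp_surjective
    (I := Ideal.span (Set.range (MvPowerSeries.X : Fin n → MvPowerSeries (Fin n) Λ))) f ?_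
  intro y
  obtain ⟨y, rfl⟩ := Ideal.Quotient.mk_surjective y
  obtain ⟨x, hx⟩ := hg (residue R y)
  refine ⟨MvPowerSeries.C x, ?_⟩
  rw [RingHom.comp_apply, hfC, Ideal.Quotient.eq, hmap]
  exact Ideal.Quotient.eq.mp hx

/-- Evaluation map with given constants. -/
theorem exists_eval [IsAdicComplete (maximalIdeal R) R] (Λ : Type u) [CommRing Λ] (g : Λ →+* R)
    {n : ℕ} (b : Fin n → R) (hb : ∀ i, b i ∈ maximalIdeal R) :
    ∃ f : MvPowerSeries (Fin n) Λ →+* R, (∀ a, f (MvPowerSeries.C a) = g a) ∧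
      ∀ i, f (MvPowerSeries.X i) = b i := by
  let _ : Algebra Λ R := g.toAlgebra
  obtain ⟨ψ, hψ⟩ := CAlg48.PSEval.exists_algHom (k := Λ) (maximalIdeal R) b hb
  exact ⟨ψ.toRingHom, fun a => ψ.commutes a, hψ⟩

theorem exists_surjective (R : Type u) [CommRing R] [IsLocalRing R]
    [IsAdicComplete (maximalIdeal R) R] (hfg : (maximalIdeal R).FG) :
    ∃ (Λ : Type u) (_ : CommRing Λ) (n : ℕ) (f : MvPowerSeries (Fin n) Λ →+* R),
      (IsField Λ ∨ CAlg.IsCohenRing Λ) ∧ Function.Surjective f := by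
  obtain ⟨Λ, _, hΛ, g, hg⟩ := exists_coeff R
  obtain ⟨n, b, hb⟩ := Submodule.fg_iff_exists_fin_generating_family.mp hfg
  obtain ⟨f, hfC, hfX⟩ := exists_eval Λ g b fun i => hb ▸ Submodule.subset_span (Set.mem_range_self i)
  refine ⟨Λ, inferInstance, n, f, hΛ, surjective_of_gen Λ g hg f hfC ?_⟩
  simp only [hfX]
  exact hb

end Groth.Agent.Nagata.CohenLift
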