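import Groth.Prelude.Def_Found
import Groth.Agent.Nagata.CohenLift
import Groth.Agent.PSLoc.Basic
import Groth.Agent.Adic.Basic
import Groth.Agent.RegLoc.CompleteTrans
import Groth.Agent.InvQLib.FiniteFree
import Mathlib

/-!
Noether normalization for complete Noetherian local domains.
-/

namespace Groth.Agent.Nagata.Normalization

universe u

open IsLocalRing

/-- A power series with vanishing constant coefficient lies in the ideal of the variables. -/
theorem mem_span_X {σ : Type*} [Finite σ] {Λ : Type*} [CommRing Λ] {f : MvPowerSeries σ Λ}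
    (h0 : MvPowerSeries.constantCoeff f = 0) :
    f ∈ Ideal.span (Set.range (MvPowerSeries.X : σ → MvPowerSeries σ Λ)) := by
  let e := MvPowerSeries.toAdicCompletionAlgEquiv σ Λ
  have hmap : Ideal.map e.toRingEquiv (Ideal.span (Set.range MvPowerSeries.X)) =
      (MvPolynomial.idealOfVars σ Λ).map (algebraMap _ _) := by
    simp_rw [Ideal.map_span, ← Set.range_comp]
    congr 2; ext1
    simp [e, AdicCompletion.algebraMap_apply, ← MvPolynomial.coe_X, MvPowerSeries.toAdicCompletion_coe]
  suffices h : e f ∈ Ideal.map e.toRingEquiv (Ideal.span (Set.range MvPowerSeries.X)) by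
    obtain ⟨g, hg, hgf⟩ := (Ideal.mem_map_iff_of_surjective _ e.toRingEquiv.surjective).mp h
    exact e.injective hgf ▸ hg
  rw [hmap, ← AdicCompletion.ker_evalOneₐ_eq_map _ (MvPolynomial.idealOfVars_fg σ Λ)]
  have ht : MvPowerSeries.truncTotal 1 f = 0 := by
    classical
    ext x
    by_cases hx : Finsupp.degree x < 1
    · rw [MvPowerSeries.coeff_truncTotal _ hx]
      have : x = 0 := by simpa [Finsupp.degree_eq_zero_iff] using hx
      subst this
      simpa using h0
    · rw [MvPowerSeries.coeff_truncTotal_eq_zero _ (not_lt.mp hx)]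
      simp
  rw [RingHom.mem_ker]
  show AdicCompletion.evalOneₐ _ (e f) = 0
  rw [MvPowerSeries.toAdicCompletionAlgEquiv_apply, AdicCompletion.evalOneₐ, AlgHom.comp_apply]
  have : AdicCompletion.evalₐ (MvPolynomial.idealOfVars σ Λ) 1 (MvPowerSeries.toAdicCompletion σ Λ f) = 0 := by
    rw [← AdicCompletion.factor_eval_eq_evalₐ]
    · change Submodule.factor _ ((MvPowerSeries.toAdicCompletion σ Λ f).val 1) = 0
      rw [MvPowerSeries.toAdicCompletion_apply_eq_mk_truncTotal, ht]
      exact map_zero _
    · simp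
  rw [this, map_zero]

theorem maximalIdeal_eq {Λ : Type*} [CommRing Λ] [IsLocalRing Λ] {n : ℕ} {π : Λ}
    (hπ : maximalIdeal Λ = Ideal.span {π}) :
    maximalIdeal (MvPowerSeries (Fin n) Λ) =
      Ideal.span ({MvPowerSeries.C π} ∪ Set.range MvPowerSeries.X) := by
  refine le_antisymm (fun f hf => ?_) ?_
  · have h1 : MvPowerSeries.constantCoeff f ∈ maximalIdeal Λ := fun hu =>
      (mem_maximalIdeal _).mp hf (MvPowerSeries.isUnit_iff_constantCoeff.mpr hu)
    rw [hπ, Ideal.mem_span_singleton'] at h1
    obtain ⟨c, hc⟩ := h1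
    have h2 : f - MvPowerSeries.C c * MvPowerSeries.C π ∈
        Ideal.span (Set.range (MvPowerSeries.X : Fin n → MvPowerSeries (Fin n) Λ)) :=
      mem_span_X (by simp [hc])
    have h3 : MvPowerSeries.C c * MvPowerSeries.C π ∈
        Ideal.span ({MvPowerSeries.C π} ∪ Set.range (MvPowerSeries.X : Fin n → MvPowerSeries (Fin n) Λ)) :=
      Ideal.mul_mem_left _ _ (Ideal.subset_span (Or.inl rfl))
    simpa using add_mem (Ideal.span_mono Set.subset_union_right h2) h3
  · rw [Ideal.span_le]
    rintro _ (rfl | ⟨i, rfl⟩)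
    · rw [SetLike.mem_coe, mem_maximalIdeal, mem_nonunits_iff, MvPowerSeries.isUnit_iff_constantCoeff]
      rw [MvPowerSeries.constantCoeff_C]
      exact (mem_maximalIdeal _).mp (hπ.symm ▸ Ideal.mem_span_singleton_self π : π ∈ maximalIdeal Λ)
    · rw [SetLike.mem_coe, mem_maximalIdeal, mem_nonunits_iff, MvPowerSeries.isUnit_iff_constantCoeff]
      simp

theorem isAdicComplete_maximalIdeal {Λ : Type u} [CommRing Λ] [IsLocalRing Λ] [IsNoetherianRing Λ]
    [IsAdicComplete (maximalIdeal Λ) Λ] {π : Λ}
    (hπ : maximalIdeal Λ = Ideal.span {π}) (n : ℕ) :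
    IsAdicComplete (maximalIdeal (MvPowerSeries (Fin n) Λ)) (MvPowerSeries (Fin n) Λ) := by
  set A := MvPowerSeries (Fin n) Λ
  set I := Ideal.span (Set.range (MvPowerSeries.X : Fin n → A)) with hI
  have hker : RingHom.ker (MvPowerSeries.constantCoeff : A →+* Λ) = I := by
    refine le_antisymm (fun f hf => mem_span_X hf) ?_
    rw [hI, Ideal.span_le]
    rintro _ ⟨i, rfl⟩
    simp
  have hsurj : Function.Surjective (MvPowerSeries.constantCoeff : A →+* Λ) :=
    fun a => ⟨MvPowerSeries.C a, MvPowerSeries.constantCoeff_C a⟩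
  let e : (A ⧸ I) ≃+* Λ :=
    (Ideal.quotEquivOfEq hker.symm).trans (RingHom.quotientKerEquivOfSurjective hsurj)
  set J := Ideal.span ({(MvPowerSeries.C π : A)} : Set A)
  have hJ : (J.map (Ideal.Quotient.mk I)).map e = maximalIdeal Λ := by
    rw [hπ, Ideal.map_span, Ideal.map_span, Set.image_singleton, Set.image_singleton]
    congr 2
  have hJc : IsAdicComplete (J.map (Ideal.Quotient.mk I)) (A ⧸ I) := by
    rw [← IsAdicComplete.congr_ringEquiv _ e, hJ]
    infer_instance
  have hIJ : maximalIdeal A = I ⊔ J := by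
    rw [maximalIdeal_eq hπ, Ideal.span_union, sup_comm]
  have hJc' : IsAdicComplete ((I ⊔ J).map (Ideal.Quotient.mk I)) (A ⧸ I) := by
    rw [Ideal.map_sup, Ideal.map_quotient_self, bot_sup_eq]
    exact hJc
  rw [hIJ]
  exact RegLoc.CompleteTrans.isAdicComplete I (I ⊔ J)

/-- Existence of a system of parameters. -/
theorem exists_sop (R : Type u) [CommRing R] [IsLocalRing R] [IsNoetherianRing R] :
    ∃ (n : ℕ) (b : Fin n → R), (∀ i, b i ∈ maximalIdeal R) ∧ ringKrullDim R = (n : ℕ∞) ∧
      IsArtinianRing (R ⧸ Ideal.span (Set.range b)) := by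
  obtain ⟨s, hs, hcard⟩ := (maximalIdeal R).exists_finset_card_eq_height_of_isNoetherianRing
  refine ⟨s.card, fun i => (s.equivFin.symm i : R), fun i =>
    hs.1.2 (Ideal.subset_span (s.equivFin.symm i).2), ?_, ?_⟩
  · rw [← maximalIdeal_height_eq_ringKrullDim, ← hcard]
  · have : Set.range (fun i => (s.equivFin.symm i : R)) = (s : Set R) := by
      ext x
      exact ⟨fun ⟨i, hi⟩ => hi ▸ (s.equivFin.symm i).2, fun hx => ⟨s.equivFin ⟨x, hx⟩, by simp⟩⟩
    rw [this]
    exact IsLocalRing.quotient_artinian_of_mem_minimalPrimes_of_isLocalRing _ hs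

/-- A Noetherian local algebra with nilpotent maximal ideal and trivial residue extension is finite. -/
theorem finite_of_pow_eq_bot {A Q : Type*} [CommRing A] [CommRing Q] [IsLocalRing Q]
    [IsNoetherianRing Q] [Algebra A Q]
    (hres : Function.Surjective ((residue Q).comp (algebraMap A Q))) {k : ℕ}
    (hk : maximalIdeal Q ^ k = ⊥) : Module.Finite A Q := by
  set m := maximalIdeal Q
  have key : ∀ j i, i + j = k → (Submodule.restrictScalars A (m ^ i : Ideal Q)).FG := by
    intro j
    induction j with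
    | zero =>
      intro i hi
      rw [add_zero] at hi
      rw [hi, hk, Submodule.restrictScalars_bot]
      exact Submodule.fg_bot
    | succ j ih =>
      intro i hi
      obtain ⟨t, ht⟩ := IsNoetherian.noetherian (m ^ i : Ideal Q)
      have heq : Submodule.restrictScalars A (m ^ i : Ideal Q) =
          Submodule.span A (t : Set Q) ⊔ Submodule.restrictScalars A (m ^ (i + 1) : Ideal Q) := by
        refine le_antisymm ?_ (sup_le (Submodule.span_le.mpr fun x hx => ?_) ?_)
        · intro x hx
          have hx' : x ∈ Submodule.span Q (t : Set Q) := by rw [ht]; exact hx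
          rw [Submodule.mem_span_finset] at hx'
          obtain ⟨c, -, rfl⟩ := hx'
          refine sum_mem fun y hy => ?_
          obtain ⟨a, ha⟩ := hres (residue Q (c y))
          rw [RingHom.comp_apply] at ha
          have h1 : c y - algebraMap A Q a ∈ m := Ideal.Quotient.eq.mp ha.symm
          have hy' : y ∈ m ^ i := ht ▸ Submodule.subset_span hy
          have h2 : (c y - algebraMap A Q a) • y ∈ m ^ (i + 1) := by
            rw [pow_succ', smul_eq_mul]
            exact Ideal.mul_mem_mul h1 hy'
          have h3 : c y • y = a • y + (c y - algebraMap A Q a) • y := by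
            rw [sub_smul, algebraMap_smul, add_sub_cancel]
          rw [h3]
          exact Submodule.add_mem_sup (Submodule.smul_mem _ _ (Submodule.subset_span hy))
            (show (c y - algebraMap A Q a) • y ∈ Submodule.restrictScalars A (m ^ (i + 1) : Ideal Q) from h2)
        · exact (show x ∈ (m ^ i : Ideal Q) from ht ▸ Submodule.subset_span hx)
        · exact fun x hx => Ideal.pow_le_pow_right (Nat.le_succ i) hx
      rw [heq]
      exact (Submodule.fg_span t.finite_toSet).sup (ih (i + 1) (by omega))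
  have := key k 0 (zero_add k)
  rw [pow_zero, Ideal.one_eq_top, Submodule.restrictScalars_top] at this
  exact ⟨this⟩

variable {R : Type u} [CommRing R] [IsDomain R] [IsLocalRing R] [IsNoetherianRing R]
  [IsAdicComplete (maximalIdeal R) R]

theorem core (Λ : Type u) [CommRing Λ] [IsLocalRing Λ] [IsNoetherianRing Λ] [IsDomain Λ]
    [IsAdicComplete (maximalIdeal Λ) Λ] (π : Λ)
    (hπ : maximalIdeal Λ = Ideal.span {π}) (g : Λ →+* R) (hinj : Function.Injective g)
    (hres : Function.Surjective ((residue R).comp g)) :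
    ∃ (n : ℕ) (f : MvPowerSeries (Fin n) Λ →+* R), Function.Injective f ∧ f.Finite ∧
      Function.Surjective ((residue R).comp f) ∧ IsRegularLocalRing (MvPowerSeries (Fin n) Λ) ∧
      IsAdicComplete (maximalIdeal (MvPowerSeries (Fin n) Λ)) (MvPowerSeries (Fin n) Λ) := by
  classical
  let _ : Field (ResidueField R) := inferInstance
  have hkmax : RingHom.ker ((residue R).comp g) = maximalIdeal Λ :=
    IsLocalRing.eq_maximalIdeal (RingHom.ker_isMaximal_of_surjective _ hres)
  have hgπ : g π ∈ maximalIdeal R := by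
    have : π ∈ RingHom.ker ((residue R).comp g) := hkmax ▸ hπ ▸ Ideal.mem_span_singleton_self π
    exact Ideal.Quotient.eq_zero_iff_mem.mp this
  set J0 := Ideal.span {g π}
  have hJ0 : J0 ≤ maximalIdeal R := (Ideal.span_singleton_le_iff_mem _).mpr hgπ
  have : Nontrivial (R ⧸ J0) :=
    Ideal.Quotient.nontrivial_iff.mpr fun h => (maximalIdeal.isMaximal R).ne_top (top_le_iff.mp (h ▸ hJ0))
  have : IsLocalRing (R ⧸ J0) :=
    IsLocalRing.of_surjective' (Ideal.Quotient.mk J0) Ideal.Quotient.mk_surjective
  obtain ⟨n, b', hb', hdim', hart'⟩ := exists_sop (R ⧸ J0)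
  choose b hb using fun i => Ideal.Quotient.mk_surjective (I := J0) (b' i)
  have hbm : ∀ i, b i ∈ maximalIdeal R := fun i => by
    intro hu
    exact (mem_maximalIdeal _).mp (hb' i) (hb i ▸ hu.map (Ideal.Quotient.mk J0))
  obtain ⟨f, hfC, hfX⟩ := CohenLift.exists_eval Λ g b hbm
  have hm := maximalIdeal_eq (n := n) hπ
  set J := (maximalIdeal (MvPowerSeries (Fin n) Λ)).map f with hJdef
  have hJ : J = J0 ⊔ Ideal.span (Set.range b) := by
    rw [hJdef, hm, Ideal.map_span, Set.image_union, Set.image_singleton, hfC, ← Set.range_comp,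
      Ideal.span_union]
    congr 2
    exact congrArg Set.range (funext hfX)
  have hJm : J ≤ maximalIdeal R := hJ ▸ sup_le hJ0 (Ideal.span_le.mpr (by rintro _ ⟨i, rfl⟩; exact hbm i))
  have hfres : Function.Surjective ((residue R).comp f) := fun x => by
    obtain ⟨a, ha⟩ := hres x
    exact ⟨MvPowerSeries.C a, by rw [RingHom.comp_apply, hfC]; exact ha⟩
  have hart : IsArtinianRing (R ⧸ J) := by
    have hmap : Ideal.span (Set.range b') = (Ideal.span (Set.range b)).map (Ideal.Quotient.mk J0) := by
      rw [Ideal.map_span, ← Set.range_comp]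
      exact congrArg (fun h => Ideal.span (Set.range h)) (funext fun i => (hb i).symm)
    rw [hmap] at hart'
    have e : ((R ⧸ J0) ⧸ (Ideal.span (Set.range b)).map (Ideal.Quotient.mk J0)) ≃+* R ⧸ J :=
      (DoubleQuot.quotQuotEquivQuotSup J0 _).trans (Ideal.quotEquivOfEq hJ.symm)
    exact e.surjective.isArtinianRing
  let _ : Algebra (MvPowerSeries (Fin n) Λ) R := f.toAlgebra
  have hfin : Module.Finite (MvPowerSeries (Fin n) Λ) R := by
    have hc := isAdicComplete_maximalIdeal hπ n
    have : IsHausdorff (maximalIdeal (MvPowerSeries (Fin n) Λ)) R := by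
      rw [← IsHausdorff.map_algebraMap_iff (S := R)]
      exact IsHausdorff.of_le_jacobson _ _ (hJm.trans (maximalIdeal_le_jacobson _))
    refine Adic.finite_of_finite_quot (I := maximalIdeal (MvPowerSeries (Fin n) Λ)) ?_
    have : Nontrivial (R ⧸ J) :=
      Ideal.Quotient.nontrivial_iff.mpr fun h => (maximalIdeal.isMaximal R).ne_top (top_le_iff.mp (h ▸ hJm))
    have : IsLocalRing (R ⧸ J) :=
      IsLocalRing.of_surjective' (Ideal.Quotient.mk J) Ideal.Quotient.mk_surjective
    obtain ⟨k, hk⟩ : ∃ k, maximalIdeal (R ⧸ J) ^ k = ⊥ := by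
      obtain ⟨k, hk⟩ := IsArtinianRing.isNilpotent_jacobson_bot (R := R ⧸ J)
      exact ⟨k, by rwa [← IsLocalRing.jacobson_eq_maximalIdeal ⊥ bot_ne_top]⟩
    have hres' : Function.Surjective
        ((residue (R ⧸ J)).comp (algebraMap (MvPowerSeries (Fin n) Λ) (R ⧸ J))) := by
      intro y
      obtain ⟨z, rfl⟩ := residue_surjective y
      obtain ⟨r, rfl⟩ := Ideal.Quotient.mk_surjective z
      obtain ⟨a, ha⟩ := hfres (residue R r)
      refine ⟨a, Ideal.Quotient.eq.mpr ?_⟩
      change Ideal.Quotient.mk J (f a) - Ideal.Quotient.mk J r ∈ _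
      rw [← map_sub]
      intro hu
      have hmem : f a - r ∈ maximalIdeal R := Ideal.Quotient.eq.mp ha
      obtain ⟨v, hv⟩ := hu.exists_right_inv
      obtain ⟨w, rfl⟩ := Ideal.Quotient.mk_surjective v
      rw [← map_mul, ← map_one (Ideal.Quotient.mk J), Ideal.Quotient.eq] at hv
      have := sub_mem (Ideal.mul_mem_right w _ hmem) (hJm hv)
      rw [sub_sub_cancel] at this
      exact (maximalIdeal.isMaximal R).ne_top ((Ideal.eq_top_iff_one _).mpr this)
    have hQ := finite_of_pow_eq_bot hres' hk
    have heq : (maximalIdeal (MvPowerSeries (Fin n) Λ) • ⊤ : Submodule (MvPowerSeries (Fin n) Λ) R) =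
        J.restrictScalars _ := Ideal.smul_top_eq_map _
    exact Module.Finite.equiv ((Submodule.Quotient.restrictScalarsEquiv _ J).symm.trans
      (Submodule.quotEquivOfEq _ _ heq.symm))
  -- dimension count
  have hn : ((maximalIdeal (MvPowerSeries (Fin n) Λ)).spanFinrank : WithBot ℕ∞) ≤ ringKrullDim R := by
    by_cases h0 : π = 0
    · have hle : (maximalIdeal (MvPowerSeries (Fin n) Λ)).spanFinrank ≤ n := by
        have h1 : maximalIdeal (MvPowerSeries (Fin n) Λ) = Ideal.span (Set.range MvPowerSeries.X) := by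
          rw [hm, h0, map_zero, Ideal.span_union, Ideal.span_singleton_eq_bot.mpr rfl, bot_sup_eq]
        rw [h1]
        refine (Submodule.spanFinrank_span_le_ncard_of_finite (Set.finite_range _)).trans ?_
        rw [← Set.image_univ]
        exact (Set.ncard_image_le Set.finite_univ).trans (by simp)
      refine le_trans ?_ ((le_of_eq hdim'.symm).trans (ringKrullDim_quotient_le J0))
      exact_mod_cast hle
    · have hle : (maximalIdeal (MvPowerSeries (Fin n) Λ)).spanFinrank ≤ n + 1 := by
        rw [hm]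
        refine (Submodule.spanFinrank_span_le_ncard_of_finite ((Set.finite_singleton _).union (Set.finite_range _))).trans ?_
        refine (Set.ncard_union_le _ _).trans ?_
        rw [Set.ncard_singleton, add_comm 1, ← Set.image_univ]
        exact Nat.add_le_add_right ((Set.ncard_image_le Set.finite_univ).trans (by simp)) 1
      have h2 : ringKrullDim (R ⧸ J0) + 1 ≤ ringKrullDim R :=
        ringKrullDim_quotient_succ_le_of_nonZeroDivisor
          (mem_nonZeroDivisors_of_ne_zero ((map_ne_zero_iff g hinj).mpr h0))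
      refine le_trans ?_ h2
      rw [hdim']
      exact_mod_cast hle
  have hfi : Function.Injective f := by
    rw [RingHom.injective_iff_ker_eq_bot]
    by_contra hP
    obtain ⟨x, hx, hx0⟩ := Submodule.exists_mem_ne_zero_of_ne_bot hP
    let P := RingHom.ker f
    let _ : Algebra (MvPowerSeries (Fin n) Λ ⧸ P) R := (RingHom.kerLift f).toAlgebra
    have : IsScalarTower (MvPowerSeries (Fin n) Λ) (MvPowerSeries (Fin n) Λ ⧸ P) R :=
      IsScalarTower.of_algebraMap_eq (R := MvPowerSeries (Fin n) Λ)
        (S := MvPowerSeries (Fin n) Λ ⧸ P) (A := R) fun _ => rfl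
    have : Module.Finite (MvPowerSeries (Fin n) Λ ⧸ P) R :=
      Module.Finite.of_restrictScalars_finite (MvPowerSeries (Fin n) Λ) _ _
    have : Algebra.IsIntegral (MvPowerSeries (Fin n) Λ ⧸ P) R := Algebra.IsIntegral.of_finite _ _
    have h1 := InvQLib.FiniteFree.ringKrullDim_eq_of_integral (MvPowerSeries (Fin n) Λ ⧸ P) R
      (RingHom.kerLift_injective f)
    have h2 : ringKrullDim (MvPowerSeries (Fin n) Λ ⧸ P) + 1 ≤ ringKrullDim (MvPowerSeries (Fin n) Λ) :=
      ringKrullDim_succ_le_of_surjective (Ideal.Quotient.mk P) Ideal.Quotient.mk_surjective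
        (mem_nonZeroDivisors_of_ne_zero hx0) (Ideal.Quotient.eq_zero_iff_mem.mpr hx)
    rw [← h1] at h2
    have h3 := h2.trans ((ringKrullDim_le_spanFinrank_maximalIdeal _).trans hn)
    obtain ⟨d, hd, -⟩ := RegLoc.exists_natCast_eq_ringKrullDim R
    rw [hd] at h3
    have h4 : d + 1 ≤ d := by exact_mod_cast h3
    omega
  refine ⟨n, f, hfi, hfin, hfres, ?_, isAdicComplete_maximalIdeal hπ n⟩
  refine IsRegularLocalRing.of_spanFinrank_maximalIdeal_le _ ?_
  have : Algebra.IsIntegral (MvPowerSeries (Fin n) Λ) R := Algebra.IsIntegral.of_finite _ _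
  exact hn.trans (InvQLib.FiniteFree.ringKrullDim_eq_of_integral (MvPowerSeries (Fin n) Λ) R hfi).le

theorem exists_normalization (R : Type u) [CommRing R] [IsDomain R] [IsLocalRing R]
    [IsNoetherianRing R] [IsAdicComplete (maximalIdeal R) R] :
    ∃ (Λ : Type u) (_ : CommRing Λ) (_ : IsLocalRing Λ) (n : ℕ) (f : MvPowerSeries (Fin n) Λ →+* R),
      (IsField Λ ∨ CAlg.IsCohenRing Λ) ∧ Function.Injective f ∧ f.Finite ∧
      Function.Surjective ((residue R).comp f) ∧ IsRegularLocalRing (MvPowerSeries (Fin n) Λ) ∧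
      IsAdicComplete (maximalIdeal (MvPowerSeries (Fin n) Λ)) (MvPowerSeries (Fin n) Λ) := by
  obtain ⟨Λ, _, hΛ, g, hres⟩ := CohenLift.exists_coeff R
  rcases hΛ with hF | ⟨hdom, hdvr, hcpl, p, hp, hm⟩
  · have : IsDomain Λ := hF.isDomain
    have : IsLocalRing Λ := IsLocalRing.of_isUnit_or_isUnit_one_sub_self fun a => by
      rcases eq_or_ne a 0 with rfl | ha
      · exact Or.inr (by simp)
      · exact Or.inl (let ⟨b, hb⟩ := hF.mul_inv_cancel ha; IsUnit.of_mul_eq_one _ hb)
    have hbot : maximalIdeal Λ = ⊥ := IsLocalRing.isField_iff_maximalIdeal_eq.mp hF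
    have : IsNoetherianRing Λ := by
      let _ := hF.toField
      infer_instance
    have : IsAdicComplete (maximalIdeal Λ) Λ := by rw [hbot]; infer_instance
    obtain ⟨n, f, h⟩ := core Λ 0 (by rw [hbot, Ideal.span_singleton_eq_bot.mpr rfl]) g
      (by
        rw [RingHom.injective_iff_ker_eq_bot, eq_bot_iff, ← hbot]
        exact le_maximalIdeal (RingHom.ker_ne_top g)) hres
    exact ⟨Λ, inferInstance, inferInstance, n, f, Or.inl hF, h⟩
  · by_cases hinj : Function.Injective g
    · obtain ⟨n, f, h⟩ := core Λ (p : Λ) hm g hinj hres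
      exact ⟨Λ, inferInstance, inferInstance, n, f, Or.inr ⟨hdom, hdvr, hcpl, p, hp, hm⟩, h⟩
    · have hne : RingHom.ker g ≠ ⊥ := fun h => hinj ((RingHom.injective_iff_ker_eq_bot g).mpr h)
      have hker : RingHom.ker g = maximalIdeal Λ :=
        IsLocalRing.eq_maximalIdeal ((RingHom.ker_isPrime g).isMaximal hne)
      let g' : ResidueField Λ →+* R := Ideal.Quotient.lift _ g fun a ha => by
        have : a ∈ RingHom.ker g := hker ▸ ha
        exact this
      have hres' : Function.Surjective ((residue R).comp g') := fun x => by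
        obtain ⟨a, ha⟩ := hres x
        exact ⟨residue Λ a, ha⟩
      have hbot : maximalIdeal (ResidueField Λ) = ⊥ :=
        IsLocalRing.isField_iff_maximalIdeal_eq.mp (Field.toIsField _)
      have : IsAdicComplete (maximalIdeal (ResidueField Λ)) (ResidueField Λ) := by
        rw [hbot]; infer_instance
      obtain ⟨n, f, h⟩ := core (ResidueField Λ) 0 (by rw [hbot, Ideal.span_singleton_eq_bot.mpr rfl]) g'
        g'.injective hres'
      exact ⟨ResidueField Λ, inferInstance, inferInstance, n, f, Or.inl (Field.toIsField _), h⟩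

end Groth.Agent.Nagata.Normalization
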