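import Groth.Agent.Nagata.Basic
import Groth.Agent.Adic.Basic
import Mathlib.FieldTheory.PurelyInseparable.Exponent
import Mathlib.FieldTheory.IsAlgClosed.AlgebraicClosure
import Mathlib.LinearAlgebra.Dimension.Finite
import Mathlib.RingTheory.Filtration

/-!
Tate's theorem: `R` normal, `R/xR` an N-2 domain, `R` `x`-adically complete ⇒ `R` N-2.
-/

set_option autoImplicit false
set_option linter.style.haveILetI false

universe u

open IntermediateField

namespace Groth.Agent.Nagata

set_option maxHeartbeats 1600000 in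
set_option synthInstance.maxHeartbeats 80000 in
theorem finite_integralClosure_tate_aux {R : Type u} [CommRing R] [IsDomain R] [IsNoetherianRing R]
    [IsIntegrallyClosed R] (x : R) [(Ideal.span ({x} : Set R)).IsPrime] (hx : x ≠ 0)
    (h2 : CAlg.IsN2 (R ⧸ Ideal.span ({x} : Set R))) [IsAdicComplete (Ideal.span ({x} : Set R)) R]
    {K L : Type u} [Field K] [Field L] [Algebra R K] [IsFractionRing R K] [Algebra K L] [Algebra R L]
    [IsScalarTower R K L] [FiniteDimensional K L] {q : ℕ} (hq : 0 < q)
    (hpow : ∀ z : L, z ^ q ∈ Set.range (algebraMap K L)) (y : L) (hy : y ^ q = algebraMap R L x) :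
    Module.Finite R (integralClosure R L) := by
  classical
  have hinjL : Function.Injective (algebraMap R L) := by
    rw [IsScalarTower.algebraMap_eq R K L]
    exact (algebraMap K L).injective.comp (IsFractionRing.injective R K)
  have hy0 : y ≠ 0 := by
    rintro rfl
    rw [zero_pow hq.ne'] at hy
    exact hx (hinjL (by rw [map_zero, hy]))
  let S := integralClosure R L
  have hchar : ∀ z : L, z ∈ S ↔ z ^ q ∈ Set.range (algebraMap R L) := by
    intro z
    constructor
    · intro hz
      obtain ⟨c, hc⟩ := hpow z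
      have hcint : IsIntegral R c := (isIntegral_algebraMap_iff (algebraMap K L).injective).mp
        (hc ▸ (hz : IsIntegral R z).pow q)
      obtain ⟨r, rfl⟩ := IsIntegrallyClosed.isIntegral_iff.mp hcint
      exact ⟨r, (IsScalarTower.algebraMap_apply R K L r).trans hc⟩
    · rintro ⟨r, hr⟩
      exact IsIntegral.of_pow hq (hr ▸ isIntegral_algebraMap)
  have hyS : y ∈ S := (hchar y).mpr ⟨x, hy.symm⟩
  let yS : S := ⟨y, hyS⟩
  let I := Ideal.span ({x} : Set R)
  have hxy : algebraMap R S x = yS ^ q := Subtype.ext (by simpa [yS] using hy.symm)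
  -- elements of `S` with `q`-th power in `xR` are multiples of `y`
  have hdiv : ∀ (z : S) (r : R), (z : L) ^ q = algebraMap R L (x * r) → z ∈ Ideal.span {yS} := by
    intro z r hr
    have hmem : (z : L) / y ∈ S := (hchar _).mpr ⟨r, by
      rw [div_pow, hr, hy, map_mul, mul_div_cancel_left₀ _ fun h => hx (hinjL (by rw [h, map_zero]))]⟩
    exact Ideal.mem_span_singleton'.mpr ⟨⟨_, hmem⟩, Subtype.ext (div_mul_cancel₀ (z : L) hy0)⟩
  have hpowR : ∀ z : S, ∃ r : R, (z : L) ^ q = algebraMap R L r := fun z => by
    obtain ⟨r, hr⟩ := (hchar z).mp z.2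
    exact ⟨r, hr.symm⟩
  have hcontr : ∀ r : R, algebraMap R S r ∈ Ideal.span {yS} → r ∈ I := by
    intro r hr
    obtain ⟨s, hs⟩ := Ideal.mem_span_singleton'.mp hr
    obtain ⟨c, hc⟩ := hpowR s
    refine (inferInstance : I.IsPrime).mem_of_pow_mem q (Ideal.mem_span_singleton'.mpr ⟨c, hinjL ?_⟩)
    have := congrArg (fun w : S => (w : L) ^ q) hs
    simp only [MulMemClass.coe_mul, mul_pow, hc, yS, hy] at this
    rw [map_mul, map_pow, this]
    rfl
  let P : Ideal S := Ideal.span {yS}
  haveI hP : P.IsPrime := by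
    refine ⟨fun h => ?_, fun {a b} hab => ?_⟩
    · exact (inferInstance : I.IsPrime).ne_top (Ideal.eq_top_iff_one _ |>.mpr (hcontr 1 (by
        rw [map_one]; show (1 : S) ∈ P; rw [show P = ⊤ from h]; exact Submodule.mem_top)))
    obtain ⟨s, hs⟩ := Ideal.mem_span_singleton'.mp hab
    obtain ⟨ra, hra⟩ := hpowR a
    obtain ⟨rb, hrb⟩ := hpowR b
    obtain ⟨rs, hrs⟩ := hpowR s
    have hI : ra * rb ∈ I := Ideal.mem_span_singleton'.mpr ⟨rs, hinjL (by
      have := congrArg (fun w : S => (w : L) ^ q) hs
      simp only [MulMemClass.coe_mul, mul_pow, hra, hrb, hrs, yS, hy] at this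
      rw [map_mul, map_mul, ← this])⟩
    rcases (inferInstance : I.IsPrime).mem_or_mem hI with h | h
    · obtain ⟨c, hc⟩ := Ideal.mem_span_singleton'.mp h
      exact Or.inl (hdiv a c (by rw [hra, ← hc, mul_comm c x]))
    · obtain ⟨c, hc⟩ := Ideal.mem_span_singleton'.mp h
      exact Or.inr (hdiv b c (by rw [hrb, ← hc, mul_comm c x]))
  -- the residue domain
  let T := S ⧸ P
  let Rb := R ⧸ I
  have hle : I ≤ P.comap (algebraMap R S) := by
    rw [Ideal.span_singleton_le_iff_mem, Ideal.mem_comap, hxy]
    exact Ideal.pow_mem_of_mem _ (Ideal.mem_span_singleton_self _) q hq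
  letI : Algebra Rb T := (Ideal.quotientMap P (algebraMap R S) hle).toAlgebra
  haveI : IsScalarTower R Rb T := IsScalarTower.of_algebraMap_eq fun r => rfl
  have hinjT : Function.Injective (algebraMap Rb T) := by
    rw [injective_iff_map_eq_zero]
    intro a ha
    obtain ⟨a, rfl⟩ := Ideal.Quotient.mk_surjective a
    exact Ideal.Quotient.eq_zero_iff_mem.mpr (hcontr a (Ideal.Quotient.eq_zero_iff_mem.mp ha))
  haveI : Algebra.IsIntegral R S := ⟨fun z => (isIntegral_algHom_iff S.val Subtype.val_injective).mp z.2⟩
  haveI : Algebra.IsIntegral R T := Algebra.IsIntegral.of_surjective (Ideal.Quotient.mkₐ R P)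
    Ideal.Quotient.mk_surjective
  haveI : Algebra.IsIntegral Rb T := ⟨fun t => (Algebra.IsIntegral.isIntegral (R := R) t).tower_top⟩
  haveI : FaithfulSMul Rb T := (faithfulSMul_iff_algebraMap_injective Rb T).mpr hinjT
  let κ := FractionRing Rb
  let FT := FractionRing T
  letI : Algebra κ FT := FractionRing.liftAlgebra Rb FT
  -- rank bound
  have hrank : ∀ s : Finset FT, LinearIndependent κ (fun i : s => (i : FT)) →
      s.card ≤ Module.finrank K L := by
    intro s hs
    obtain ⟨d, hd⟩ := IsLocalization.exist_integer_multiples_of_finset (nonZeroDivisors T) s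
    choose t ht using fun i : s => hd i i.2
    choose w hw using fun i : s => Ideal.Quotient.mk_surjective (t i)
    have hindT : LinearIndependent Rb t := by
      have h1 : LinearIndependent Rb (fun i : s => (i : FT)) :=
        hs.restrict_scalars (by
          intro a b hab
          simpa using IsFractionRing.injective Rb κ (by simpa [Algebra.smul_def] using hab))
      have h2 : LinearIndependent Rb (fun i : s => algebraMap T FT (t i)) := by
        rw [Fintype.linearIndependent_iff] at h1 ⊢
        intro c hc i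
        refine h1 c ?_ i
        have hd0 : algebraMap T FT (d : T) ≠ 0 :=
          (map_ne_zero_iff _ (IsFractionRing.injective T FT)).mpr (nonZeroDivisors.coe_ne_zero d)
        refine mul_left_cancel₀ hd0 ?_
        rw [Finset.mul_sum, mul_zero, ← hc]
        refine Finset.sum_congr rfl fun j _ => ?_
        rw [ht j, Algebra.smul_def (d : T), Algebra.mul_smul_comm]
      exact LinearIndependent.of_comp (IsScalarTower.toAlgHom Rb T FT).toLinearMap h2
    have hindL : LinearIndependent K (fun i : s => ((w i : S) : L)) := by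
      rw [← LinearIndependent.iff_fractionRing R K, Fintype.linearIndependent_iff]
      intro c hc
      have key : ∀ n : ℕ, ∀ i, c i ∈ I ^ n := by
        intro n
        induction n with
        | zero => intro i; simp [Ideal.one_eq_top]
        | succ n ih =>
          intro i
          choose c' hc' using fun i => Ideal.mem_span_singleton'.mp
            (Ideal.span_singleton_pow x n ▸ ih i : c i ∈ Ideal.span {x ^ n})
          have h3 : ∑ i, c' i • (w i : S) = 0 := by
            apply Subtype.ext
            rw [Submodule.coe_sum (p := S.toSubmodule)] at *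
            have hne : algebraMap R L (x ^ n) ≠ 0 := fun h => pow_ne_zero n hx (hinjL (by rw [h, map_zero]))
            refine mul_left_cancel₀ hne ?_
            rw [← Algebra.smul_def, ZeroMemClass.coe_zero, mul_zero, Finset.smul_sum]
            rw [← hc]
            exact Finset.sum_congr rfl fun j _ => by rw [← hc' j, mul_comm, mul_smul]; rfl
          have h4 : ∑ i, (Ideal.Quotient.mk I (c' i)) • t i = 0 := by
            have := congrArg (Ideal.Quotient.mk P) h3
            rw [map_sum, map_zero] at this
            rw [← this]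
            refine Finset.sum_congr rfl fun j _ => ?_
            rw [← hw j]
            show (algebraMap R Rb (c' j)) • Ideal.Quotient.mk P (w j) = _
            rw [Algebra.smul_def, ← IsScalarTower.algebraMap_apply, ← Algebra.smul_def,
              ← Ideal.Quotient.mkₐ_eq_mk R, map_smul]
          have h5 := Fintype.linearIndependent_iff.mp hindT _ h4 i
          rw [Ideal.Quotient.eq_zero_iff_mem] at h5
          rw [← hc' i, pow_succ']
          exact Ideal.mul_mem_mul h5 (Ideal.pow_mem_pow (Ideal.mem_span_singleton_self x) n)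
      intro i
      have h6 : c i ∈ ⨅ n : ℕ, I ^ n := Submodule.mem_iInf _ |>.mpr fun n => key n i
      rwa [Ideal.iInf_pow_eq_bot_of_isDomain I (inferInstance : I.IsPrime).ne_top, Ideal.mem_bot] at h6
    exact le_of_eq_of_le (Fintype.card_coe s).symm hindL.fintype_card_le_finrank
  haveI : FiniteDimensional κ FT := Module.rank_lt_aleph0_iff.mp
    ((rank_le hrank).trans_lt (Cardinal.natCast_lt_aleph0))
  haveI hTfin : Module.Finite Rb (integralClosure Rb FT) :=
    Props.N2Local.finite_integralClosure h2 κ FT
  haveI : IsNoetherianRing Rb := inferInstance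
  haveI : Module.Finite Rb T := by
    let g : T →ₗ[Rb] integralClosure Rb FT :=
      LinearMap.codRestrict (integralClosure Rb FT).toSubmodule (IsScalarTower.toAlgHom Rb T FT).toLinearMap
        fun t => (Algebra.IsIntegral.isIntegral (R := Rb) t).map (IsScalarTower.toAlgHom Rb T FT)
    exact Module.Finite.of_injective g fun a b h => IsFractionRing.injective T FT (congrArg Subtype.val h)
  haveI : Module.Finite R T := Module.Finite.trans Rb T
  obtain ⟨G, hG⟩ := Module.Finite.fg_top (R := R) (M := T)
  choose lift hlift using fun t : T => Ideal.Quotient.mk_surjective t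
  have hstep : ∀ j : ℕ, ∃ W : Finset S, ∀ z : S, ∃ w ∈ Submodule.span R (W : Set S),
      ∃ s, z = w + yS ^ j * s := by
    intro j
    induction j with
    | zero => exact ⟨∅, fun z => ⟨0, Submodule.zero_mem _, z, by simp⟩⟩
    | succ j ih =>
      obtain ⟨W, hW⟩ := ih
      refine ⟨W ∪ (G.image fun t => yS ^ j * lift t), fun z => ?_⟩
      obtain ⟨w, hw, s, rfl⟩ := hW z
      have hs : Ideal.Quotient.mkₐ R P s ∈ Submodule.span R (G : Set T) := hG ▸ Submodule.mem_top
      obtain ⟨c, -, hc⟩ := Submodule.mem_span_finset.mp hs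
      have hrest : s - ∑ t ∈ G, c t • lift t ∈ P := by
        rw [← Ideal.Quotient.eq_zero_iff_mem, map_sub, map_sum, sub_eq_zero]
        refine hc.symm.trans (Finset.sum_congr rfl fun t _ => ?_)
        rw [← Ideal.Quotient.mkₐ_eq_mk R, map_smul, Ideal.Quotient.mkₐ_eq_mk, hlift]
      obtain ⟨s', hs'⟩ := Ideal.mem_span_singleton'.mp hrest
      refine ⟨w + ∑ t ∈ G, c t • (yS ^ j * lift t), Submodule.add_mem _
        (Submodule.span_mono (by simp) hw) (Submodule.sum_mem _ fun t ht => Submodule.smul_mem _ _
          (Submodule.subset_span (by simp only [Finset.coe_union, Finset.coe_image]; exact Or.inr ⟨t, ht, rfl⟩))), s', ?_⟩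
      simp only [← Algebra.mul_smul_comm, ← Finset.mul_sum]
      linear_combination (-(yS ^ j)) * hs'
  obtain ⟨W, hW⟩ := hstep q
  haveI : IsHausdorff I S := by
    refine ⟨fun z hz => ?_⟩
    obtain ⟨r, hr⟩ := hpowR z
    have hr0 : r ∈ ⨅ n : ℕ, I ^ n := by
      rw [Submodule.mem_iInf]
      intro n
      have hzn : z ∈ (I ^ n • ⊤ : Submodule R S) := SModEq.zero.mp (hz n)
      rw [show I ^ n = Ideal.span {x ^ n} from Ideal.span_singleton_pow x n,
        Submodule.ideal_span_singleton_smul, Submodule.mem_smul_pointwise_iff_exists] at hzn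
      obtain ⟨t, -, rfl⟩ := hzn
      obtain ⟨c, hc⟩ := hpowR t
      refine Ideal.pow_le_pow_right (Nat.le_mul_of_pos_right n hq) ?_
      rw [show I ^ (n * q) = Ideal.span {x ^ (n * q)} from Ideal.span_singleton_pow x _,
        Ideal.mem_span_singleton']
      refine ⟨c, hinjL ?_⟩
      rw [← hr, SetLike.val_smul, Algebra.smul_def, mul_pow, hc, map_mul, ← map_pow, ← pow_mul, mul_comm]
    rw [Ideal.iInf_pow_eq_bot_of_isDomain I (inferInstance : I.IsPrime).ne_top, Ideal.mem_bot] at hr0
    rw [hr0, map_zero] at hr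
    exact Subtype.ext ((pow_eq_zero_iff hq.ne').mp hr)
  haveI : IsPrecomplete I R := inferInstance
  refine Adic.finite_of_finite_quot I ?_
  haveI : Module.Finite R (Submodule.span R (W : Set S)) :=
    Module.Finite.iff_fg.mpr (Submodule.fg_span W.finite_toSet)
  refine Module.Finite.of_surjective ((I • ⊤ : Submodule R S).mkQ ∘ₗ (Submodule.span R (W : Set S)).subtype)
    fun v => ?_
  obtain ⟨z, rfl⟩ := Submodule.mkQ_surjective _ v
  obtain ⟨w, hw, s, rfl⟩ := hW z
  refine ⟨⟨w, hw⟩, (Submodule.Quotient.eq _).mpr ?_⟩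
  rw [← hxy, ← Algebra.smul_def, Submodule.subtype_apply, sub_add_cancel_left]
  exact Submodule.neg_mem _ (Submodule.smul_mem_smul (Ideal.mem_span_singleton_self x) Submodule.mem_top)

/-- Tate. -/
theorem isN2_tate (R : Type u) [CommRing R] [IsDomain R] [IsNoetherianRing R] [IsIntegrallyClosed R]
    (x : R) [(Ideal.span ({x} : Set R)).IsPrime] (h2 : CAlg.IsN2 (R ⧸ Ideal.span ({x} : Set R)))
    [IsAdicComplete (Ideal.span ({x} : Set R)) R] : CAlg.IsN2 R := by
  classical
  rcases eq_or_ne x 0 with rfl | hx
  · have e : (R ⧸ Ideal.span ({0} : Set R)) ≃+* R :=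
      (Ideal.quotEquivOfEq (Ideal.span_singleton_eq_bot.mpr rfl)).trans (RingEquiv.quotientBot R)
    exact Props.N2Local.isN2_of_ringEquiv e h2
  refine isN2_of_purelyInseparable R ?_
  intro M _ _ _ _ _ _
  let K := FractionRing R
  obtain ⟨p, hp⟩ := ExpChar.exists K
  let Ω := AlgebraicClosure M
  haveI : ExpChar Ω p := expChar_of_injective_algebraMap (algebraMap K Ω).injective p
  set q := p ^ IsPurelyInseparable.exponent K M with hq
  have hq0 : 0 < q := pow_pos (expChar_pos K p) _
  obtain ⟨y, hy⟩ := IsAlgClosed.exists_pow_nat_eq (algebraMap R Ω x) hq0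
  let E : IntermediateField K Ω :=
    { carrier := {z | z ^ q ∈ Set.range (algebraMap K Ω)}
      mul_mem' := by
        rintro a b ⟨a', ha⟩ ⟨b', hb⟩
        exact ⟨a' * b', by rw [map_mul, mul_pow, ha, hb]⟩
      one_mem' := ⟨1, by simp⟩
      add_mem' := by
        rintro a b ⟨a', ha⟩ ⟨b', hb⟩
        exact ⟨a' + b', by rw [map_add, ha, hb, hq, add_pow_expChar_pow]⟩
      zero_mem' := ⟨0, by simp [zero_pow hq0.ne']⟩
      algebraMap_mem' := fun c => ⟨c ^ q, map_pow _ _ _⟩
      inv_mem' := by
        rintro a ⟨a', ha⟩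
        exact ⟨a'⁻¹, by rw [map_inv₀, ha, inv_pow]⟩ }
  let f : M →ₐ[K] Ω := IsScalarTower.toAlgHom K M Ω
  have hyint : IsIntegral K y := IsIntegral.of_pow hq0 (by
    rw [hy, IsScalarTower.algebraMap_apply R K Ω]; exact isIntegral_algebraMap)
  haveI : FiniteDimensional K K⟮y⟯ := IntermediateField.adjoin.finiteDimensional hyint
  haveI : FiniteDimensional K f.fieldRange :=
    Module.Finite.equiv (AlgEquiv.ofInjectiveField f).toLinearEquiv
  let L : IntermediateField K Ω := f.fieldRange ⊔ K⟮y⟯
  have hLE : L ≤ E := by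
    refine sup_le ?_ ?_
    · rintro _ ⟨m, rfl⟩
      obtain ⟨c, hc⟩ := IsPurelyInseparable.exponent_def' K p m
      exact ⟨c, by rw [hq, ← map_pow, ← hc, ← AlgHom.commutes f]; rfl⟩
    · rw [IntermediateField.adjoin_simple_le_iff]
      exact ⟨algebraMap R K x, by rw [hy, ← IsScalarTower.algebraMap_apply]⟩
  haveI : FiniteDimensional K L := IntermediateField.finiteDimensional_sup _ _
  haveI : Module.Finite R (integralClosure R L) :=
    finite_integralClosure_tate_aux x hx h2 (K := K) hq0 (fun z => by
      obtain ⟨c, hc⟩ := hLE z.2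
      exact ⟨c, Subtype.ext hc⟩)
      (⟨y, (le_sup_right : K⟮y⟯ ≤ L) (IntermediateField.mem_adjoin_simple_self K y)⟩ : L)
      (Subtype.ext hy)
  exact finite_integralClosure_of_algHom
    (((IntermediateField.inclusion (le_sup_left : f.fieldRange ≤ L)).comp
      (AlgEquiv.ofInjectiveField f).toAlgHom).restrictScalars R) (RingHom.injective _)

end Groth.Agent.Nagata
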