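import Groth.Prelude.Def_Found
import Groth.Agent.Nagata.Normalization
import Groth.Agent.Nagata.Tate
import Groth.Agent.Nagata.AnalUnram
import Groth.Agent.RegLoc.Basic
import Groth.Agent.S9829
import Mathlib

/-!
Complete Noetherian local rings are Nagata.
-/

namespace Groth.Agent.Nagata.CompleteLocal

universe u

open IsLocalRing

/-- A finite domain extension of an N-2 domain is N-2. -/
theorem isN2_of_finite (A D : Type u) [CommRing A] [IsDomain A] [IsNoetherianRing A] [CommRing D]
    [IsDomain D] [Algebra A D] [Module.Finite A D] (hinj : Function.Injective (algebraMap A D))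
    (h : CAlg.IsN2 A) : CAlg.IsN2 D := by
  intro L _ _ _ _ hL
  let KA := FractionRing A
  let KD := FractionRing D
  have : FaithfulSMul A D := (faithfulSMul_iff_algebraMap_injective A D).mpr hinj
  let _ : Algebra KA KD := FractionRing.liftAlgebra A KD
  have : FiniteDimensional KA KD := finiteDimensional_fractionRing A D KA KD
  let _ : Algebra KA L := ((algebraMap KD L).comp (algebraMap KA KD)).toAlgebra
  have : IsScalarTower KA KD L := IsScalarTower.of_algebraMap_eq fun _ => rfl
  have : FiniteDimensional KA L := Module.Finite.trans KD L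
  let _ : Algebra A L := ((algebraMap D L).comp (algebraMap A D)).toAlgebra
  have : IsScalarTower A D L := IsScalarTower.of_algebraMap_eq fun _ => rfl
  have : IsScalarTower A KA L := IsScalarTower.of_algebraMap_eq fun a => by
    change algebraMap D L (algebraMap A D a) = algebraMap KD L (algebraMap KA KD (algebraMap A KA a))
    rw [IsScalarTower.algebraMap_apply D KD L, ← IsScalarTower.algebraMap_apply A KA KD,
      IsScalarTower.algebraMap_apply A D KD]
  have hfin : Module.Finite A (integralClosure A L) := Props.N2Local.finite_integralClosure h KA L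
  have : Algebra.IsIntegral A D := Algebra.IsIntegral.of_finite A D
  let e : integralClosure A L →ₗ[A] integralClosure D L :=
    { toFun := fun x => ⟨x, (x.2 : IsIntegral A (x : L)).tower_top⟩
      map_add' := fun _ _ => rfl
      map_smul' := fun _ _ => rfl }
  have : Module.Finite A (integralClosure D L) :=
    Module.Finite.of_surjective e fun x => ⟨⟨x, isIntegral_trans (x : L) x.2⟩, rfl⟩
  exact Module.Finite.of_restrictScalars_finite A D (integralClosure D L)

theorem isN2_regular_aux (n : ℕ) : ∀ (A : Type u) [CommRing A] [IsDomain A] [IsRegularLocalRing A]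
    [IsAdicComplete (maximalIdeal A) A], ringKrullDim A = n → CAlg.IsN2 A := by
  induction n using Nat.strong_induction_on with
  | _ n ih =>
    intro A _ _ _ _ hn
    have : IsIntegrallyClosed A := S9829.result A
    by_cases hF : IsField A
    · intro L _ _ _ _ hL
      let e : FractionRing A ≃ₐ[A] A := by
        have : IsFractionRing A A := IsLocalization.of_le_isUnit fun a ha => by
          obtain ⟨b, hb⟩ := hF.mul_inv_cancel (nonZeroDivisors.ne_zero ha)
          exact IsUnit.of_mul_eq_one _ hb
        exact FractionRing.algEquiv A A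
      have : Module.Finite A (FractionRing A) := Module.Finite.equiv e.symm.toLinearEquiv
      have : Module.Finite A L := Module.Finite.trans (FractionRing A) L
      have : IsNoetherian A L := isNoetherian_of_isNoetherianRing_of_finite A L
      exact Module.Finite.iff_fg.mpr (IsNoetherian.noetherian (Subalgebra.toSubmodule (integralClosure A L)))
    · obtain ⟨x, hx, hx2⟩ : ∃ x ∈ maximalIdeal A, x ∉ maximalIdeal A ^ 2 := by
        by_contra h
        push Not at h
        have hne : maximalIdeal A ≠ ⊥ := fun hb => hF (IsLocalRing.isField_iff_maximalIdeal_eq.mpr hb)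
        refine hne (Submodule.eq_bot_of_le_smul_of_le_jacobson_bot (maximalIdeal A) _
          (IsNoetherian.noetherian _) ?_ (maximalIdeal_le_jacobson _))
        rw [smul_eq_mul, ← pow_two]
        exact h
      obtain ⟨hreg, e, he, hen⟩ := RegLoc.isRegularLocalRing_quotient_span_singleton hx hx2 hn
      have hdom := RegLoc.isDomain (A ⧸ Ideal.span {x})
      have : (Ideal.span ({x} : Set A)).IsPrime := (Ideal.Quotient.isDomain_iff_prime _).mp hdom
      have hc : IsAdicComplete (maximalIdeal A) (A ⧸ Ideal.span {x}) :=
        Adic.isAdicComplete_of_finite (I := maximalIdeal A) (A := A) (M := A ⧸ Ideal.span {x})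
      have hcq : IsAdicComplete (maximalIdeal (A ⧸ Ideal.span {x})) (A ⧸ Ideal.span {x}) := by
        have hmax : (maximalIdeal A).map (algebraMap A (A ⧸ Ideal.span {x})) =
            maximalIdeal (A ⧸ Ideal.span {x}) := by
          refine (IsLocalRing.eq_maximalIdeal ?_)
          exact Ideal.IsMaximal.map_of_surjective_of_ker_le Ideal.Quotient.mk_surjective
            (by rw [Ideal.mk_ker]; exact (Ideal.span_singleton_le_iff_mem _).mpr hx)
        rw [← hmax, IsAdicComplete.map_algebraMap_iff]
        exact hc
      have h2 := ih e (by omega) (A ⧸ Ideal.span {x}) he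
      have : IsAdicComplete (Ideal.span ({x} : Set A)) A :=
        RegLoc.CompleteTrans.isAdicComplete_of_le (K := maximalIdeal A)
          ((Ideal.span_singleton_le_iff_mem _).mpr hx)
      exact isN2_tate A x h2

/-- Complete regular local rings are N-2. -/
theorem isN2_regular (A : Type u) [CommRing A] [IsDomain A] [IsRegularLocalRing A]
    [IsAdicComplete (maximalIdeal A) A] : CAlg.IsN2 A := by
  obtain ⟨d, hd, -⟩ := RegLoc.exists_natCast_eq_ringKrullDim A
  exact isN2_regular_aux d A hd

/-- Complete Noetherian local rings are Nagata. -/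
theorem isNagata (R : Type u) [CommRing R] [IsLocalRing R] [IsNoetherianRing R]
    [IsAdicComplete (maximalIdeal R) R] : CAlg.IsNagata R := by
  refine ⟨inferInstance, fun p hp => ?_⟩
  have : IsLocalRing (R ⧸ p) :=
    IsLocalRing.of_surjective' (Ideal.Quotient.mk p) Ideal.Quotient.mk_surjective
  have hc : IsAdicComplete (maximalIdeal R) (R ⧸ p) :=
    Adic.isAdicComplete_of_finite (I := maximalIdeal R) (A := R) (M := R ⧸ p)
  have : IsAdicComplete (maximalIdeal (R ⧸ p)) (R ⧸ p) := by
    have hmax : (maximalIdeal R).map (algebraMap R (R ⧸ p)) = maximalIdeal (R ⧸ p) := by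
      refine (IsLocalRing.eq_maximalIdeal ?_)
      exact Ideal.IsMaximal.map_of_surjective_of_ker_le Ideal.Quotient.mk_surjective
        (by rw [Ideal.mk_ker]; exact le_maximalIdeal hp.ne_top)
    rw [← hmax, IsAdicComplete.map_algebraMap_iff]
    exact hc
  obtain ⟨Λ, _, _, n, f, -, hinj, hfin, -, hreg, hcA⟩ := Normalization.exists_normalization (R ⧸ p)
  have : IsDomain (MvPowerSeries (Fin n) Λ) := hinj.isDomain f
  let _ : Algebra (MvPowerSeries (Fin n) Λ) (R ⧸ p) := f.toAlgebra
  have : Module.Finite (MvPowerSeries (Fin n) Λ) (R ⧸ p) := hfin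
  exact isN2_of_finite (MvPowerSeries (Fin n) Λ) (R ⧸ p) hinj (isN2_regular _)

end Groth.Agent.Nagata.CompleteLocal
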