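import Groth.Prelude.Def_Found
import Groth.Agent.Nagata.CompleteLocal
import Groth.Agent.RedNorm.Nagata
import Mathlib

/-!
Analytically unramified local domains are N-1.
-/

namespace Groth.Agent.Nagata

universe u

open IsLocalRing TensorProduct

/-- An analytically unramified Noetherian local domain is N-1, with an arbitrary fraction field. -/
theorem isN1_of_isReduced_completion (R : Type u) [CommRing R] [IsDomain R] [IsLocalRing R]
    [IsNoetherianRing R] [IsReduced (AdicCompletion (maximalIdeal R) R)]
    (K : Type u) [Field K] [Algebra R K] [IsFractionRing R K] :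
    Module.Finite R (integralClosure R K) := by
  classical
  let Rh := AdicCompletion (maximalIdeal R) R
  have : IsNoetherianRing Rh :=
    RegLoc.AdicNoeth.isNoetherianRing_adicCompletion _ (IsNoetherian.noetherian _)
  have hN : CAlg.IsNagata Rh := CompleteLocal.isNagata Rh
  have hB := RedNorm.finite_integralClosure_of_isNagata Rh hN
  have : Module.FaithfullyFlat R Rh := Module.FaithfullyFlat.of_flat_of_isLocalHom
  let Q := FractionRing Rh
  have hunit : ∀ d : nonZeroDivisors R, IsUnit (algebraMap R Q d) := fun d => by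
    rw [IsScalarTower.algebraMap_apply R Rh Q]
    refine IsLocalization.map_units Q (⟨algebraMap R Rh d, ?_⟩ : nonZeroDivisors Rh)
    rw [mem_nonZeroDivisors_iff_right]
    intro x hx
    apply Module.Flat.isSMulRegular_of_nonZeroDivisors (M := Rh) d.2
    simp only [Algebra.smul_def, mul_zero]
    rw [mul_comm]
    exact hx
  let ψ : K →ₐ[R] Q :=
    { IsLocalization.lift (M := nonZeroDivisors R) (S := K) (g := algebraMap R Q) hunit with
      commutes' := fun r => IsLocalization.lift_eq hunit r }
  let Φ : Rh ⊗[R] K →ₐ[Rh] Q :=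
    Algebra.TensorProduct.lift (Algebra.ofId Rh Q) ψ fun _ _ => Commute.all _ _
  have hrep : ∀ w : Rh ⊗[R] K, ∃ (a : Rh) (d : nonZeroDivisors R),
      w = a ⊗ₜ IsLocalization.mk' K 1 d := by
    intro w
    induction w using TensorProduct.induction_on with
    | zero => exact ⟨0, 1, by simp⟩
    | tmul b x =>
      obtain ⟨n, d, rfl⟩ := IsLocalization.exists_mk'_eq (nonZeroDivisors R) x
      exact ⟨n • b, d, by rw [TensorProduct.smul_tmul, IsLocalization.smul_mk', mul_one]⟩
    | add u v hu hv =>
      obtain ⟨a, d, rfl⟩ := hu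
      obtain ⟨b, e, rfl⟩ := hv
      refine ⟨(e : R) • a + (d : R) • b, d * e, ?_⟩
      rw [TensorProduct.add_tmul, TensorProduct.smul_tmul, TensorProduct.smul_tmul,
        IsLocalization.smul_mk', IsLocalization.smul_mk', mul_one, mul_one]
      congr 2
      · exact IsLocalization.mk'_eq_of_eq (by simp [mul_comm])
      · exact IsLocalization.mk'_eq_of_eq (by simp [mul_comm])
  have hΦ : Function.Injective Φ := by
    rw [injective_iff_map_eq_zero]
    intro w hw
    obtain ⟨a, d, rfl⟩ := hrep w
    rw [Algebra.TensorProduct.lift_tmul] at hw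
    have hu : IsUnit (ψ (IsLocalization.mk' K 1 d)) := by
      refine (IsUnit.mk0 _ fun h => ?_).map ψ
      rw [IsLocalization.mk'_eq_zero_iff] at h
      obtain ⟨m, hm⟩ := h
      rw [mul_one] at hm
      exact nonZeroDivisors.ne_zero m.2 hm
    have ha : algebraMap Rh Q a = 0 := (hu.mul_left_eq_zero).mp hw
    rw [IsFractionRing.injective Rh Q (ha.trans (map_zero _).symm), TensorProduct.zero_tmul]
  let C := integralClosure R K
  let Ψ : Rh ⊗[R] C →ₐ[Rh] Q := Φ.comp (Algebra.TensorProduct.map (AlgHom.id Rh Rh) C.val)
  have hΨ : Function.Injective Ψ :=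
    hΦ.comp (Module.Flat.lTensor_preserves_injective_linearMap (M := Rh) C.val.toLinearMap
      Subtype.val_injective)
  have hmem : ∀ w, Ψ w ∈ integralClosure Rh Q := by
    intro w
    induction w using TensorProduct.induction_on with
    | zero => rw [map_zero]; exact Subalgebra.zero_mem _
    | add u v hu hv => rw [map_add]; exact Subalgebra.add_mem _ hu hv
    | tmul b c =>
      have hb : Ψ (b ⊗ₜ c) = algebraMap Rh Q b * ψ (c : K) :=
        Algebra.TensorProduct.lift_tmul (Algebra.ofId Rh Q) ψ (fun _ _ => Commute.all _ _) b (c : K)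
      rw [hb]
      exact Subalgebra.mul_mem _ (Subalgebra.algebraMap_mem _ _)
        ((c.2 : IsIntegral R (c : K)).map ψ).tower_top
  have : IsNoetherian Rh (integralClosure Rh Q) := isNoetherian_of_isNoetherianRing_of_finite Rh _
  let L : Rh ⊗[R] C →ₗ[Rh] integralClosure Rh Q :=
    LinearMap.codRestrict (Subalgebra.toSubmodule (integralClosure Rh Q)) Ψ.toLinearMap hmem
  have : Module.Finite Rh (Rh ⊗[R] C) :=
    Module.Finite.of_injective L fun a b h => hΨ (congrArg Subtype.val h)
  exact Module.Finite.of_finite_tensorProduct_of_faithfullyFlat Rh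

end Groth.Agent.Nagata
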