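import Groth.Prelude.Def_Found
import Groth.Agent.Nagata.AnalUnramN1
import Mathlib

/-!
Local rings of `R[y]`, `y ∈ Frac R`, for a normal Nagata domain `R`, at primes containing `y`.
-/

namespace Groth.Agent.Nagata.AdjoinCore

universe u

open IsLocalRing

variable {R : Type u} [CommRing R] [IsDomain R] [IsIntegrallyClosed R]
  {K : Type u} [Field K] [Algebra R K] [IsFractionRing R K]

/-- If `b = y g(y)` with `b ∈ R`, then `b/y ∈ R`. -/
theorem exists_eq_mul_of_eq_mul_aeval (y : K) : ∀ (n : ℕ) (g : Polynomial R), g.natDegree ≤ n →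
    ∀ b : R, algebraMap R K b = y * Polynomial.aeval y g → ∃ c : R, algebraMap R K b = y * algebraMap R K c := by
  intro n
  induction n with
  | zero =>
    intro g hg b hb
    rw [Polynomial.eq_C_of_natDegree_le_zero hg, Polynomial.aeval_C] at hb
    exact ⟨_, hb⟩
  | succ n ih =>
    intro g hg b hb
    by_cases hg' : g.natDegree ≤ n
    · exact ih g hg' b hb
    have hdeg : g.natDegree = n + 1 := by omega
    let Q : Polynomial R := Polynomial.X * g - Polynomial.C b
    have hQdeg : Q.natDegree = n + 2 := by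
      rw [Polynomial.natDegree_sub_C, Polynomial.natDegree_X_mul, hdeg]
      intro h; rw [h] at hdeg; simp at hdeg
    have hQ : Polynomial.aeval y Q = 0 := by
      simp [Q, hb]
    have hlead : Q.leadingCoeff = g.leadingCoeff := by
      rw [Polynomial.leadingCoeff, hQdeg, Polynomial.coeff_sub, Polynomial.coeff_C,
        if_neg (by omega), sub_zero, show n + 2 = g.natDegree + 1 by omega, Polynomial.coeff_X_mul]
      rfl
    have hint : IsIntegral R (g.leadingCoeff • y) :=
      by
      rw [← hlead, Algebra.smul_def]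
      exact RingHom.isIntegralElem_leadingCoeff_mul (algebraMap R K) Q y hQ
    obtain ⟨r, hr⟩ := IsIntegrallyClosed.isIntegral_iff.mp hint
    refine ih (g.eraseLead + Polynomial.C r * Polynomial.X ^ n) ?_ b ?_
    · refine (Polynomial.natDegree_add_le _ _).trans (max_le ?_ (Polynomial.natDegree_C_mul_X_pow_le _ _))
      exact (Polynomial.eraseLead_natDegree_le g).trans (by omega)
    · rw [hb]
      conv_lhs => rw [← Polynomial.eraseLead_add_C_mul_X_pow g, hdeg]
      simp only [map_add, map_mul, Polynomial.aeval_C, map_pow, Polynomial.aeval_X, hr,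
        Algebra.smul_def]
      ring

theorem isN1_localization (hR : CAlg.IsNagata R) (y : K) (S : Subalgebra R K)
    (hS : S = Algebra.adjoin R {y}) (η : S) (hη : (η : K) = y) (M : Ideal S) [M.IsPrime]
    (hy : η ∈ M) (A : Type u) [CommRing A] [IsDomain A] [Algebra S A]
    [IsLocalization.AtPrime A M] : CAlg.IsN1 A := by
  classical
  have := hR.1
  have : Algebra.FiniteType R S :=
    (Subalgebra.fg_iff_finiteType _).mp ⟨{y}, by simp [hS]⟩
  have : IsNoetherianRing S := Algebra.FiniteType.isNoetherianRing R S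
  have : IsNoetherianRing A := IsLocalization.isNoetherianRing M.primeCompl A inferInstance
  have : IsLocalRing A := IsLocalization.AtPrime.isLocalRing A M
  have hinjS : Function.Injective (algebraMap R S) := fun a b h =>
    IsFractionRing.injective R K (congrArg Subtype.val h)
  suffices IsReduced (AdicCompletion (maximalIdeal A) A) from
    Nagata.isN1_of_isReduced_completion A (FractionRing A)
  have hquot : ∀ (P : Ideal A) [P.IsPrime] (D : Ideal S) [D.IsPrime],
      Function.Surjective ((Ideal.Quotient.mk D).comp (algebraMap R S)) → D ≤ M →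
      P = D.map (algebraMap S A) →
      IsReduced (AdicCompletion (maximalIdeal A) A ⧸
        P.map (algebraMap A (AdicCompletion (maximalIdeal A) A))) := by
    intro P _ D _ hsurj _ hP
    subst hP
    have h1 : Props.N2Local.QuotN2 (S ⧸ D) := by
      intro E _ _ _ hE
      let _ : Algebra R E := ((algebraMap (S ⧸ D) E).comp ((Ideal.Quotient.mk D).comp (algebraMap R S))).toAlgebra
      exact (Props.N2Local.isNagata_iff.mp hR).2 E (hE.comp hsurj)
    have : Nontrivial (A ⧸ D.map (algebraMap S A)) :=
      Ideal.Quotient.nontrivial_iff.mpr (Ideal.IsPrime.ne_top inferInstance)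
    have : IsLocalRing (A ⧸ D.map (algebraMap S A)) :=
      IsLocalRing.of_surjective' (Ideal.Quotient.mk _) Ideal.Quotient.mk_surjective
    have h2 := Props.N2Local.quotN2_localization h1
      (Algebra.algebraMapSubmonoid (S ⧸ D) M.primeCompl) (A ⧸ D.map (algebraMap S A))
    have hN : CAlg.IsNagata (A ⧸ D.map (algebraMap S A)) :=
      Props.N2Local.isNagata_iff.mpr ⟨inferInstance, h2⟩
    have hred := Nagata.isReduced_completion_of_isNagata hN
    have hmax : maximalIdeal (A ⧸ D.map (algebraMap S A)) =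
        (maximalIdeal A).map (Ideal.Quotient.mk (D.map (algebraMap S A))) := by
      refine (IsLocalRing.eq_maximalIdeal ?_).symm
      exact Ideal.IsMaximal.map_of_surjective_of_ker_le Ideal.Quotient.mk_surjective
        (by rw [Ideal.mk_ker]; exact le_maximalIdeal (Ideal.IsPrime.ne_top inferInstance))
    rw [hmax] at hred
    exact Nagata.isReduced_completion_quotient (maximalIdeal A) _
  rcases eq_or_ne y 0 with hy0 | hy0
  · have hsurj : Function.Surjective ((Ideal.Quotient.mk (⊥ : Ideal S)).comp (algebraMap R S)) := by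
      intro z
      obtain ⟨⟨z, hz⟩, rfl⟩ := Ideal.Quotient.mk_surjective z
      obtain ⟨g, rfl⟩ := (hS.trans (Algebra.adjoin_singleton_eq_range_aeval R y)).le hz
      exact ⟨g.coeff 0, congrArg _ (Subtype.ext (by
        change algebraMap R K (g.coeff 0) = Polynomial.aeval y g
        rw [hy0, ← Polynomial.coeff_zero_eq_aeval_zero']))⟩
    have h := hquot ⊥ ⊥ hsurj bot_le Ideal.map_bot.symm
    rw [Ideal.map_bot] at h
    exact isReduced_of_injective (RingEquiv.quotientBot _).symm (RingEquiv.quotientBot _).symm.injective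
  -- contraction of `η S` to `R`
  let I : Ideal R := (Ideal.span {η}).comap (algebraMap R S)
  have hmem : ∀ b : R, b ∈ I → ∃ c : R, algebraMap R K b = y * algebraMap R K c := by
    intro b hb
    obtain ⟨⟨g, hg⟩, hgb⟩ := Ideal.mem_span_singleton'.mp (Ideal.mem_comap.mp hb)
    obtain ⟨P, rfl⟩ := (hS.trans (Algebra.adjoin_singleton_eq_range_aeval R y)).le hg
    exact exists_eq_mul_of_eq_mul_aeval y P.natDegree P le_rfl b
      ((congrArg Subtype.val hgb).symm.trans ((mul_comm _ _).trans (by rw [hη]; rfl)))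
  have hmem' : ∀ b c : R, algebraMap R K b = y * algebraMap R K c → b ∈ I := fun b c h =>
    Ideal.mem_span_singleton'.mpr ⟨algebraMap R S c, Subtype.ext ((mul_comm _ _).trans (by
      change (η : K) * algebraMap R K c = algebraMap R K b
      rw [hη, h]))⟩
  obtain ⟨r, s₀, hs₀, hy'⟩ := IsFractionRing.div_surjective R y
  have hs₀' : algebraMap R K s₀ ≠ 0 := IsFractionRing.to_map_ne_zero_of_mem_nonZeroDivisors hs₀
  have hr : algebraMap R K r = y * algebraMap R K s₀ := by rw [← hy', div_mul_cancel₀ _ hs₀']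
  have hr0 : r ≠ 0 := fun h => hy0 (by rw [← hy', h, map_zero, zero_div])
  -- decomposition
  have hdec : ∀ z : S, ∃ (b : R) (w : S), z = algebraMap R S b + η * w := by
    rintro ⟨z, hz⟩
    obtain ⟨g, rfl⟩ := (hS.trans (Algebra.adjoin_singleton_eq_range_aeval R y)).le hz
    refine ⟨g.coeff 0, ⟨Polynomial.aeval y g.divX, hS ▸ Polynomial.aeval_mem_adjoin_singleton R y⟩, Subtype.ext ?_⟩
    change Polynomial.aeval y g = algebraMap R K (g.coeff 0) + (η : K) * Polynomial.aeval y g.divX
    rw [hη]
    have := congrArg (Polynomial.aeval y) (Polynomial.X_mul_divX_add g)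
    rw [map_add, map_mul, Polynomial.aeval_X, Polynomial.aeval_C] at this
    rw [← this, add_comm]
  have : IsNoetherianRing (AdicCompletion (maximalIdeal A) A) :=
    RegLoc.AdicNoeth.isNoetherianRing_adicCompletion _ (IsNoetherian.noetherian _)
  have : Module.Flat S A := IsLocalization.flat A M.primeCompl
  have : Module.Flat S (AdicCompletion (maximalIdeal A) A) := Module.Flat.trans S A _
  refine Nagata.isReduced_of_divisor (A := S) η ?_ ?_ ?_
  · exact fun a b h => mul_left_cancel₀ (fun h0 => hy0 (hη.symm.trans (congrArg Subtype.val h0))) h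
  · rw [IsScalarTower.algebraMap_apply S A (AdicCompletion (maximalIdeal A) A)]
    refine maximalIdeal_le_jacobson ⊥ ?_
    rw [AdicCompletion.maximalIdeal_eq_map]
    exact Ideal.mem_map_of_mem _ ((IsLocalization.AtPrime.to_map_mem_maximal_iff A M η).mpr hy)
  intro P hP
  obtain ⟨hPp, z, hz⟩ := isAssociatedPrime_iff.mp hP
  obtain ⟨z, rfl⟩ := Ideal.Quotient.mk_surjective z
  have hPz : ∀ a : S, a ∈ P ↔ a * z ∈ Ideal.span {η} := by
    intro a
    rw [hz, Submodule.mem_colon_singleton, Submodule.mem_bot]
    exact Ideal.Quotient.eq_zero_iff_mem (a := a * z)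
  obtain ⟨b₀, w₀, hzb⟩ := hdec z
  set p := P.comap (algebraMap R S) with hp
  have hpI : ∀ a : R, a ∈ p ↔ a * b₀ ∈ I := by
    intro a
    rw [hp, Ideal.mem_comap, hPz, hzb, mul_add, Ideal.mem_comap, map_mul]
    exact Ideal.add_mem_iff_left _ (Ideal.mul_mem_left _ _ (Ideal.mul_mem_right _ _ (Ideal.mem_span_singleton_self η)))
  -- `p` is associated to `R / rR`
  have hIr : ∀ a : R, a ∈ I ↔ s₀ * a ∈ Ideal.span {r} := by
    intro a
    constructor
    · intro ha
      obtain ⟨c, hc⟩ := hmem a ha
      refine Ideal.mem_span_singleton'.mpr ⟨c, IsFractionRing.injective R K ?_⟩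
      rw [map_mul, map_mul, hc, hr]; ring
    · intro ha
      obtain ⟨c, hc⟩ := Ideal.mem_span_singleton'.mp ha
      refine hmem' a c (mul_left_cancel₀ hs₀' ?_)
      rw [← map_mul, ← hc, map_mul, hr]; ring
  have : p.IsPrime := Ideal.IsPrime.comap _
  have hpass : p ∈ associatedPrimes R (R ⧸ Ideal.span {r}) := by
    refine isAssociatedPrime_iff.mpr ⟨inferInstance, Ideal.Quotient.mk _ (s₀ * b₀), ?_⟩
    ext a
    rw [Submodule.mem_colon_singleton, Submodule.mem_bot, hpI, hIr]
    rw [show a • Ideal.Quotient.mk (Ideal.span {r}) (s₀ * b₀) = Ideal.Quotient.mk (Ideal.span {r}) (s₀ * (a * b₀)) by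
      rw [Algebra.smul_def, Ideal.Quotient.algebraMap_eq, ← map_mul, mul_left_comm]]
    exact Ideal.Quotient.eq_zero_iff_mem.symm
  obtain ⟨hpmin, ⟨t, htp, σ, hσ, hσt⟩, hprin⟩ := Nagata.assPrime_of_normal hr0 hpass
  have hηP : η ∈ P := (hPz η).mpr (Ideal.mul_mem_right _ _ (Ideal.mem_span_singleton_self _))
  have hIp : I ≤ p := fun a ha =>
    (show Ideal.span {η} ≤ P from (Ideal.span_singleton_le_iff_mem _).mpr hηP) ha
  -- `u y ∈ p` for some `u ∉ p`
  obtain ⟨u, hu, c, hc, hcu⟩ : ∃ u ∉ p, ∃ c ∈ p, algebraMap R K c = y * algebraMap R K u := by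
    let T := Localization.AtPrime p
    have : IsDiscreteValuationRing T := by
      refine ((IsDiscreteValuationRing.TFAE T ?_).out 0 4).mpr hprin
      intro hF
      have h0 : algebraMap R T r ∈ maximalIdeal T :=
        (IsLocalization.AtPrime.to_map_mem_maximal_iff T p r).mpr (hpmin.1.2 (Ideal.mem_span_singleton_self r))
      rw [IsLocalRing.isField_iff_maximalIdeal_eq.mp hF, Ideal.mem_bot] at h0
      exact hr0 ((IsLocalization.to_map_eq_zero_iff T p.primeCompl_le_nonZeroDivisors).mp h0)
    rcases ValuationRing.dvd_total (algebraMap R T s₀) (algebraMap R T r) with ⟨w, hw⟩ | ⟨w, hw⟩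
    · obtain ⟨c, u, rfl⟩ := IsLocalization.exists_mk'_eq p.primeCompl w
      have h1 : algebraMap R T (r * u) = algebraMap R T (s₀ * c) := by
        rw [map_mul, map_mul, hw, mul_assoc, IsLocalization.mk'_spec]
      have h2 : r * u = s₀ * c := IsLocalization.injective T p.primeCompl_le_nonZeroDivisors h1
      have h3 : algebraMap R K c = y * algebraMap R K u := by
        refine mul_left_cancel₀ hs₀' ?_
        rw [← map_mul, ← h2, map_mul, hr]; ring
      exact ⟨u, u.2, c, hIp (hmem' c u h3), h3⟩
    · obtain ⟨c, u, rfl⟩ := IsLocalization.exists_mk'_eq p.primeCompl w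
      have h1 : algebraMap R T (s₀ * u) = algebraMap R T (r * c) := by
        rw [map_mul, map_mul, hw, mul_assoc, IsLocalization.mk'_spec]
      have h2 : s₀ * u = r * c := IsLocalization.injective T p.primeCompl_le_nonZeroDivisors h1
      have h3 : algebraMap R K u = y * algebraMap R K c := by
        refine mul_left_cancel₀ hs₀' ?_
        rw [← map_mul, h2, map_mul, hr]; ring
      exact absurd (hIp (hmem' u c h3)) u.2
  have hsurj : Function.Surjective ((Ideal.Quotient.mk P).comp (algebraMap R S)) := by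
    intro x
    obtain ⟨x, rfl⟩ := Ideal.Quotient.mk_surjective x
    obtain ⟨b, w, rfl⟩ := hdec x
    refine ⟨b, Ideal.Quotient.eq.mpr ?_⟩
    rw [sub_add_cancel_left]
    exact neg_mem (P.mul_mem_right _ hηP)
  refine ⟨⟨⟨hPp, (Ideal.span_singleton_le_iff_mem _).mpr hηP⟩, fun Q hQ hQP => ?_⟩, ?_, ?_⟩
  · have := hQ.1
    have hηQ : η ∈ Q := hQ.2 (Ideal.mem_span_singleton_self _)
    have hrQ : Ideal.span {r} ≤ Q.comap (algebraMap R S) := by
      rw [Ideal.span_singleton_le_iff_mem, Ideal.mem_comap]
      exact (show Ideal.span {η} ≤ Q from hQ.2) (hmem' r s₀ hr)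
    have hQp : Q.comap (algebraMap R S) = p :=
      le_antisymm (Ideal.comap_mono hQP) (hpmin.2 ⟨inferInstance, hrQ⟩ (Ideal.comap_mono hQP))
    intro a ha
    obtain ⟨b, w, rfl⟩ := hdec a
    have hb : b ∈ p := by
      rw [hp, Ideal.mem_comap]
      exact (Ideal.add_mem_iff_left _ (P.mul_mem_right _ hηP)).mp ha
    rw [← hQp, Ideal.mem_comap] at hb
    exact Q.add_mem hb (Q.mul_mem_right _ hηQ)
  · refine ⟨algebraMap R S t, htp, algebraMap R S (σ * u), ?_, fun a ha => ?_⟩
    · exact (inferInstance : p.IsPrime).mul_notMem hσ hu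
    obtain ⟨b, w, rfl⟩ := hdec a
    have hb : b ∈ p := by
      rw [hp, Ideal.mem_comap]
      exact (Ideal.add_mem_iff_left _ (P.mul_mem_right _ hηP)).mp ha
    obtain ⟨d, hd⟩ := Ideal.mem_span_singleton'.mp (hσt b hb)
    obtain ⟨e, he⟩ := Ideal.mem_span_singleton'.mp (hσt c hc)
    refine Ideal.mem_span_singleton'.mpr ⟨algebraMap R S (u * d) + algebraMap R S e * w, ?_⟩
    have h1 : algebraMap R S (σ * u) * η = algebraMap R S (σ * c) := Subtype.ext (by
      change algebraMap R K (σ * u) * (η : K) = algebraMap R K (σ * c)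
      rw [hη, map_mul, map_mul, hcu]; ring)
    have hd' : algebraMap R S d * algebraMap R S t = algebraMap R S σ * algebraMap R S b := by
      rw [← map_mul, hd, map_mul]
    have he' : algebraMap R S e * algebraMap R S t = algebraMap R S (σ * c) := by
      rw [← map_mul, he]
    rw [mul_add, ← mul_assoc, h1]
    simp only [map_mul] at he' ⊢
    linear_combination algebraMap R S u * hd' + w * he'
  · rw [IsScalarTower.algebraMap_eq S A (AdicCompletion (maximalIdeal A) A), ← Ideal.map_map]
    by_cases hPM : P ≤ M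
    · have : (P.map (algebraMap S A)).IsPrime :=
        IsLocalization.isPrime_of_isPrime_disjoint M.primeCompl A P hPp
          (Set.disjoint_left.mpr fun a ha ha' => ha (hPM ha'))
      exact hquot _ P hsurj hPM rfl
    · obtain ⟨a, haP, haM⟩ := SetLike.not_le_iff_exists.mp hPM
      have : P.map (algebraMap S A) = ⊤ :=
        Ideal.eq_top_of_isUnit_mem _ (Ideal.mem_map_of_mem _ haP) (IsLocalization.map_units A (⟨a, haM⟩ : M.primeCompl))
      rw [this, Ideal.map_top]
      have : Subsingleton (AdicCompletion (maximalIdeal A) A ⧸ (⊤ : Ideal (AdicCompletion (maximalIdeal A) A))) :=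
        Ideal.Quotient.subsingleton_iff.mpr rfl
      exact ⟨fun _ _ => Subsingleton.elim _ _⟩

end Groth.Agent.Nagata.AdjoinCore
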