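import Groth.Prelude.Def_Found
import Groth.Agent.RegLoc.N1
import Mathlib

/-!
N-1 at a maximal ideal from N-1 at the primes above it in a finite extension.
-/

namespace Groth.Agent.Nagata.LocalN1

universe u

open RegLoc.N1

/-- If a finitely generated module of integral elements captures the closure near `m`, then the
localization at `m` is N-1. -/
theorem isN1_localization_of_good {R : Type u} [CommRing R] [IsDomain R] (m : Ideal R) [m.IsPrime]
    (M : Submodule R (FractionRing R)) (hM : M.FG) (hint : ∀ y ∈ M, IsIntegral R y) (hg : Good M m) :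
    CAlg.IsN1 (Localization.AtPrime m) := by
  classical
  let K := FractionRing R
  let A := Localization.AtPrime m
  have hle : m.primeCompl ≤ nonZeroDivisors R := m.primeCompl_le_nonZeroDivisors
  let _ : Algebra A K :=
    IsLocalization.localizationAlgebraOfSubmonoidLe A K m.primeCompl _ hle
  have : IsScalarTower R A K :=
    IsLocalization.localization_isScalarTower_of_submonoid_le A K m.primeCompl _ hle
  have : IsFractionRing A K :=
    IsFractionRing.isFractionRing_of_isDomain_of_isLocalization m.primeCompl _ _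
  refine isN1_of_finite K ((Module.Finite.iff_fg (N := (integralClosure A K).toSubmodule)).mpr ?_)
  obtain ⟨T, hT⟩ := hM
  refine ⟨T, le_antisymm ?_ ?_⟩
  · rw [Submodule.span_le]
    intro z hz
    exact (hint z (hT ▸ Submodule.subset_span hz)).tower_top
  · intro z hz
    obtain ⟨s, hs⟩ := IsIntegral.exists_multiple_integral_of_isLocalization m.primeCompl z hz
    obtain ⟨t, ht, hts⟩ := hg _ hs
    have h2 : t • s • z ∈ Submodule.span A (T : Set K) :=
      Submodule.span_le_restrictScalars R A (T : Set K) (hT ▸ hts)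
    obtain ⟨v, hv⟩ := IsLocalization.map_units A (⟨t * s, m.primeCompl.mul_mem ht s.2⟩ : m.primeCompl)
    have h3 : z = (↑v⁻¹ : A) • (t • s • z) := by
      rw [Submonoid.smul_def, smul_smul, ← algebraMap_smul A (t * (s : R)) z]
      rw [show algebraMap R A (t * (s : R)) = (v : A) from hv.symm, smul_smul, Units.inv_mul, one_smul]
    rw [h3]
    exact Submodule.smul_mem _ _ h2

/-- `S → S'` finite injective, `m` maximal, `f^N • (closure of S') ⊆ S'` elementwise: N-1 at all
primes over `m` gives N-1 at `m`. -/
theorem isN1_localization_of_finite {S S' : Type u} [CommRing S] [IsDomain S] [IsNoetherianRing S]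
    [CommRing S'] [IsDomain S'] [Algebra S S'] [Module.Finite S S']
    (hinj : Function.Injective (algebraMap S S')) (m : Ideal S) [m.IsMaximal] {f : S'} (hf : f ≠ 0)
    (hpow : ∀ z : FractionRing S', IsIntegral S' z →
      ∃ n : ℕ, f ^ n • z ∈ LinearMap.range (Algebra.linearMap S' (FractionRing S')))
    (hloc : ∀ (q : Ideal S') [q.IsPrime], q.comap (algebraMap S S') = m →
      CAlg.IsN1 (Localization.AtPrime q)) : CAlg.IsN1 (Localization.AtPrime m) := by
  classical
  let L := FractionRing S'
  let K := FractionRing S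
  have : IsNoetherianRing S' := IsNoetherianRing.of_finite S S'
  have : FaithfulSMul S S' := (faithfulSMul_iff_algebraMap_injective S S').mpr hinj
  let _ : Algebra K L := FractionRing.liftAlgebra S L
  let Z : Set (PrimeSpectrum S') := PrimeSpectrum.zeroLocus (m.map (algebraMap S S') : Ideal S')
  have hZ : IsCompact Z := (PrimeSpectrum.isClosed_zeroLocus _).isCompact
  have hZm : ∀ q ∈ Z, q.asIdeal.comap (algebraMap S S') = m := fun q hq =>
    ((inferInstance : m.IsMaximal).eq_of_le (Ideal.IsPrime.comap _).ne_top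
      (Ideal.le_comap_of_map_le hq)).symm
  have hex : ∀ q : Z, ∃ M : Submodule S' L,
      M.FG ∧ (1 : L) ∈ M ∧ (∀ y ∈ M, IsIntegral S' y) ∧ Good M q.1.asIdeal := fun q =>
    exists_good_of_isN1 q.1.asIdeal (hloc q.1.asIdeal (hZm q.1 q.2))
  choose M hM h1 hint hgood using hex
  have hpow' : ∀ q : Z, ∀ y : L, IsIntegral S' y → ∃ n : ℕ, f ^ n • y ∈ M q := by
    intro q y hy
    obtain ⟨n, c, hc⟩ := hpow y hy
    refine ⟨n, ?_⟩
    rw [← hc, Algebra.linearMap_apply, Algebra.algebraMap_eq_smul_one]
    exact Submodule.smul_mem _ _ (h1 q)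
  obtain ⟨t, ht⟩ := hZ.elim_finite_subcover
    (fun q : Z => {p : PrimeSpectrum S' | Good (M q) p.asIdeal})
    (fun q => isOpen_good (M q) (hM q) (h1 q) hf (hpow' q))
    (fun q hq => Set.mem_iUnion.mpr ⟨⟨q, hq⟩, hgood ⟨q, hq⟩⟩)
  let MS : Submodule S' L := t.sup M
  have hMS : MS.FG := Submodule.fg_finset_sup _ _ fun q _ => hM q
  have hMint : ∀ y ∈ MS, IsIntegral S' y := by
    have : MS ≤ (integralClosure S' L).toSubmodule := Finset.sup_le fun q _ y hy => hint q y hy
    exact this
  have : Algebra.IsIntegral S S' := Algebra.IsIntegral.of_finite S S'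
  -- the part inside `K`
  let ι : K →ₗ[S] L := (IsScalarTower.toAlgHom S K L).toLinearMap
  have hι : Function.Injective ι := (algebraMap K L).injective
  let M0 : Submodule S K := (MS.restrictScalars S).comap ι
  have hM0 : M0.FG := by
    have : Module.Finite S' MS := Module.Finite.iff_fg.mpr hMS
    have : Module.Finite S (MS.restrictScalars S) := Module.Finite.trans (R := S) S' MS
    have : IsNoetherian S (MS.restrictScalars S) := isNoetherian_of_isNoetherianRing_of_finite S _
    have : Module.Finite S M0 := Module.Finite.of_injective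
      ((ι.comp M0.subtype).codRestrict (MS.restrictScalars S) fun x => x.2)
      fun a b h => Subtype.ext (hι (congrArg Subtype.val h))
    exact Module.Finite.iff_fg.mp this
  refine isN1_localization_of_good m M0 hM0 (fun y hy => ?_) fun y hy => ?_
  · exact (isIntegral_algHom_iff (IsScalarTower.toAlgHom S K L) (algebraMap K L).injective).mp
      (isIntegral_trans (R := S) (A := S') _ (hMint _ hy))
  · have hyL : IsIntegral S' (algebraMap K L y) := (hy.algebraMap).tower_top
    let J : Ideal S' := MS.comap (LinearMap.toSpanSingleton S' L (algebraMap K L y))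
    have hJ : J ⊔ m.map (algebraMap S S') = ⊤ := by
      by_contra hne
      obtain ⟨q, hq, hle⟩ := Ideal.exists_le_maximal _ hne
      have hqZ : (⟨q, hq.isPrime⟩ : PrimeSpectrum S') ∈ Z := le_sup_right.trans hle
      obtain ⟨r, hr, hqr⟩ := Set.mem_iUnion₂.mp (ht hqZ)
      obtain ⟨s, hs, hsy⟩ := hqr _ hyL
      exact hs (hle (Ideal.mem_sup_left (show s ∈ J from Finset.le_sup (f := M) hr hsy)))
    have hNak : (⊤ : Submodule S (S' ⧸ J)) ≤ m • ⊤ := by
      rintro x -
      obtain ⟨x, rfl⟩ := Ideal.Quotient.mk_surjective x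
      have hx : x ∈ J ⊔ m.map (algebraMap S S') := hJ ▸ Submodule.mem_top
      obtain ⟨a, ha, b, hb, rfl⟩ := Submodule.mem_sup.mp hx
      rw [map_add, Ideal.Quotient.eq_zero_iff_mem.mpr ha, zero_add, Ideal.smul_top_eq_map,
        IsScalarTower.algebraMap_eq S S' (S' ⧸ J), ← Ideal.map_map]
      exact Ideal.mem_map_of_mem _ hb
    obtain ⟨r, hr1, hr⟩ := Submodule.exists_sub_one_mem_and_smul_eq_zero_of_fg_of_le_smul m ⊤
      Module.Finite.fg_top hNak
    refine ⟨r, fun hrm => (Ideal.IsMaximal.ne_top inferInstance) ((Ideal.eq_top_iff_one m).mpr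
      (by simpa using sub_mem hrm hr1)), ?_⟩
    have h1J := hr (Ideal.Quotient.mk J 1) trivial
    rw [Algebra.smul_def, IsScalarTower.algebraMap_apply S S', Ideal.Quotient.algebraMap_eq, ← map_mul,
      mul_one, Ideal.Quotient.eq_zero_iff_mem] at h1J
    change ι (r • y) ∈ MS
    rw [map_smul, ← algebraMap_smul S' r (ι y)]
    exact h1J

end Groth.Agent.Nagata.LocalN1
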