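import Groth.Prelude.Def_Found
import Groth.Agent.Nagata.CompleteLocal
import Mathlib

/-!
Polynomial rings over N-1 and N-2 domains.
-/

namespace Groth.Agent.Nagata.Poly

universe u

open Polynomial IntermediateField

variable {R : Type u} [CommRing R] [IsDomain R]

theorem key [IsNoetherianRing R] (K : Type u) [Field K] [Algebra R K] [IsFractionRing R K]
    {Ω : Type u} [Field Ω] [Algebra R[X] Ω] [Algebra R Ω] [IsScalarTower R R[X] Ω]
    [Algebra K Ω] [IsScalarTower R K Ω] (hinjΩ : Function.Injective (algebraMap R[X] Ω))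
    (K1 : IntermediateField K Ω) [FiniteDimensional K K1]
    [Module.Finite R (integralClosure R K1)]
    {q : ℕ} (hq : 0 < q) (Y : Ω) (hY : Y ^ q = algebraMap R[X] Ω Polynomial.X)
    (M : Type u) [Field M] [Algebra R[X] M] (f : M →ₐ[R[X]] Ω)
    (hf : ∀ m, ∃ a b : (integralClosure R K1)[X], b ≠ 0 ∧
      f m * b.eval₂ (algebraMap K1 Ω |>.comp (integralClosure R K1).val.toRingHom) Y =
        a.eval₂ (algebraMap K1 Ω |>.comp (integralClosure R K1).val.toRingHom) Y) :
    Module.Finite R[X] (integralClosure R[X] M) := by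
  classical
  let R1 := integralClosure R K1
  have : IsIntegrallyClosed R1 := integralClosure.isIntegrallyClosedOfFiniteExtension K
  have : IsScalarTower R K1 Ω := IsScalarTower.of_algebraMap_eq fun _ => rfl
  let c : R1 →+* Ω := (algebraMap K1 Ω).comp R1.val.toRingHom
  let φ : R1[X] →+* Ω := eval₂RingHom c Y
  let ψ : R[X] →+* R1[X] := eval₂RingHom (C.comp (algebraMap R R1)) (Polynomial.X ^ q)
  have hc : ∀ r : R, c (algebraMap R R1 r) = algebraMap R Ω r := fun r =>
    (IsScalarTower.algebraMap_apply R K1 Ω r).symm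
  have hφψ : φ.comp ψ = algebraMap R[X] Ω := by
    refine Polynomial.ringHom_ext (fun r => ?_) ?_
    · simp only [φ, ψ, RingHom.comp_apply, coe_eval₂RingHom, eval₂_C, hc]
      exact IsScalarTower.algebraMap_apply R R[X] Ω r
    · simp only [φ, ψ, RingHom.comp_apply, coe_eval₂RingHom, eval₂_X, eval₂_pow, hY]
  have htr : ¬ IsAlgebraic K1 Y := by
    intro h
    have h1 : IsIntegral K Y := isIntegral_trans (R := K) (A := K1) Y h.isIntegral
    have h2 : IsAlgebraic K (algebraMap R[X] Ω Polynomial.X) := (hY ▸ h1.pow q).isAlgebraic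
    obtain ⟨P, hP0, hP⟩ := (IsFractionRing.isAlgebraic_iff R K Ω).mpr h2
    apply hP0
    apply hinjΩ
    rw [Polynomial.aeval_algebraMap_apply, Polynomial.aeval_X_left_apply] at hP
    rw [hP, map_zero]
  have hφ : Function.Injective φ := by
    rw [injective_iff_map_eq_zero]
    intro P hP
    by_contra h0
    refine htr ⟨P.map R1.val.toRingHom, ?_, ?_⟩
    · exact fun h => h0 (Polynomial.map_injective _ Subtype.val_injective (h.trans (Polynomial.map_zero _).symm))
    · rw [aeval_def, eval₂_map]
      exact hP
  let _ : Algebra R[X] R1[X] := ψ.toAlgebra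
  let _ : Algebra R1[X] Ω := φ.toAlgebra
  have : IsScalarTower R[X] R1[X] Ω := IsScalarTower.of_algebraMap_eq' hφψ.symm
  have : FaithfulSMul R1[X] Ω := (faithfulSMul_iff_algebraMap_injective R1[X] Ω).mpr hφ
  -- finiteness of `R1[X]` over `R[X]`
  obtain ⟨G, hG⟩ := Module.Finite.fg_top (R := R) (M := R1)
  have hfin : Module.Finite R[X] R1[X] := by
    refine ⟨(G ×ˢ Finset.range q).image (fun gi => C gi.1 * Polynomial.X ^ gi.2), ?_⟩
    rw [eq_top_iff]
    rintro P -
    induction P using Polynomial.induction_on' with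
    | add a b ha hb => exact Submodule.add_mem _ ha hb
    | monomial k a =>
      have ha : a ∈ Submodule.span R (G : Set R1) := hG ▸ Submodule.mem_top
      induction ha using Submodule.span_induction with
      | zero => simp
      | add u v _ _ hu hv => rw [map_add]; exact Submodule.add_mem _ hu hv
      | smul r u _ hu =>
        have : monomial k (r • u) = (C r : R[X]) • monomial k u := by
          rw [Algebra.smul_def]
          change _ = ψ (C r) * _
          simp [ψ, C_mul_monomial, Algebra.smul_def]
        rw [this]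
        exact Submodule.smul_mem _ _ hu
      | mem g hg =>
        have : monomial k g = (Polynomial.X ^ (k / q) : R[X]) • (C g * Polynomial.X ^ (k % q)) := by
          rw [Algebra.smul_def]
          change _ = ψ (Polynomial.X ^ (k / q)) * _
          simp only [ψ, coe_eval₂RingHom, eval₂_pow, eval₂_X, ← pow_mul]
          rw [mul_left_comm, ← pow_add, Nat.div_add_mod, C_mul_X_pow_eq_monomial]
        rw [this]
        refine Submodule.smul_mem _ _ (Submodule.subset_span ?_)
        rw [Finset.coe_image]
        exact ⟨(g, k % q), Finset.mem_product.mpr ⟨hg, Finset.mem_range.mpr (Nat.mod_lt _ hq)⟩, rfl⟩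
  let Q := FractionRing R1[X]
  let ι : Q →ₐ[R1[X]] Ω := IsFractionRing.liftAlgHom (g := Algebra.ofId R1[X] Ω) hφ
  let T : Submodule R[X] Ω := LinearMap.range (IsScalarTower.toAlgHom R[X] R1[X] Ω).toLinearMap
  have hT : Module.Finite R[X] T := Module.Finite.range _
  have hTn : IsNoetherian R[X] T := isNoetherian_of_isNoetherianRing_of_finite R[X] T
  have hmem : ∀ z : integralClosure R[X] M, f (z : M) ∈ T := by
    rintro ⟨z, hz⟩
    obtain ⟨a, b, hb, hab⟩ := hf z
    have hzint : IsIntegral R1[X] (f z) := (IsIntegral.map f hz).tower_top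
    have hι : ι (algebraMap R1[X] Q a / algebraMap R1[X] Q b) = f z := by
      rw [map_div₀, AlgHom.commutes, AlgHom.commutes]
      refine (div_eq_iff ?_).mpr hab.symm
      exact (map_ne_zero_iff φ hφ).mpr hb
    rw [← hι, isIntegral_algHom_iff ι (RingHom.injective (ι : Q →+* Ω))] at hzint
    obtain ⟨d, hd⟩ := IsIntegrallyClosed.isIntegral_iff.mp hzint
    rw [← hd, AlgHom.commutes] at hι
    exact ⟨d, hι⟩
  let g : integralClosure R[X] M →ₗ[R[X]] T :=
    LinearMap.codRestrict T (f.toLinearMap.comp (integralClosure R[X] M).val.toLinearMap) hmem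
  exact Module.Finite.of_injective g fun a b h =>
    Subtype.ext (RingHom.injective (f : M →+* Ω) (congrArg Subtype.val h))

theorem isN1 [IsNoetherianRing R] (h : CAlg.IsN1 R) : CAlg.IsN1 R[X] := by
  classical
  let K := FractionRing R
  let Kx := FractionRing R[X]
  have hu : ∀ y : nonZeroDivisors R, IsUnit (algebraMap R Kx y) := fun y => IsUnit.mk0 _ fun h => by
    have h' : algebraMap R[X] Kx (C (y : R)) = 0 := (IsScalarTower.algebraMap_apply R R[X] Kx _).symm.trans h
    rw [← map_zero (algebraMap R[X] Kx), (IsFractionRing.injective R[X] Kx).eq_iff,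
      Polynomial.C_eq_zero] at h'
    exact nonZeroDivisors.ne_zero y.2 h'
  let _ : Algebra K Kx := (IsLocalization.lift (M := nonZeroDivisors R) (S := K) hu).toAlgebra
  have : IsScalarTower R K Kx :=
    IsScalarTower.of_algebraMap_eq fun r => (IsLocalization.lift_eq hu r).symm
  let K1 : IntermediateField K Kx := ⊥
  have : Module.Finite R (integralClosure R K) := h
  have : Module.Finite R (integralClosure R K1) :=
    finite_integralClosure_of_algHom ((IntermediateField.botEquiv K Kx).toAlgHom.restrictScalars R)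
      (RingHom.injective _)
  refine key K (IsFractionRing.injective R[X] Kx) K1 (q := 1) Nat.one_pos
    (algebraMap R[X] Kx Polynomial.X) (pow_one _) Kx (AlgHom.id R[X] Kx) fun m => ?_
  obtain ⟨a, b, hb, rfl⟩ := IsFractionRing.div_surjective R[X] m
  let i : R →+* integralClosure R K1 := algebraMap R _
  have hi : Function.Injective i := fun x y hxy => IsFractionRing.injective R K
    ((algebraMap K Kx).injective (by
      rw [← IsScalarTower.algebraMap_apply, ← IsScalarTower.algebraMap_apply]
      exact congrArg (fun t : integralClosure R K1 => ((t : K1) : Kx)) hxy))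
  have hev : ∀ P : R[X], (P.map i).eval₂ ((algebraMap K1 Kx).comp (integralClosure R K1).val.toRingHom)
      (algebraMap R[X] Kx Polynomial.X) = algebraMap R[X] Kx P := fun P => by
    rw [eval₂_map]
    exact (Polynomial.aeval_algebraMap_apply Kx Polynomial.X P).trans
      (by rw [Polynomial.aeval_X_left_apply])
  refine ⟨a.map i, b.map i, ?_, ?_⟩
  · exact (Polynomial.map_ne_zero_iff hi).mpr (nonZeroDivisors.ne_zero hb)
  · rw [hev, hev, AlgHom.id_apply, div_mul_cancel₀]
    exact fun h0 => nonZeroDivisors.ne_zero hb (IsFractionRing.injective R[X] Kx (h0.trans (map_zero _).symm))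

theorem isN2_of_normal [IsNoetherianRing R] [IsIntegrallyClosed R] (h : CAlg.IsN2 R) :
    CAlg.IsN2 R[X] := by
  classical
  refine isN2_of_purelyInseparable R[X] ?_
  intro M _ _ _ _ _ _
  let K := FractionRing R
  let Kx := FractionRing R[X]
  obtain ⟨p, hp⟩ := ExpChar.exists Kx
  let Ω := AlgebraicClosure M
  have : ExpChar Ω p := expChar_of_injective_algebraMap (algebraMap Kx Ω).injective p
  set q := p ^ IsPurelyInseparable.exponent Kx M with hqdef
  have hq : 0 < q := pow_pos (expChar_pos Kx p) _
  have hinjΩ : Function.Injective (algebraMap R[X] Ω) := by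
    rw [IsScalarTower.algebraMap_eq R[X] Kx Ω]
    exact (algebraMap Kx Ω).injective.comp (IsFractionRing.injective R[X] Kx)
  let _ : Algebra R Ω := ((algebraMap R[X] Ω).comp C).toAlgebra
  have : IsScalarTower R R[X] Ω := IsScalarTower.of_algebraMap_eq fun _ => rfl
  have hRinj : Function.Injective (algebraMap R Ω) := hinjΩ.comp C_injective
  have hu : ∀ y : nonZeroDivisors R, IsUnit (algebraMap R Ω y) := fun y => IsUnit.mk0 _ fun h =>
    nonZeroDivisors.ne_zero y.2 (hRinj (h.trans (map_zero _).symm))
  let _ : Algebra K Ω := (IsLocalization.lift (M := nonZeroDivisors R) (S := K) hu).toAlgebra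
  have : IsScalarTower R K Ω :=
    IsScalarTower.of_algebraMap_eq fun r => (IsLocalization.lift_eq hu r).symm
  let f : M →ₐ[R[X]] Ω := IsScalarTower.toAlgHom R[X] M Ω
  obtain ⟨Y, hY⟩ := IsAlgClosed.exists_pow_nat_eq (algebraMap R[X] Ω Polynomial.X) hq
  choose root hroot using fun r : R => IsAlgClosed.exists_pow_nat_eq (algebraMap R Ω r) hq
  -- integral generators
  obtain ⟨G, hG⟩ := Module.Finite.fg_top (R := Kx) (M := M)
  have hgen : ∀ g : M, ∃ (s : R[X]) (P : R[X]), s ≠ 0 ∧
      (algebraMap R[X] Ω s * f g) ^ q = algebraMap R[X] Ω P := by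
    intro g
    obtain ⟨x, hx⟩ := IsPurelyInseparable.exponent_def' Kx p g
    obtain ⟨a, b, hb, rfl⟩ := IsFractionRing.div_surjective R[X] x
    have hq' : f g ^ q = algebraMap Kx Ω (algebraMap R[X] Kx a / algebraMap R[X] Kx b) := by
      rw [IsScalarTower.algebraMap_apply Kx M Ω, hx, hqdef, map_pow]
      rfl
    refine ⟨b, a * b ^ (q - 1), nonZeroDivisors.ne_zero hb, ?_⟩
    have hb0 : algebraMap R[X] Ω b ≠ 0 :=
      (map_ne_zero_iff _ hinjΩ).mpr (nonZeroDivisors.ne_zero hb)
    rw [mul_pow, hq', map_div₀, ← IsScalarTower.algebraMap_apply, ← IsScalarTower.algebraMap_apply,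
      map_mul, map_pow]
    conv_lhs => rw [← Nat.sub_add_cancel (show 1 ≤ q from hq)]
    rw [pow_succ, mul_assoc, mul_div_cancel₀ _ hb0, mul_comm]
  choose s P hs hP using hgen
  let S : Finset Ω := G.biUnion fun g => (P g).support.image fun i => root ((P g).coeff i)
  let K1 : IntermediateField K Ω := IntermediateField.adjoin K (S : Set Ω)
  have hSint : ∀ x ∈ (S : Set Ω), IsIntegral K x := by
    intro x hx
    simp only [S, Finset.coe_biUnion, Finset.coe_image, Set.mem_iUnion, Set.mem_image] at hx
    obtain ⟨g, -, i, -, rfl⟩ := hx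
    refine IsIntegral.of_pow hq ?_
    rw [hroot, IsScalarTower.algebraMap_apply R K Ω]
    exact isIntegral_algebraMap
  have : FiniteDimensional K K1 := IntermediateField.finiteDimensional_adjoin hSint
  have : IsScalarTower R K1 Ω := IsScalarTower.of_algebraMap_eq fun _ => rfl
  have : Module.Finite R (integralClosure R K1) := Props.N2Local.finite_integralClosure h K K1
  let R1 := integralClosure R K1
  let c : R1 →+* Ω := (algebraMap K1 Ω).comp R1.val.toRingHom
  let φ : R1[X] →+* Ω := eval₂RingHom c Y
  refine key K hinjΩ K1 hq Y hY M f ?_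
  let i : R →+* R1 := algebraMap R R1
  let ψ : R[X] →+* R1[X] := eval₂RingHom (C.comp i) (Polynomial.X ^ q)
  have hφψ : ∀ A, φ (ψ A) = algebraMap R[X] Ω A := by
    refine fun A => RingHom.congr_fun (Polynomial.ringHom_ext (f := φ.comp ψ) (g := algebraMap R[X] Ω)
      (fun r => ?_) ?_) A
    · simp only [φ, ψ, RingHom.comp_apply, coe_eval₂RingHom, eval₂_C]
      exact (IsScalarTower.algebraMap_apply R K1 Ω r).symm
    · simp only [φ, ψ, RingHom.comp_apply, coe_eval₂RingHom, eval₂_X, eval₂_pow, hY]
  have hψne : ∀ A : R[X], A ≠ 0 → ψ A ≠ 0 := fun A hA h0 => hA (hinjΩ (by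
    rw [← hφψ, h0, map_zero, map_zero]))
  have hφne : ∀ A : R[X], A ≠ 0 → φ (ψ A) ≠ 0 := fun A hA => by
    rw [hφψ]; exact (map_ne_zero_iff _ hinjΩ).mpr hA
  intro m
  have hm : m ∈ Submodule.span Kx (G : Set M) := hG ▸ Submodule.mem_top
  change ∃ a b : R1[X], b ≠ 0 ∧ f m * φ b = φ a
  induction hm using Submodule.span_induction with
  | zero => exact ⟨0, 1, one_ne_zero, by simp⟩
  | add u v _ _ hu hv =>
    obtain ⟨a, b, hb, h1⟩ := hu
    obtain ⟨a', b', hb', h2⟩ := hv
    refine ⟨a * b' + a' * b, b * b', mul_ne_zero hb hb', ?_⟩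
    rw [map_add f, map_add, map_mul, map_mul, map_mul, ← h1, ← h2]
    ring
  | smul k u _ hu =>
    obtain ⟨a, b, hb, h1⟩ := hu
    obtain ⟨n, d, hd, rfl⟩ := IsFractionRing.div_surjective R[X] k
    refine ⟨ψ n * a, ψ d * b, mul_ne_zero (hψne d (nonZeroDivisors.ne_zero hd)) hb, ?_⟩
    have hdne : algebraMap R[X] Ω d ≠ 0 :=
      (map_ne_zero_iff _ hinjΩ).mpr (nonZeroDivisors.ne_zero hd)
    have hk : f ((algebraMap R[X] Kx n / algebraMap R[X] Kx d) • u) =
        (algebraMap R[X] Ω n / algebraMap R[X] Ω d) * f u := by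
      rw [Algebra.smul_def, map_mul f, IsScalarTower.toAlgHom_apply, ← IsScalarTower.algebraMap_apply,
        map_div₀, ← IsScalarTower.algebraMap_apply, ← IsScalarTower.algebraMap_apply]
    rw [map_mul, map_mul, hφψ, hφψ, hk, ← h1, mul_mul_mul_comm, div_mul_cancel₀ _ hdne]
  | mem g hg =>
    have hcoef : ∀ j ∈ (P g).support, root ((P g).coeff j) ∈ K1 := fun j hj =>
      IntermediateField.subset_adjoin K _ (Finset.mem_biUnion.mpr ⟨g, hg, Finset.mem_image_of_mem _ hj⟩)
    have hint : ∀ (j : (P g).support), IsIntegral R (⟨_, hcoef j.1 j.2⟩ : K1) := fun j => by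
      rw [← isIntegral_algebraMap_iff (algebraMap K1 Ω).injective]
      refine IsIntegral.of_pow hq ?_
      change IsIntegral R (root _ ^ q)
      rw [hroot]
      exact isIntegral_algebraMap
    refine ⟨∑ j : (P g).support, C (⟨⟨_, hcoef j.1 j.2⟩, hint j⟩ : R1) * Polynomial.X ^ (j : ℕ),
      ψ (s g), hψne _ (hs g), ?_⟩
    have hfrob : Function.Injective (fun z : Ω => z ^ q) := by
      rw [hqdef]
      exact iterateFrobenius_inj Ω p _
    refine hfrob ?_
    change (f g * φ (ψ (s g))) ^ q = (φ (∑ j : (P g).support, _)) ^ q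
    rw [hφψ, mul_comm (f g), hP g, map_sum, hqdef, sum_pow_char_pow, ← hqdef]
    conv_lhs => rw [Polynomial.as_sum_support_C_mul_X_pow (P g)]
    rw [map_sum, ← Finset.sum_coe_sort]
    refine Finset.sum_congr rfl fun j _ => ?_
    simp only [φ, coe_eval₂RingHom, eval₂_mul, eval₂_C, eval₂_X_pow, eval₂_X, mul_pow, map_mul, map_pow]
    rw [← pow_mul, mul_comm (j : ℕ) q, pow_mul, hY]
    congr 1
    exact (hroot _).symm

set_option maxHeartbeats 800000 in
theorem isN2 [IsNoetherianRing R] (h : CAlg.IsN2 R) : CAlg.IsN2 R[X] := by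
  classical
  let K := FractionRing R
  let R' := integralClosure R K
  have : Module.Finite R R' := h K inferInstance
  have : IsIntegrallyClosed R' := integralClosure.isIntegrallyClosedOfFiniteExtension K
  have : IsNoetherianRing R' := IsNoetherianRing.of_finite R R'
  have hinj : Function.Injective (algebraMap R R') := fun x y hxy =>
    IsFractionRing.injective R K (congrArg Subtype.val hxy)
  have h' : CAlg.IsN2 R'[X] := isN2_of_normal (CompleteLocal.isN2_of_finite R R' hinj h)
  intro L _ _ _ _ hL
  let Kx := FractionRing R[X]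
  let K' := FractionRing R'[X]
  let _ : Algebra R[X] R'[X] := (Polynomial.mapRingHom (algebraMap R R')).toAlgebra
  have hRX : Function.Injective (algebraMap R[X] R'[X]) := Polynomial.map_injective _ hinj
  have : FaithfulSMul R[X] R'[X] := (faithfulSMul_iff_algebraMap_injective _ _).mpr hRX
  obtain ⟨G, hG⟩ := Module.Finite.fg_top (R := R) (M := R')
  have hfin : Module.Finite R[X] R'[X] := by
    refine ⟨G.image C, ?_⟩
    rw [eq_top_iff]
    rintro P -
    induction P using Polynomial.induction_on' with
    | add a b ha hb => exact Submodule.add_mem _ ha hb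
    | monomial k a =>
      have ha : a ∈ Submodule.span R (G : Set R') := hG ▸ Submodule.mem_top
      induction ha using Submodule.span_induction with
      | zero => simp
      | add u v _ _ hu hv => rw [map_add]; exact Submodule.add_mem _ hu hv
      | smul r u _ hu =>
        have : monomial k (r • u) = (C r : R[X]) • monomial k u := by
          rw [Algebra.smul_def]
          change _ = Polynomial.map _ (C r) * _
          simp [C_mul_monomial, Algebra.smul_def]
        rw [this]
        exact Submodule.smul_mem _ _ hu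
      | mem g hg =>
        have : monomial k g = (Polynomial.X ^ k : R[X]) • (C g : R'[X]) := by
          rw [Algebra.smul_def]
          change _ = Polynomial.map _ (Polynomial.X ^ k) * _
          rw [Polynomial.map_pow, Polynomial.map_X, mul_comm, C_mul_X_pow_eq_monomial]
        rw [this]
        exact Submodule.smul_mem _ _ (Submodule.subset_span (Finset.mem_coe.mpr (Finset.mem_image_of_mem C hg)))
  let _ : Algebra R L := ((algebraMap R[X] L).comp C).toAlgebra
  have hRinj : Function.Injective (algebraMap R L) := by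
    refine Function.Injective.comp (g := algebraMap R[X] L) ?_ C_injective
    rw [IsScalarTower.algebraMap_eq R[X] Kx L]
    exact (algebraMap Kx L).injective.comp (IsFractionRing.injective R[X] Kx)
  have hu : ∀ y : nonZeroDivisors R, IsUnit (algebraMap R L y) := fun y => IsUnit.mk0 _ fun h =>
    nonZeroDivisors.ne_zero y.2 (hRinj (h.trans (map_zero _).symm))
  let c : R' →+* L := (IsLocalization.lift (M := nonZeroDivisors R) (S := K) hu).comp R'.val.toRingHom
  let _ : Algebra R'[X] L := (eval₂RingHom c (algebraMap R[X] L Polynomial.X)).toAlgebra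
  have : IsScalarTower R[X] R'[X] L := IsScalarTower.of_algebraMap_eq' (by
    refine Polynomial.ringHom_ext (fun r => ?_) ?_
    · change _ = eval₂ c _ (Polynomial.map _ (C r))
      simp only [Polynomial.map_C, eval₂_C]
      exact (IsLocalization.lift_eq hu r).symm
    · change _ = eval₂ c _ (Polynomial.map _ Polynomial.X)
      simp only [Polynomial.map_X, eval₂_X])
  have : FaithfulSMul R'[X] L := by
    rw [faithfulSMul_iff_algebraMap_injective, RingHom.injective_iff_ker_eq_bot]
    have hint : Algebra.IsIntegral R[X] R'[X] := Algebra.IsIntegral.of_finite _ _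
    refine Ideal.eq_bot_of_comap_eq_bot (R := R[X]) (S := R'[X]) ?_
    rw [RingHom.comap_ker, ← IsScalarTower.algebraMap_eq, ← RingHom.injective_iff_ker_eq_bot,
      IsScalarTower.algebraMap_eq R[X] Kx L]
    exact (algebraMap Kx L).injective.comp (IsFractionRing.injective R[X] Kx)
  let _ : Algebra Kx K' := FractionRing.liftAlgebra R[X] K'
  let _ : Algebra K' L := FractionRing.liftAlgebra R'[X] L
  have : IsScalarTower Kx K' L := IsScalarTower.of_algebraMap_eq' (IsLocalization.ringHom_ext
    (nonZeroDivisors R[X]) (RingHom.ext fun A => by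
      simp only [RingHom.comp_apply]
      rw [← IsScalarTower.algebraMap_apply R[X] Kx L, ← IsScalarTower.algebraMap_apply R[X] Kx K',
        IsScalarTower.algebraMap_apply R[X] R'[X] K', ← IsScalarTower.algebraMap_apply R'[X] K' L,
        ← IsScalarTower.algebraMap_apply R[X] R'[X] L]))
  have : FiniteDimensional K' L := Module.Finite.of_restrictScalars_finite Kx K' L
  have : Module.Finite R'[X] (integralClosure R'[X] L) := Props.N2Local.finite_integralClosure h' K' L
  exact finite_integralClosure_of_tower (R' := R'[X])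

end Groth.Agent.Nagata.Poly
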