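import Groth.Prelude.Def_Found
import Groth.Agent.Nagata.AdjoinCore
import Groth.Agent.Nagata.LocalN1
import Groth.Agent.Nagata.Poly
import Mathlib

/-!
Algebras of finite type over Nagata rings are Nagata.
-/

namespace Groth.Agent.Nagata.FiniteType

universe u

open Props.N2Local IsLocalRing

theorem quotN2_of_surjective {A B : Type u} [CommRing A] [CommRing B] (f : A →+* B)
    (hf : Function.Surjective f) (h : QuotN2 A) : QuotN2 B := by
  intro D _ _ _ hD
  let _ : Algebra A D := ((algebraMap B D).comp f).toAlgebra
  exact h D (hD.comp hf)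

theorem isNagata_of_surjective {A B : Type u} [CommRing A] [CommRing B] (f : A →+* B)
    (hf : Function.Surjective f) (h : CAlg.IsNagata A) : CAlg.IsNagata B := by
  obtain ⟨hN, hQ⟩ := isNagata_iff.mp h
  exact isNagata_iff.mpr ⟨isNoetherianRing_of_surjective A B f hf, quotN2_of_surjective f hf hQ⟩

/-- Finite algebras over Nagata rings are Nagata. -/
theorem isNagata_of_finite (A B : Type u) [CommRing A] [CommRing B] [Algebra A B] [Module.Finite A B]
    (h : CAlg.IsNagata A) : CAlg.IsNagata B := by
  have := h.1
  refine ⟨IsNoetherianRing.of_finite A B, fun q _ => ?_⟩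
  let p := q.comap (algebraMap A B)
  have : Module.Finite A (B ⧸ q) := Module.Finite.trans B _
  have : Module.Finite (A ⧸ p) (B ⧸ q) := Module.Finite.of_restrictScalars_finite A _ _
  exact CompleteLocal.isN2_of_finite (A ⧸ p) (B ⧸ q) Ideal.algebraMap_quotient_injective (h.2 p)

/-- `D' = R'[x]` is finite over `D ∋ x` when `R'` is finite over `R`. -/
theorem finite_of_adjoin {R R' D D' : Type u} [CommRing R] [CommRing R'] [CommRing D] [CommRing D']
    [Algebra R R'] [Algebra R D] [Algebra R D'] [Algebra R' D'] [Algebra D D'] [IsScalarTower R R' D']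
    [IsScalarTower R D D'] [Module.Finite R R'] (x : D)
    (hgen : Algebra.adjoin R' {algebraMap D D' x} = ⊤) : Module.Finite D D' := by
  classical
  obtain ⟨G, hG⟩ := Module.Finite.fg_top (R := R) (M := R')
  refine ⟨G.image (algebraMap R' D'), ?_⟩
  rw [eq_top_iff]
  rintro z -
  obtain ⟨P, rfl⟩ : ∃ P : Polynomial R', Polynomial.aeval (algebraMap D D' x) P = z := by
    have : z ∈ Algebra.adjoin R' {algebraMap D D' x} := hgen ▸ Algebra.mem_top
    exact (Algebra.adjoin_singleton_eq_range_aeval R' _).le this
  induction P using Polynomial.induction_on' with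
  | add a b ha hb => rw [map_add]; exact Submodule.add_mem _ ha hb
  | monomial k a =>
    rw [Polynomial.aeval_monomial, mul_comm, ← map_pow, ← Algebra.smul_def]
    refine Submodule.smul_mem _ _ ?_
    have ha : a ∈ Submodule.span R (G : Set R') := hG ▸ Submodule.mem_top
    induction ha using Submodule.span_induction with
    | zero => simp
    | add u v _ _ hu hv => rw [map_add]; exact Submodule.add_mem _ hu hv
    | smul r u _ hu =>
      rw [Algebra.smul_def, map_mul, ← IsScalarTower.algebraMap_apply R R' D',
        IsScalarTower.algebraMap_apply R D D', ← Algebra.smul_def]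
      exact Submodule.smul_mem _ _ hu
    | mem g hg => exact Submodule.subset_span (Finset.mem_coe.mpr (Finset.mem_image_of_mem _ hg))

/-- If powers of `σ` carry `S'` into a normal `R'` with the same fraction field, then powers of `σ`
carry the closure of `S'` into `S'`. -/
theorem exists_pow_smul_mem_range {R' S' K' : Type u} [CommRing R'] [IsDomain R'] [IsIntegrallyClosed R']
    [CommRing S'] [IsDomain S'] [Field K'] [Algebra R' S'] [Algebra R' K'] [Algebra S' K']
    [IsScalarTower R' S' K'] [IsFractionRing R' K'] (hinj : Function.Injective (algebraMap S' K'))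
    {s' : R'} (hden : ∀ z : S', ∃ (k : ℕ) (r : R'), algebraMap R' S' s' ^ k * z = algebraMap R' S' r)
    (z : FractionRing S') (hz : IsIntegral S' z) :
    ∃ n : ℕ, algebraMap R' S' s' ^ n • z ∈ LinearMap.range (Algebra.linearMap S' (FractionRing S')) := by
  classical
  obtain ⟨Q, hQm, hQ⟩ := hz
  choose k r hkr using fun i => hden (Q.coeff i)
  let N := (Finset.range (Q.natDegree + 1)).sup k
  set σ := algebraMap R' S' s'
  have hcoef : ∀ i, i < Q.natDegree → Q.coeff i * σ ^ (N * (Q.natDegree - i)) ∈ (algebraMap R' S').range := by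
    intro i hi
    have h1 : k i ≤ N * (Q.natDegree - i) :=
      (Finset.le_sup (Finset.mem_range.mpr (by omega))).trans
        (Nat.le_mul_of_pos_right N (by omega))
    refine ⟨r i * s' ^ (N * (Q.natDegree - i) - k i), ?_⟩
    rw [map_mul, map_pow, ← hkr, mul_right_comm, ← pow_add, Nat.add_sub_cancel' h1, mul_comm]
  have hlift : Q.scaleRoots (σ ^ N) ∈ Polynomial.lifts (algebraMap R' S') := by
    rw [Polynomial.lifts_iff_coeff_lifts]
    intro i
    rw [Polynomial.coeff_scaleRoots, ← pow_mul]
    rcases lt_trichotomy i Q.natDegree with hi | rfl | hi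
    · exact hcoef i hi
    · rw [Nat.sub_self, mul_zero, pow_zero, mul_one, hQm.coeff_natDegree]; exact ⟨1, map_one _⟩
    · rw [Polynomial.coeff_eq_zero_of_natDegree_lt hi, zero_mul]; exact ⟨0, map_zero _⟩
  obtain ⟨Q', hQ', -, hQ'm⟩ := Polynomial.lifts_and_degree_eq_and_monic hlift
    ((Polynomial.monic_scaleRoots_iff _).mpr hQm)
  let L := FractionRing S'
  let Λ : L →ₐ[S'] K' := IsFractionRing.liftAlgHom (g := Algebra.ofId S' K') hinj
  have hroot : (Q.scaleRoots (σ ^ N)).eval₂ (algebraMap S' L) (algebraMap S' L (σ ^ N) * z) = 0 := by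
    rw [Polynomial.scaleRoots_eval₂_mul, hQ, mul_zero]
  let w : K' := Λ (σ ^ N • z)
  have hw : IsIntegral R' w := by
    refine ⟨Q', hQ'm, ?_⟩
    have h2 := congrArg Λ hroot
    rw [map_zero, ← hQ', Polynomial.eval₂_map] at h2
    change Λ.toRingHom _ = 0 at h2
    rw [Polynomial.hom_eval₂] at h2
    have hfun : Λ.toRingHom.comp ((algebraMap S' L).comp (algebraMap R' S')) = algebraMap R' K' :=
      RingHom.ext fun a => (Λ.commutes (algebraMap R' S' a)).trans (IsScalarTower.algebraMap_apply R' S' K' a).symm
    rw [hfun] at h2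
    simp only [w, Algebra.smul_def]
    exact h2
  obtain ⟨r', hr'⟩ := IsIntegrallyClosed.isIntegral_iff.mp hw
  refine ⟨N, algebraMap R' S' r', RingHom.injective Λ.toRingHom ?_⟩
  rw [Algebra.linearMap_apply]
  exact ((Λ.commutes _).trans (IsScalarTower.algebraMap_apply R' S' K' r').symm).trans hr'

/-- The local ring at `q` of `S'` is a local ring of `S''` when powers of `c ∉ q` carry `S'` into `S''`. -/
theorem isLocalization_atPrime_of_den {S'' S' : Type u} [CommRing S''] [CommRing S'] [IsDomain S']
    {i : S'' →+* S'} (hi : Function.Injective i) (q : Ideal S') [q.IsPrime] {c : S''}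
    (hc : c ∉ q.comap i) (hden : ∀ z : S', ∃ (k : ℕ) (w : S''), i c ^ k * z = i w)
    (A : Type u) [CommRing A] [Algebra S' A] [IsLocalization.AtPrime A q] [Algebra S'' A]
    (halg : algebraMap S'' A = (algebraMap S' A).comp i) : IsLocalization.AtPrime A (q.comap i) := by
  have := IsLocalization.isDomain_of_le_nonZeroDivisors (S := A) q.primeCompl_le_nonZeroDivisors
  refine (isLocalization_iff _ _).mpr ⟨?_, ?_, fun {u v} huv => ⟨1, ?_⟩⟩
  · intro w
    rw [halg]
    exact IsLocalization.map_units A (⟨i w.1, w.2⟩ : q.primeCompl)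
  · intro z
    obtain ⟨⟨u, v⟩, huv⟩ := IsLocalization.surj q.primeCompl z
    obtain ⟨k, u', hu'⟩ := hden u
    obtain ⟨l, v', hv'⟩ := hden v
    have hmem : c ^ k * v' ∈ (q.comap i).primeCompl := by
      refine (inferInstance : (q.comap i).IsPrime).mul_notMem
        (fun h => hc (Ideal.IsPrime.mem_of_pow_mem inferInstance k h)) ?_
      intro h
      rw [Ideal.mem_comap, ← hv'] at h
      rcases ‹q.IsPrime›.mem_or_mem h with h | h
      · exact hc (‹q.IsPrime›.mem_of_pow_mem l h)
      · exact v.2 h
    refine ⟨⟨c ^ l * u', ⟨_, hmem⟩⟩, ?_⟩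
    rw [halg]
    simp only [RingHom.comp_apply, map_mul, map_pow, ← hu', ← hv']
    linear_combination (algebraMap S' A (i c) ^ k * algebraMap S' A (i c) ^ l) * huv
  · rw [halg] at huv
    have h1 : i u = i v := IsLocalization.injective A q.primeCompl_le_nonZeroDivisors huv
    rw [hi h1]

/-- N-1 for a local ring of `S'` at a prime where it comes from `R[y]`, `y` in the prime. -/
theorem isN1_localization_of_den {R : Type u} [CommRing R] [IsDomain R] [IsIntegrallyClosed R]
    {K : Type u} [Field K] [Algebra R K] [IsFractionRing R K] (hR : CAlg.IsNagata R) (y : K)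
    (S'' : Subalgebra R K) (hS'' : S'' = Algebra.adjoin R {y}) (η : S'') (hη : (η : K) = y)
    {S' : Type u} [CommRing S'] [IsDomain S'] (i : S'' →+* S') (hi : Function.Injective i)
    (q : Ideal S') [q.IsPrime] (hηq : i η ∈ q) {c : S''} (hc : i c ∉ q)
    (hden : ∀ z : S', ∃ (k : ℕ) (w : S''), i c ^ k * z = i w) :
    CAlg.IsN1 (Localization.AtPrime q) := by
  let A := Localization.AtPrime q
  let _ : Algebra S'' A := ((algebraMap S' A).comp i).toAlgebra
  have : IsLocalization.AtPrime A (q.comap i) :=
    isLocalization_atPrime_of_den hi q hc hden A rfl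
  exact AdjoinCore.isN1_localization hR y S'' hS'' η hη (q.comap i) hηq A

section key

variable {R : Type u} [CommRing R] [IsDomain R] [IsIntegrallyClosed R]
  {K : Type u} [Field K] [Algebra R K] [IsFractionRing R K]

open Polynomial in
set_option maxHeartbeats 1600000 in
/-- `R[x]` is N-1 for `x` in the fraction field of a normal Nagata domain. -/
theorem isN1_adjoin (hR : CAlg.IsNagata R) (x : K) (S : Subalgebra R K)
    (hS : S = Algebra.adjoin R {x}) : CAlg.IsN1 S := by
  classical
  have := hR.1
  have hxS : x ∈ S := hS ▸ Algebra.self_mem_adjoin_singleton R x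
  have : Algebra.FiniteType R S := (Subalgebra.fg_iff_finiteType _).mp ⟨{x}, by simp [hS]⟩
  have : IsNoetherianRing S := Algebra.FiniteType.isNoetherianRing R S
  have hinjR : Function.Injective (algebraMap R K) := IsFractionRing.injective R K
  obtain ⟨a₀, s₀, hs₀, hx⟩ := IsFractionRing.div_surjective R x
  have hs₀0 : s₀ ≠ 0 := nonZeroDivisors.ne_zero hs₀
  have hs₀K : algebraMap R K s₀ ≠ 0 := (map_ne_zero_iff _ hinjR).mpr hs₀0
  refine RegLoc.N1.isN1_iff.mpr ⟨?_, ?_⟩
  · refine ⟨algebraMap R S s₀, fun h => hs₀K (congrArg Subtype.val h), ?_⟩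
    let Rs := Localization.Away s₀
    have hle : Submonoid.powers s₀ ≤ nonZeroDivisors R :=
      powers_le_nonZeroDivisors_of_noZeroDivisors hs₀0
    have : IsIntegrallyClosed Rs := isIntegrallyClosed_of_isLocalization Rs _ hle
    let _ : Algebra Rs K := IsLocalization.localizationAlgebraOfSubmonoidLe Rs K _ _ hle
    have : IsScalarTower R Rs K := IsLocalization.localization_isScalarTower_of_submonoid_le Rs K _ _ hle
    have : IsFractionRing Rs K :=
      IsFractionRing.isFractionRing_of_isDomain_of_isLocalization (Submonoid.powers s₀) _ _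
    have hmem : S ≤ (IsScalarTower.toAlgHom R Rs K).range := by
      rw [hS, Algebra.adjoin_le_iff, Set.singleton_subset_iff]
      refine ⟨IsLocalization.mk' Rs a₀ (⟨s₀, Submonoid.mem_powers _⟩ : Submonoid.powers s₀), ?_⟩
      show algebraMap Rs K _ = x
      rw [← hx, eq_div_iff hs₀K, IsScalarTower.algebraMap_apply R Rs K, ← map_mul,
        IsLocalization.mk'_spec, ← IsScalarTower.algebraMap_apply]
    let eR : Rs ≃ₐ[R] (IsScalarTower.toAlgHom R Rs K).range :=
      AlgEquiv.ofInjective _ (IsFractionRing.injective Rs K)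
    let g : S →ₐ[R] Rs := eR.symm.toAlgHom.comp (Subalgebra.inclusion hmem)
    have hg : ∀ z : S, algebraMap Rs K (g z) = z := fun z =>
      congrArg Subtype.val (eR.apply_symm_apply (Subalgebra.inclusion hmem z))
    let _ : Algebra S Rs := g.toRingHom.toAlgebra
    have : IsLocalization (Submonoid.powers (algebraMap R S s₀)) Rs := by
      refine (isLocalization_iff _ _).mpr ⟨?_, ?_, fun {u v} huv => ⟨1, ?_⟩⟩
      · rintro ⟨_, n, rfl⟩
        show IsUnit (g ((algebraMap R S s₀) ^ n))
        rw [map_pow, g.commutes]
        exact (IsLocalization.Away.algebraMap_isUnit s₀).pow n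
      · intro z
        obtain ⟨⟨r, ⟨_, n, rfl⟩⟩, hr⟩ := IsLocalization.surj (Submonoid.powers s₀) z
        refine ⟨⟨algebraMap R S r, ⟨(algebraMap R S s₀) ^ n, n, rfl⟩⟩, ?_⟩
        show z * g ((algebraMap R S s₀) ^ n) = g (algebraMap R S r)
        rw [map_pow, g.commutes, g.commutes, ← map_pow]
        exact hr
      · have : u = v := Subtype.ext (by rw [← hg u, ← hg v]; exact congrArg _ huv)
        rw [this]
    exact IsIntegrallyClosed.of_equiv
      (IsLocalization.algEquiv (Submonoid.powers (algebraMap R S s₀)) Rs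
        (Localization.Away (algebraMap R S s₀))).toRingEquiv
  intro m _
  -- a polynomial relation modulo `m`
  let φ : R[X] →+* S ⧸ m :=
    (Ideal.Quotient.mk m).comp (Polynomial.aeval (⟨x, hxS⟩ : S)).toRingHom
  have hφ : Function.Surjective φ := by
    refine Ideal.Quotient.mk_surjective.comp ?_
    rintro ⟨z, hz⟩
    obtain ⟨P, hP⟩ := (hS.trans (Algebra.adjoin_singleton_eq_range_aeval R x)).le hz
    exact ⟨P, Subtype.ext (((Polynomial.aeval_algHom_apply S.val (⟨x, hxS⟩ : S) P).symm).trans hP)⟩
  set n := m.comap (algebraMap R S) with hn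
  have hker : (RingHom.ker φ).IsMaximal := by
    let _ := Ideal.Quotient.field m
    exact RingHom.ker_isMaximal_of_surjective φ hφ
  obtain ⟨P, hPφ, hPc⟩ : ∃ P : R[X], φ P = 0 ∧ P.leadingCoeff ∉ n := by
    have : n.IsPrime := Ideal.IsPrime.comap _
    obtain ⟨P, hPφ, hPn⟩ : ∃ P, φ P = 0 ∧ P.map (Ideal.Quotient.mk n) ≠ 0 := by
      by_contra hcon
      push Not at hcon
      have hle : RingHom.ker φ ≤ RingHom.ker (Polynomial.mapRingHom (Ideal.Quotient.mk n)) :=
        fun P hP => hcon P hP
      have heq := hker.eq_of_le (RingHom.ker_ne_top _) hle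
      have h1 : (RingHom.ker (Polynomial.mapRingHom (Ideal.Quotient.mk n))).IsMaximal := heq ▸ hker
      have hsur : Function.Surjective (Polynomial.mapRingHom (Ideal.Quotient.mk n)) :=
        Polynomial.map_surjective _ Ideal.Quotient.mk_surjective
      have h2 : IsField ((R[X]) ⧸ RingHom.ker (Polynomial.mapRingHom (Ideal.Quotient.mk n))) :=
        (Ideal.Quotient.maximal_ideal_iff_isField_quotient _).mp h1
      exact Polynomial.not_isField (R ⧸ n)
        (MulEquiv.isField h2 (RingHom.quotientKerEquivOfSurjective hsur).symm.toMulEquiv)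
    obtain ⟨Q, hQ, hQdeg⟩ := Polynomial.exists_degree_eq_of_mem_lifts
      ((Polynomial.mem_lifts (P.map (Ideal.Quotient.mk n))).mpr ⟨P, rfl⟩)
    refine ⟨Q, ?_, ?_⟩
    · have hdiff : Q - P ∈ RingHom.ker (Polynomial.mapRingHom (Ideal.Quotient.mk n)) := by
        rw [RingHom.mem_ker, map_sub, sub_eq_zero]; exact hQ
      rw [Polynomial.ker_mapRingHom, Ideal.mk_ker] at hdiff
      have h0 : φ (Q - P) = 0 := by
        refine (Ideal.map_le_iff_le_comap.mpr (fun a ha => ?_) : n.map C ≤ RingHom.ker φ) hdiff
        show φ (C a) = 0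
        simp only [φ, RingHom.comp_apply, AlgHom.toRingHom_eq_coe, RingHom.coe_coe, Polynomial.aeval_C]
        exact Ideal.Quotient.eq_zero_iff_mem.mpr ha
      rwa [map_sub, hPφ, sub_zero] at h0
    · intro h
      apply hPn
      rw [← hQ]
      have hnd : (Q.map (Ideal.Quotient.mk n)).coeff Q.natDegree = 0 := by
        rw [Polynomial.coeff_map]; exact Ideal.Quotient.eq_zero_iff_mem.mpr h
      rw [Polynomial.natDegree_eq_of_degree_eq hQdeg, ← hQ] at hnd
      exact Polynomial.leadingCoeff_eq_zero.mp hnd
  have hdeg : 1 ≤ P.natDegree := by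
    by_contra h
    have h0 : P.natDegree = 0 := by omega
    rw [Polynomial.eq_C_of_natDegree_eq_zero h0] at hPφ
    refine hPc ?_
    rw [Polynomial.leadingCoeff, h0, hn, Ideal.mem_comap, ← Ideal.Quotient.eq_zero_iff_mem, ← hPφ]
    simp [φ]
  let P1 := P.integralNormalization
  have hP1 : P1.Monic := Polynomial.monic_integralNormalization (fun h => by simp [h] at hdeg)
  set c := P.leadingCoeff
  -- splitting field
  let K' := Polynomial.SplittingField (P1.map (algebraMap R K))
  have hsplit : ((P1.map (algebraMap R K)).map (algebraMap K K')).Splits :=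
    Polynomial.SplittingField.splits _
  rw [Polynomial.map_map, ← IsScalarTower.algebraMap_eq] at hsplit
  let R' := integralClosure R K'
  have hfinR : Module.Finite R R' := finite_integralClosure (D := R) (by
    have h := hR.2 (⊥ : Ideal R)
    exact isN2_of_ringEquiv (RingEquiv.quotientBot R) h) K K'
  have : IsFractionRing R' K' := integralClosure.isFractionRing_of_finite_extension K K'
  have : IsIntegrallyClosed R' := integralClosure.isIntegrallyClosedOfFiniteExtension K
  have hR' : CAlg.IsNagata R' := isNagata_of_finite R R' hR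
  let x' : K' := algebraMap K K' x
  let S' := Algebra.adjoin R' {x'}
  have hx'S : x' ∈ S' := Algebra.self_mem_adjoin_singleton R' x'
  have hSS' : S ≤ (S'.restrictScalars R).comap (IsScalarTower.toAlgHom R K K') := by
    rw [hS, Algebra.adjoin_le_iff, Set.singleton_subset_iff]
    exact hx'S
  let g : S →ₐ[R] S'.restrictScalars R :=
    AlgHom.codRestrict ((IsScalarTower.toAlgHom R K K').comp S.val) _ fun z => hSS' z.2
  let _ : Algebra S S' := g.toRingHom.toAlgebra
  have : IsScalarTower R S S' := IsScalarTower.of_algebraMap_eq fun r =>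
    Subtype.ext (IsScalarTower.algebraMap_apply R K K' r)
  have hgen : Algebra.adjoin R' {algebraMap S S' (⟨x, hxS⟩ : S)} = ⊤ := by
    apply Subalgebra.map_injective (f := S'.val) Subtype.val_injective
    rw [AlgHom.map_adjoin, Set.image_singleton, Algebra.map_top, Subalgebra.range_val]
    rfl
  have hfinS : Module.Finite S S' := finite_of_adjoin (R := R) (R' := R') (⟨x, hxS⟩ : S) hgen
  have hinjS : Function.Injective (algebraMap S S') := fun a b h =>
    Subtype.ext ((algebraMap K K').injective (congrArg Subtype.val h))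
  have hinjR' : Function.Injective (algebraMap R' S') := fun a b h =>
    Subtype.ext (congrArg (fun t : S' => (t : K')) h :)
  let s' : R' := algebraMap R R' s₀
  have hs' : algebraMap R' S' s' ≠ 0 := fun h => hs₀K ((algebraMap K K').injective (by
    rw [map_zero, ← IsScalarTower.algebraMap_apply]
    exact congrArg (fun t : S' => (t : K')) h))
  -- powers of `s₀` carry `S'` into `R'`
  have hden : ∀ z : S', ∃ (k : ℕ) (r : R'), algebraMap R' S' s' ^ k * z = algebraMap R' S' r := by
    rintro ⟨z, hz⟩
    obtain ⟨Q, rfl⟩ := (Algebra.adjoin_singleton_eq_range_aeval R' x').le hz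
    induction Q using Polynomial.induction_on' with
    | add a b ha hb =>
      obtain ⟨k, r, hk⟩ := ha (aeval_mem_adjoin_singleton _ _)
      obtain ⟨l, t, hl⟩ := hb (aeval_mem_adjoin_singleton _ _)
      refine ⟨k + l, s' ^ l * r + s' ^ k * t, Subtype.ext ?_⟩
      have hk' : (s' : K') ^ k * Polynomial.aeval x' a = (r : K') := congrArg Subtype.val hk
      have hl' : (s' : K') ^ l * Polynomial.aeval x' b = (t : K') := congrArg Subtype.val hl
      change (s' : K') ^ (k + l) * Polynomial.aeval x' (a + b) = (s' : K') ^ l * (r : K') + (s' : K') ^ k * (t : K')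
      rw [map_add, ← hk', ← hl']; ring
    | monomial k a =>
      refine ⟨k, a * (algebraMap R R' a₀) ^ k, Subtype.ext ?_⟩
      change (s' : K') ^ k * Polynomial.aeval x' (monomial k a) = (a : K') * ((algebraMap R R' a₀ : R') : K') ^ k
      rw [Polynomial.aeval_monomial]
      have : (s' : K') * x' = ((algebraMap R R' a₀ : R') : K') := by
        change algebraMap R K' s₀ * algebraMap K K' x = algebraMap R K' a₀
        rw [IsScalarTower.algebraMap_apply R K K' s₀, IsScalarTower.algebraMap_apply R K K' a₀,
          ← map_mul, ← hx, mul_div_cancel₀ _ hs₀K]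
      rw [← this, mul_pow]
      change (s' : K') ^ k * ((a : K') * x' ^ k) = (a : K') * ((s' : K') ^ k * x' ^ k)
      ring
  refine LocalN1.isN1_localization_of_finite (S := S) (S' := S') hinjS m hs'
    (exists_pow_smul_mem_range (K' := K') Subtype.val_injective hden) fun q _ hq => ?_
  · -- primes over `m`
    have hcq : algebraMap S S' (algebraMap R S c) ∉ q := fun h => hPc (hq.le h)
    set ξ : S' := algebraMap S S' (⟨x, hxS⟩ : S)
    set cS : S' := algebraMap S S' (algebraMap R S c)
    have hPq : P1.eval₂ ((algebraMap S S').comp (algebraMap R S)) (cS * ξ) ∈ q := by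
      rw [show cS = ((algebraMap S S').comp (algebraMap R S)) c from rfl,
        Polynomial.integralNormalization_eval₂_leadingCoeff_mul hdeg]
      refine q.mul_mem_left _ ?_
      rw [← Polynomial.hom_eval₂]
      have hmem : P.eval₂ (algebraMap R S) (⟨x, hxS⟩ : S) ∈ m := Ideal.Quotient.eq_zero_iff_mem.mp hPφ
      rw [← hq] at hmem
      exact hmem
    -- roots
    let roots := (P1.map (algebraMap R K')).roots
    have hroots : ∀ a ∈ roots, IsIntegral R a := fun a ha => by
      refine ⟨P1, hP1, ?_⟩
      have := (Polynomial.mem_roots'.mp ha).2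
      rwa [Polynomial.IsRoot, Polynomial.eval_map] at this
    let lin : {a // a ∈ roots} → S' := fun a => cS * ξ - algebraMap R' S' ⟨a.1, hroots a.1 a.2⟩
    have hprod : P1.eval₂ ((algebraMap S S').comp (algebraMap R S)) (cS * ξ) =
        (roots.attach.map lin).prod := by
      apply Subtype.val_injective
      change S'.val (P1.eval₂ _ _) = S'.val _
      rw [map_multiset_prod, Multiset.map_map]
      change S'.val.toRingHom (P1.eval₂ _ _) = _
      rw [Polynomial.hom_eval₂]
      have hfun : S'.val.toRingHom.comp ((algebraMap S S').comp (algebraMap R S)) = algebraMap R K' :=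
        RingHom.ext fun a => (IsScalarTower.algebraMap_apply R K K' a).symm
      rw [hfun, ← Polynomial.eval_map]
      conv_lhs => rw [hsplit.eq_prod_roots_of_monic (hP1.map _)]
      rw [Polynomial.eval_multiset_prod, Multiset.map_map]
      refine congrArg Multiset.prod ?_
      conv_lhs => rw [show (P1.map (algebraMap R K')).roots = roots from rfl, ← Multiset.attach_map_val roots]
      rw [Multiset.map_map]
      refine Multiset.map_congr rfl fun a _ => ?_
      simp [lin]
    rw [hprod] at hPq
    obtain ⟨l, hl, ha⟩ := (Ideal.IsPrime.multiset_prod_mem_iff_exists_mem inferInstance _).mp hPq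
    obtain ⟨a, -, rfl⟩ := Multiset.mem_map.mp hl
    set b : R' := ⟨a.1, hroots a.1 a.2⟩
    let y : K' := ((cS * ξ - algebraMap R' S' b : S') : K')
    let S'' := Algebra.adjoin R' {y}
    have hle : S'' ≤ S' := by
      rw [Algebra.adjoin_le_iff, Set.singleton_subset_iff]
      exact SetLike.coe_mem _
    let i : S'' →ₐ[R'] S' := Subalgebra.inclusion hle
    let η : S'' := ⟨y, Algebra.self_mem_adjoin_singleton R' y⟩
    let cR : R' := algebraMap R R' c
    have hcR : algebraMap R' S' cR = cS := Subtype.ext (IsScalarTower.algebraMap_apply R K K' c)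
    have hcM : i (algebraMap R' S'' cR) ∉ q := by
      intro h
      apply hcq
      have hi : i (algebraMap R' S'' cR) = cS := (i.commutes cR).trans hcR
      rw [← hi]
      exact h
    have hden' : ∀ z : S', ∃ (k : ℕ) (w : S''), algebraMap R' S' cR ^ k * z = i w := by
      rintro ⟨z, hz⟩
      obtain ⟨Q, rfl⟩ := (Algebra.adjoin_singleton_eq_range_aeval R' x').le hz
      induction Q using Polynomial.induction_on' with
      | add a b ha hb =>
        obtain ⟨k, r, hk⟩ := ha (aeval_mem_adjoin_singleton _ _)
        obtain ⟨l, t, hl⟩ := hb (aeval_mem_adjoin_singleton _ _)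
        refine ⟨k + l, algebraMap R' S'' cR ^ l * r + algebraMap R' S'' cR ^ k * t, Subtype.ext ?_⟩
        have hk' : (cR : K') ^ k * Polynomial.aeval x' a = (r : K') := congrArg Subtype.val hk
        have hl' : (cR : K') ^ l * Polynomial.aeval x' b = (t : K') := congrArg Subtype.val hl
        change (cR : K') ^ (k + l) * Polynomial.aeval x' (a + b) = (cR : K') ^ l * (r : K') + (cR : K') ^ k * (t : K')
        rw [map_add, ← hk', ← hl']; ring
      | monomial k a =>
        refine ⟨k, algebraMap R' S'' a * (η + algebraMap R' S'' b) ^ k, Subtype.ext ?_⟩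
        change (cR : K') ^ k * Polynomial.aeval x' (monomial k a) = (a : K') * (y + (b : K')) ^ k
        rw [Polynomial.aeval_monomial]
        have : y + (b : K') = (cR : K') * x' := by
          change ((cS : K') * (ξ : K') - (b : K')) + (b : K') = _
          rw [sub_add_cancel, ← hcR]
          rfl
        rw [this, mul_pow]
        change (cR : K') ^ k * ((a : K') * x' ^ k) = (a : K') * ((cR : K') ^ k * x' ^ k)
        ring
    have hilow : Function.Injective i := Subalgebra.inclusion_injective hle
    exact isN1_localization_of_den hR' y S'' rfl η rfl (i := i.toRingHom) hilow q ha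
      (c := algebraMap R' S'' cR) hcM fun z => by
        obtain ⟨k, w, hw⟩ := hden' z
        refine ⟨k, w, ?_⟩
        change i (algebraMap R' S'' cR) ^ k * z = i w
        rw [i.commutes]
        exact hw

end key

set_option maxHeartbeats 1600000 in
/-- A polynomial ring over a Nagata ring is Nagata. -/
theorem quotN2_polynomial {R : Type u} [CommRing R] (hR : CAlg.IsNagata R) :
    QuotN2 (Polynomial R) := by
  classical
  have := hR.1
  intro D _ _ _ hsurj
  let _ : Algebra R D := ((algebraMap (Polynomial R) D).comp Polynomial.C).toAlgebra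
  have hsT : IsScalarTower R (Polynomial R) D := IsScalarTower.of_algebraMap_eq fun _ => rfl
  let p := RingHom.ker (algebraMap R D)
  have : p.IsPrime := RingHom.ker_isPrime _
  let R1 := R ⧸ p
  let _ : Algebra R1 D := (RingHom.kerLift (algebraMap R D)).toAlgebra
  have : IsScalarTower R R1 D := IsScalarTower.of_algebraMap_eq fun _ => rfl
  have hinj1 : Function.Injective (algebraMap R1 D) := RingHom.kerLift_injective _
  have hR1 : CAlg.IsNagata R1 := isNagata_of_surjective (Ideal.Quotient.mk p) Ideal.Quotient.mk_surjective hR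
  have hN2R1 : CAlg.IsN2 R1 := isN2_of_ringEquiv (RingEquiv.quotientBot R1) (hR1.2 ⊥)
  let x : D := algebraMap (Polynomial R) D Polynomial.X
  have heval : ∀ P : Polynomial R, algebraMap (Polynomial R) D P =
      Polynomial.aeval x (P.map (algebraMap R R1)) := fun P => by
    rw [Polynomial.aeval_map_algebraMap]
    exact ((Polynomial.aeval_algHom_apply (IsScalarTower.toAlgHom R (Polynomial R) D) Polynomial.X P).trans
      (congrArg _ (Polynomial.aeval_X_left_apply P))).symm
  have hadj : Algebra.adjoin R1 {x} = ⊤ := by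
    rw [eq_top_iff]
    rintro z -
    obtain ⟨P, rfl⟩ := hsurj z
    rw [heval]
    exact Polynomial.aeval_mem_adjoin_singleton _ _
  by_cases htr : Function.Injective (Polynomial.aeval (R := R1) x)
  · refine isN2_of_ringEquiv (RingEquiv.ofBijective (Polynomial.aeval (R := R1) x).toRingHom ⟨htr, ?_⟩)
      (Poly.isN2 hN2R1)
    intro z
    exact (Algebra.adjoin_singleton_eq_range_aeval R1 x).le (hadj ▸ Algebra.mem_top)
  have : IsNoetherianRing R1 := hR1.1
  intro L _ _ _ _ hL
  let K1 := FractionRing R1
  let KD := FractionRing D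
  let _ : Algebra R1 L := ((algebraMap D L).comp (algebraMap R1 D)).toAlgebra
  have : IsScalarTower R1 D L := IsScalarTower.of_algebraMap_eq fun _ => rfl
  have : FaithfulSMul R1 D := (faithfulSMul_iff_algebraMap_injective _ _).mpr hinj1
  let _ : Algebra K1 KD := FractionRing.liftAlgebra R1 KD
  have halgx : IsAlgebraic K1 (algebraMap D KD x) := by
    rw [← IsFractionRing.isAlgebraic_iff R1 K1 KD]
    rw [isAlgebraic_algebraMap_iff (IsFractionRing.injective D KD)]
    rw [injective_iff_map_eq_zero] at htr
    push Not at htr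
    obtain ⟨P, hP, hP0⟩ := htr
    exact ⟨P, hP0, hP⟩
  have : FiniteDimensional K1 KD := by
    have hfin : FiniteDimensional K1 (IntermediateField.adjoin K1 {algebraMap D KD x}) :=
      IntermediateField.adjoin.finiteDimensional halgx.isIntegral
    have htop : IntermediateField.adjoin K1 {algebraMap D KD x} = ⊤ := by
      rw [eq_top_iff]
      rintro z -
      have hD : ∀ d : D, algebraMap D KD d ∈ IntermediateField.adjoin K1 {algebraMap D KD x} := by
        intro d
        obtain ⟨P, rfl⟩ := (Algebra.adjoin_singleton_eq_range_aeval R1 x).le (hadj ▸ Algebra.mem_top : d ∈ Algebra.adjoin R1 {x})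
        rw [AlgHom.toRingHom_eq_coe, RingHom.coe_coe, ← Polynomial.aeval_algebraMap_apply,
          ← Polynomial.aeval_map_algebraMap K1]
        exact IntermediateField.algebra_adjoin_le_adjoin K1 _ (Polynomial.aeval_mem_adjoin_singleton _ _)
      obtain ⟨a, b, -, rfl⟩ := IsFractionRing.div_surjective D z
      exact IntermediateField.div_mem _ (hD a) (hD b)
    rw [htop] at hfin
    exact Module.Finite.equiv (IntermediateField.topEquiv (F := K1) (E := KD)).toLinearEquiv
  let _ : Algebra K1 L := ((algebraMap KD L).comp (algebraMap K1 KD)).toAlgebra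
  have : IsScalarTower K1 KD L := IsScalarTower.of_algebraMap_eq fun _ => rfl
  have : FiniteDimensional K1 L := Module.Finite.trans KD L
  have : IsScalarTower R1 K1 L := IsScalarTower.of_algebraMap_eq fun r => by
    change algebraMap D L (algebraMap R1 D r) = algebraMap KD L (algebraMap K1 KD (algebraMap R1 K1 r))
    rw [IsScalarTower.algebraMap_apply D KD L, ← IsScalarTower.algebraMap_apply R1 K1 KD,
      IsScalarTower.algebraMap_apply R1 D KD]
  let R' := integralClosure R1 L
  have : Module.Finite R1 R' := finite_integralClosure hN2R1 K1 L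
  have : IsFractionRing R' L := integralClosure.isFractionRing_of_finite_extension K1 L
  have : IsIntegrallyClosed R' := integralClosure.isIntegrallyClosedOfFiniteExtension K1
  have hR' : CAlg.IsNagata R' := isNagata_of_finite R1 R' hR1
  let D' := Algebra.adjoin R' {algebraMap D L x}
  have hD'N1 : CAlg.IsN1 D' := isN1_adjoin hR' (algebraMap D L x) D' rfl
  have hDD' : (IsScalarTower.toAlgHom R1 D L).range ≤ D'.restrictScalars R1 := by
    rw [← Algebra.map_top, ← hadj, AlgHom.map_adjoin, Algebra.adjoin_le_iff, Set.image_singleton,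
      Set.singleton_subset_iff]
    exact Algebra.self_mem_adjoin_singleton R' _
  let g : D →ₐ[R1] D'.restrictScalars R1 :=
    AlgHom.codRestrict (IsScalarTower.toAlgHom R1 D L) _ fun z => hDD' ⟨z, rfl⟩
  let _ : Algebra D D' := g.toRingHom.toAlgebra
  have : IsScalarTower R1 D D' := IsScalarTower.of_algebraMap_eq fun r =>
    Subtype.ext (IsScalarTower.algebraMap_apply R1 D L r)
  have : IsScalarTower D D' L := IsScalarTower.of_algebraMap_eq fun _ => rfl
  have hgen : Algebra.adjoin R' {algebraMap D D' x} = ⊤ := by
    apply Subalgebra.map_injective (f := D'.val) Subtype.val_injective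
    rw [AlgHom.map_adjoin, Set.image_singleton, Algebra.map_top, Subalgebra.range_val]
    rfl
  have : Module.Finite D D' := finite_of_adjoin (R := R1) (R' := R') (D' := D') x hgen
  have : IsNoetherianRing D :=
    isNoetherianRing_of_surjective (Polynomial R) D (algebraMap (Polynomial R) D) hsurj
  have : IsFractionRing D' L := by
    have : FaithfulSMul D' L := (faithfulSMul_iff_algebraMap_injective D' L).mpr Subtype.val_injective
    refine IsFractionRing.of_field (R := D') (K := L) fun z => ?_
    obtain ⟨a, b, -, rfl⟩ := IsFractionRing.div_surjective R' z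
    exact ⟨algebraMap R' D' a, algebraMap R' D' b, rfl⟩
  have : Module.Finite D' (integralClosure D' L) := RegLoc.N1.finite_integralClosure_of_isN1 hD'N1 L
  exact Nagata.finite_integralClosure_of_tower (R' := D')

theorem isNagata_polynomial {R : Type u} [CommRing R] (hR : CAlg.IsNagata R) :
    CAlg.IsNagata (Polynomial R) := by
  have := hR.1
  exact isNagata_iff.mpr ⟨inferInstance, quotN2_polynomial hR⟩

theorem isNagata_mvPolynomial {R : Type u} [CommRing R] (hR : CAlg.IsNagata R) :
    ∀ n : ℕ, CAlg.IsNagata (MvPolynomial (Fin n) R)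
  | 0 => isNagata_of_surjective (MvPolynomial.isEmptyRingEquiv R (Fin 0)).symm.toRingHom
      (MvPolynomial.isEmptyRingEquiv R (Fin 0)).symm.surjective hR
  | n + 1 => isNagata_of_surjective (MvPolynomial.finSuccEquiv R n).symm.toRingEquiv.toRingHom
      (MvPolynomial.finSuccEquiv R n).symm.surjective (isNagata_polynomial (isNagata_mvPolynomial hR n))

/-- Algebras of finite type over Nagata rings are Nagata. -/
theorem isNagata {R : Type u} [CommRing R] (hR : CAlg.IsNagata R) (S : Type u) [CommRing S]
    [Algebra R S] [Algebra.FiniteType R S] : CAlg.IsNagata S := by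
  obtain ⟨n, f, hf⟩ := Algebra.FiniteType.iff_quotient_mvPolynomial''.mp ‹Algebra.FiniteType R S›
  exact isNagata_of_surjective f.toRingHom hf (isNagata_mvPolynomial hR n)

end Groth.Agent.Nagata.FiniteType
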