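import Groth.Agent.Nagata.Normalization
import Groth.Agent.RegLoc.Miracle
import Groth.Agent.CAlg48.PowerSeriesAFS
import Mathlib

/-!
Cohen presentations of local homomorphisms of complete Noetherian local rings.
-/

namespace Groth.Agent.Nagata.CohenMap

universe u

open IsLocalRing

variable {Λ : Type u} [CommRing Λ]

/-- `Λ` lifts along square zero quotients of `S` killed by a power of the maximal ideal. -/
def Lifts (Λ : Type u) [CommRing Λ] (S : Type u) [CommRing S] [IsLocalRing S] : Prop :=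
  ∀ (I I' : Ideal S) (h : I ≤ I') (N : ℕ), maximalIdeal S ^ N ≤ I → I' * I' ≤ I → I' ≤ maximalIdeal S →
    ∀ u : Λ →+* S ⧸ I', ∃ u' : Λ →+* S ⧸ I, (Ideal.Quotient.factor h).comp u' = u

theorem isNilpotent_ker_factor {S : Type u} [CommRing S] {I I' : Ideal S} (h : I ≤ I')
    (h2 : I' * I' ≤ I) : IsNilpotent (RingHom.ker (Ideal.Quotient.factor h)) := by
  refine ⟨2, eq_bot_iff.mpr ?_⟩
  have hle : RingHom.ker (Ideal.Quotient.factor h) ≤ I'.map (Ideal.Quotient.mk I) := by
    intro x hx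
    obtain ⟨r, rfl⟩ := Ideal.Quotient.mk_surjective x
    exact Ideal.mem_map_of_mem _ (Ideal.Quotient.eq_zero_iff_mem.mp hx)
  refine (Ideal.pow_right_mono hle 2).trans ?_
  rw [← Ideal.map_pow, pow_two]
  exact le_of_eq (Ideal.map_eq_bot_iff_le_ker _ |>.mpr (h2.trans (Ideal.mk_ker (I := I)).ge))

theorem lifts_of_charZero {F : Type u} [Field F] [CharZero F] (S : Type u) [CommRing S]
    [IsLocalRing S] [CharZero (ResidueField S)] : Lifts F S := by
  intro I I' h N _ h2 hI' u
  have hu : ∀ z : nonZeroDivisors ℤ, IsUnit (Int.castRingHom S z) := fun z => by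
    rw [← IsLocalRing.notMem_maximalIdeal, ← IsLocalRing.residue_eq_zero_iff]
    simp
  let _ : Algebra ℚ S := (IsLocalization.lift (S := ℚ) hu).toAlgebra
  have : Algebra.FormallySmooth ℚ F := RegLoc.formallySmooth_of_charZero ℚ F
  have hc : u.comp (algebraMap ℚ F) = algebraMap ℚ (S ⧸ I') := Subsingleton.elim _ _
  let ubar : F →ₐ[ℚ] S ⧸ I' := { u with commutes' := RingHom.congr_fun hc }
  let π : (S ⧸ I) →ₐ[ℚ] S ⧸ I' := Ideal.Quotient.factorₐ ℚ h
  have hπ : Function.Surjective π := Ideal.Quotient.factor_surjective h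
  have hπn : IsNilpotent (RingHom.ker (π : (S ⧸ I) →+* S ⧸ I')) := isNilpotent_ker_factor h h2
  let v := Algebra.FormallySmooth.liftOfSurjective ubar π hπ hπn
  have hv : π.comp v = ubar := Algebra.FormallySmooth.comp_liftOfSurjective _ _ _ _
  exact ⟨v.toRingHom, RingHom.ext fun a => AlgHom.congr_fun hv a⟩

theorem lifts_of_cohen [IsDomain Λ] [IsDiscreteValuationRing Λ]
    [IsAdicComplete (maximalIdeal Λ) Λ] (p : ℕ) (hp : p.Prime)
    (hm : maximalIdeal Λ = Ideal.span {(p : Λ)}) (S : Type u) [CommRing S] [IsLocalRing S]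
    (hpS : (p : S) ∈ maximalIdeal S) : Lifts Λ S := by
  intro I I' h N hN h2 _ u
  let M := p ^ (N + 1)
  let A := Λ ⧸ Ideal.span {((p : Λ) ^ (N + 1))}
  have hmem : ((M : ℕ) : S) ∈ I := by
    rw [Nat.cast_pow]
    exact hN (Ideal.pow_le_pow_right (Nat.le_succ N) (Ideal.pow_mem_pow hpS _))
  have hz : ((M : ℕ) : S ⧸ I) = 0 := by
    rw [← map_natCast (Ideal.Quotient.mk I), Ideal.Quotient.eq_zero_iff_mem]
    exact hmem
  have hz' : ((M : ℕ) : S ⧸ I') = 0 := by
    rw [← map_natCast (Ideal.Quotient.mk I'), Ideal.Quotient.eq_zero_iff_mem]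
    exact h hmem
  let _ : Algebra (ZMod M) A :=
    (ZMod.castHom (ringChar.dvd (show ((M : ℕ) : A) = 0 by
      rw [← map_natCast (Ideal.Quotient.mk _), Ideal.Quotient.eq_zero_iff_mem, Nat.cast_pow]
      exact Ideal.mem_span_singleton_self _)) A).toAlgebra
  let _ : Algebra (ZMod M) (S ⧸ I) := (ZMod.castHom (ringChar.dvd hz) (S ⧸ I)).toAlgebra
  let _ : Algebra (ZMod M) (S ⧸ I') := (ZMod.castHom (ringChar.dvd hz') (S ⧸ I')).toAlgebra
  have hfs : Algebra.FormallySmooth (ZMod M) A := S9455.result Λ p hp hm (N + 1) (by omega)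
  have hker : ∀ a ∈ Ideal.span {((p : Λ) ^ (N + 1))}, u a = 0 := by
    intro a ha
    obtain ⟨c, rfl⟩ := Ideal.mem_span_singleton'.mp ha
    rw [map_mul, map_pow, map_natCast]
    rw [Nat.cast_pow] at hz'
    rw [hz', mul_zero]
  let ubar : A →ₐ[ZMod M] S ⧸ I' :=
    { Ideal.Quotient.lift _ u hker with
      commutes' := fun r => RingHom.congr_fun (Subsingleton.elim
        ((Ideal.Quotient.lift _ u hker).comp (algebraMap (ZMod M) A))
        (algebraMap (ZMod M) (S ⧸ I'))) r }
  let π : (S ⧸ I) →ₐ[ZMod M] S ⧸ I' :=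
    { Ideal.Quotient.factor h with
      commutes' := fun r => RingHom.congr_fun (Subsingleton.elim
        ((Ideal.Quotient.factor h).comp (algebraMap (ZMod M) (S ⧸ I)))
        (algebraMap (ZMod M) (S ⧸ I'))) r }
  have hπ : Function.Surjective π := Ideal.Quotient.factor_surjective h
  have hπn : IsNilpotent (RingHom.ker (π : (S ⧸ I) →+* S ⧸ I')) := isNilpotent_ker_factor h h2
  let v := Algebra.FormallySmooth.liftOfSurjective ubar π hπ hπn
  have hv : π.comp v = ubar := Algebra.FormallySmooth.comp_liftOfSurjective _ _ _ _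
  refine ⟨v.toRingHom.comp (Ideal.Quotient.mk _), RingHom.ext fun a => ?_⟩
  have h := AlgHom.congr_fun hv (Ideal.Quotient.mk _ a)
  exact h.trans (Ideal.Quotient.lift_mk _ u hker)

/-- Gluing two maps to quotients agreeing modulo the sum of the ideals. -/
theorem exists_glue {S : Type u} [CommRing S] (I J : Ideal S) (u : Λ →+* S ⧸ I) (v : Λ →+* S ⧸ J)
    (huv : (Ideal.Quotient.factor (le_sup_left : I ≤ I ⊔ J)).comp u =
      (Ideal.Quotient.factor (le_sup_right : J ≤ I ⊔ J)).comp v) :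
    ∃ w : Λ →+* S ⧸ (I ⊓ J), (Ideal.Quotient.factor inf_le_left).comp w = u ∧
      (Ideal.Quotient.factor inf_le_right).comp w = v := by
  let φ : (S ⧸ (I ⊓ J)) →+* (S ⧸ I) × (S ⧸ J) :=
    (Ideal.Quotient.factor inf_le_left).prod (Ideal.Quotient.factor inf_le_right)
  have hφ : Function.Injective φ := (injective_iff_map_eq_zero φ).mpr fun x hx => by
    obtain ⟨x, rfl⟩ := Ideal.Quotient.mk_surjective x
    exact Ideal.Quotient.eq_zero_iff_mem.mpr
      ⟨Ideal.Quotient.eq_zero_iff_mem.mp (congrArg Prod.fst hx),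
        Ideal.Quotient.eq_zero_iff_mem.mp (congrArg Prod.snd hx)⟩
  have hr : ∀ a, (u.prod v) a ∈ φ.range := fun a => by
    obtain ⟨x, hx⟩ := Ideal.Quotient.mk_surjective (u a)
    obtain ⟨y, hy⟩ := Ideal.Quotient.mk_surjective (v a)
    have hxy : x - y ∈ I ⊔ J := by
      have := RingHom.congr_fun huv a
      rw [RingHom.comp_apply, RingHom.comp_apply, ← hx, ← hy] at this
      exact Ideal.Quotient.eq.mp this
    obtain ⟨i, hi, j, hj, hij⟩ := Submodule.mem_sup.mp hxy
    refine ⟨Ideal.Quotient.mk _ (x - i), Prod.ext ?_ ?_⟩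
    · exact (Ideal.Quotient.eq.mpr (by simpa using hi)).trans hx
    · refine (Ideal.Quotient.eq.mpr (?_ : x - i - y ∈ J)).trans hy
      have : x - i - y = j := by linear_combination -hij
      exact this ▸ hj
  let e : (S ⧸ (I ⊓ J)) ≃+* φ.range :=
    RingEquiv.ofBijective φ.rangeRestrict ⟨fun a b h => hφ (congrArg Subtype.val h), φ.rangeRestrict_surjective⟩
  let w := e.symm.toRingHom.comp ((u.prod v).codRestrict φ.range hr)
  have hw : ∀ a, φ (w a) = (u a, v a) := fun a =>
    congrArg Subtype.val (e.apply_symm_apply (((u.prod v).codRestrict φ.range hr) a))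
  exact ⟨w, RingHom.ext fun a => congrArg Prod.fst (hw a), RingHom.ext fun a => congrArg Prod.snd (hw a)⟩

/-- Lifting through a surjection of complete local rings. -/
theorem exists_lift {S B : Type u} [CommRing S] [IsLocalRing S] [CommRing B] [Nontrivial B]
    [IsAdicComplete (maximalIdeal S) S] (σ : S →+* B) (hσ : Function.Surjective σ)
    [IsHausdorff ((maximalIdeal S).map σ) B] (g : Λ →+* B) (hΛ : Lifts Λ S) :
    ∃ h : Λ →+* S, σ.comp h = g := by
  let m := maximalIdeal S
  let K := RingHom.ker σ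
  have hK : K ≤ m := le_maximalIdeal (RingHom.ker_ne_top σ)
  obtain ⟨gK, hgK⟩ : ∃ gK : Λ →+* S ⧸ K, ∀ a, RingHom.quotientKerEquivOfSurjective hσ (gK a) = g a :=
    ⟨(RingHom.quotientKerEquivOfSurjective hσ).symm.toRingHom.comp g,
      fun a => (RingHom.quotientKerEquivOfSurjective hσ).apply_symm_apply (g a)⟩
  let P : ∀ n : ℕ, (Λ →+* S ⧸ m ^ (n + 1)) → Prop := fun n u =>
    (Ideal.Quotient.factor (le_sup_left : m ^ (n + 1) ≤ m ^ (n + 1) ⊔ K)).comp u =
      (Ideal.Quotient.factor (le_sup_right : K ≤ m ^ (n + 1) ⊔ K)).comp gK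
  have step : ∀ n (u : {u // P n u}), ∃ u' : {u' // P (n + 1) u'},
      (Ideal.Quotient.factorPow m (Nat.le_succ (n + 1))).comp u'.1 = u.1 := by
    intro n ⟨u, hu⟩
    let J := m ^ (n + 2) ⊔ K
    have hpow : m ^ (n + 2) ≤ m ^ (n + 1) := Ideal.pow_le_pow_right (Nat.le_succ (n + 1))
    have hsup : m ^ (n + 1) ⊔ J = m ^ (n + 1) ⊔ K := by
      rw [← sup_assoc, sup_eq_left.mpr hpow]
    let v : Λ →+* S ⧸ J := (Ideal.Quotient.factor (le_sup_right : K ≤ J)).comp gK
    obtain ⟨w, hw1, hw2⟩ := exists_glue (m ^ (n + 1)) J u v (RingHom.ext fun a => by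
      obtain ⟨x, hx⟩ := Ideal.Quotient.mk_surjective (u a)
      obtain ⟨y, hy⟩ := Ideal.Quotient.mk_surjective (gK a)
      have := RingHom.congr_fun hu a
      rw [RingHom.comp_apply, RingHom.comp_apply, ← hx, ← hy] at this
      rw [RingHom.comp_apply, RingHom.comp_apply, RingHom.comp_apply, ← hx, ← hy]
      refine Ideal.Quotient.eq.mpr ?_
      rw [hsup]
      exact Ideal.Quotient.eq.mp this)
    obtain ⟨u', hu'⟩ := hΛ (m ^ (n + 2)) (m ^ (n + 1) ⊓ J) (le_inf hpow le_sup_left) (n + 2) le_rfl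
      ((Ideal.mul_mono inf_le_left inf_le_left).trans (by
        rw [← pow_add]; exact Ideal.pow_le_pow_right (by omega)))
      (inf_le_left.trans (Ideal.pow_le_self n.succ_ne_zero)) w
    refine ⟨⟨u', RingHom.ext fun a => ?_⟩, RingHom.ext fun a => ?_⟩
    · rw [RingHom.comp_apply, RingHom.comp_apply]
      obtain ⟨x, hx⟩ := Ideal.Quotient.mk_surjective (u' a)
      obtain ⟨y, hy⟩ := Ideal.Quotient.mk_surjective (gK a)
      have h2 := RingHom.congr_fun hw2 a
      rw [← hu'] at h2
      simp only [RingHom.comp_apply, v] at h2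
      rw [← hx, ← hy] at h2 ⊢
      exact h2
    · rw [RingHom.comp_apply]
      obtain ⟨x, hx⟩ := Ideal.Quotient.mk_surjective (u' a)
      have h2 := RingHom.congr_fun hw1 a
      rw [← hu'] at h2
      simp only [RingHom.comp_apply] at h2
      rw [← hx] at h2 ⊢
      exact h2
  choose next hnext using step
  have h1 : K ≤ m ^ (0 + 1) := by rw [zero_add, pow_one]; exact hK
  have hP0 : P 0 ((Ideal.Quotient.factor h1).comp gK) := RingHom.ext fun a => by
    rw [RingHom.comp_apply, RingHom.comp_apply, RingHom.comp_apply]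
    obtain ⟨y, hy⟩ := Ideal.Quotient.mk_surjective (gK a)
    rw [← hy]
    rfl
  let U : ∀ n : ℕ, {u // P n u} := fun n =>
    Nat.rec (motive := fun n => {u // P n u}) ⟨_, hP0⟩ next n
  have hmono : StrictMono (fun n : ℕ => n + 1) := fun a b h => by simpa using h
  let h : Λ →+* S :=
    IsAdicComplete.StrictMono.liftRingHom m hmono (fun n => (U n).1) (fun {n} => hnext n (U n))
  refine ⟨h, RingHom.ext fun a => IsHausdorff.eq_iff_smodEq (I := m.map σ).mpr fun n => ?_⟩
  rw [SModEq.sub_mem, smul_eq_mul, Ideal.mul_top, ← Ideal.map_pow]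
  obtain ⟨y, hy⟩ := Ideal.Quotient.mk_surjective (gK a)
  have hgy : σ y = g a := by
    rw [← hgK a, ← hy]
    exact (RingHom.quotientKerEquivOfSurjective_apply_mk hσ y).symm
  have hn : h a - y ∈ m ^ (n + 1) ⊔ K := by
    have h2 := RingHom.congr_fun (U n).2 a
    rw [RingHom.comp_apply, RingHom.comp_apply, ← hy,
      ← IsAdicComplete.StrictMono.mk_liftRingHom m hmono (fun n => (U n).1)
        (fun {n} => hnext n (U n)) (n := n) a] at h2
    exact Ideal.Quotient.eq.mp h2
  have h3 := Ideal.mem_map_of_mem σ hn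
  rw [map_sub, hgy, Ideal.map_sup, (Ideal.map_eq_bot_iff_le_ker σ).mpr le_rfl, sup_bot_eq] at h3
  exact Ideal.map_mono (Ideal.pow_le_pow_right n.le_succ) h3

theorem natCast_add_le_ringKrullDim [IsNoetherianRing Λ] [Nontrivial Λ] {e : ℕ}
    (he : (e : WithBot ℕ∞) ≤ ringKrullDim Λ) (d : ℕ) :
    ((e + d : ℕ) : WithBot ℕ∞) ≤ ringKrullDim (MvPowerSeries (Fin d) Λ) := by
  induction d with
  | zero =>
    rw [add_zero]
    refine he.trans (ringKrullDim_le_of_surjective MvPowerSeries.constantCoeff fun a => ?_)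
    exact ⟨MvPowerSeries.C a, MvPowerSeries.constantCoeff_C a⟩
  | succ d ih =>
    rw [ringKrullDim_eq_of_ringEquiv (MvPowerSeries.finSuccEquiv Λ d).toRingEquiv]
    refine le_trans ?_ ringKrullDim_succ_le_ringKrullDim_powerseries
    rw [← add_assoc, Nat.cast_add]
    push_cast at ih ⊢
    exact add_le_add_left ih 1

theorem spanFinrank_params_le {S : Type u} [CommRing S] {n e : ℕ} (c : S) (x : Fin n → S)
    (hc : e = 0 → c = 0) :
    (Ideal.span ({c} ∪ Set.range x)).spanFinrank ≤ n + e := by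
  classical
  have hx : (Set.range x).ncard ≤ n := by
    rw [← Set.image_univ]
    exact (Set.ncard_image_le Set.finite_univ).trans (by simp)
  rcases Nat.eq_zero_or_pos e with he | he
  · rw [hc he, Set.singleton_union, Ideal.span, Submodule.span_insert_zero, he, add_zero]
    exact (Submodule.spanFinrank_span_le_ncard_of_finite (Set.finite_range x)).trans hx
  · refine (Submodule.spanFinrank_span_le_ncard_of_finite
      ((Set.finite_singleton c).union (Set.finite_range x))).trans ?_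
    refine (Set.ncard_union_le _ _).trans ?_
    rw [Set.ncard_singleton]
    omega

theorem regular_powerSeries [IsLocalRing Λ] [IsNoetherianRing Λ] {e : ℕ}
    (he : (e : WithBot ℕ∞) ≤ ringKrullDim Λ) {q : Λ} (hq : maximalIdeal Λ = Ideal.span {q})
    (hq0 : e = 0 → q = 0) (n : ℕ) :
    IsRegularLocalRing (MvPowerSeries (Fin n) Λ) ∧
      ringKrullDim (MvPowerSeries (Fin n) Λ) = ((n + e : ℕ) : WithBot ℕ∞) := by
  have hle : (maximalIdeal (MvPowerSeries (Fin n) Λ)).spanFinrank ≤ n + e := by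
    rw [Normalization.maximalIdeal_eq hq]
    exact spanFinrank_params_le _ _ fun h => by rw [hq0 h, map_zero]
  have hge := natCast_add_le_ringKrullDim he n
  rw [add_comm e n] at hge
  have hdim : ringKrullDim (MvPowerSeries (Fin n) Λ) = ((n + e : ℕ) : WithBot ℕ∞) :=
    le_antisymm ((ringKrullDim_le_spanFinrank_maximalIdeal _).trans (by exact_mod_cast hle)) hge
  refine ⟨IsRegularLocalRing.of_spanFinrank_maximalIdeal_le _ ?_, hdim⟩
  rw [hdim]
  exact_mod_cast hle

theorem flat_and_regular {Λ' : Type u} [CommRing Λ'] [IsLocalRing Λ] [IsNoetherianRing Λ]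
    [IsLocalRing Λ'] [IsNoetherianRing Λ'] {e : ℕ}
    (he : (e : WithBot ℕ∞) ≤ ringKrullDim Λ) (he' : (e : WithBot ℕ∞) ≤ ringKrullDim Λ') (q : ℕ)
    (hq : maximalIdeal Λ = Ideal.span {(q : Λ)}) (hq' : maximalIdeal Λ' = Ideal.span {(q : Λ')})
    (hq0 : e = 0 → (q : Λ) = 0) (hq0' : e = 0 → (q : Λ') = 0) {n l : ℕ}
    (τ : MvPowerSeries (Fin n) Λ →+* MvPowerSeries (Fin (n + l)) Λ')
    (hτ : ∀ i, τ (MvPowerSeries.X i) = MvPowerSeries.X (Fin.castAdd l i)) :
    τ.Flat ∧ IsRegularRing (MvPowerSeries (Fin (n + l)) Λ' ⧸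
      (maximalIdeal (MvPowerSeries (Fin n) Λ)).map τ) := by
  classical
  let R := MvPowerSeries (Fin n) Λ
  let S := MvPowerSeries (Fin (n + l)) Λ'
  obtain ⟨hR, hdR⟩ := regular_powerSeries he hq hq0 n
  obtain ⟨hS, hdS⟩ := regular_powerSeries he' hq' hq0' (n + l)
  have := hR
  have := hS
  set I := (maximalIdeal R).map τ
  have hI : I = Ideal.span ({(q : S)} ∪ Set.range fun i => (MvPowerSeries.X (Fin.castAdd l i) : S)) := by
    show (maximalIdeal R).map τ = _
    rw [Normalization.maximalIdeal_eq hq, Ideal.map_span, Set.image_union, Set.image_singleton,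
      map_natCast, map_natCast, ← Set.range_comp]
    exact congrArg (fun t => Ideal.span ({(q : S)} ∪ Set.range t)) (funext hτ)
  have hIm : I ≤ maximalIdeal S := by
    rw [hI, Normalization.maximalIdeal_eq hq', map_natCast]
    exact Ideal.span_mono (Set.union_subset_union_right _
      (Set.range_comp_subset_range (Fin.castAdd l) MvPowerSeries.X))
  have hloc := RegLoc.isLocalRing_quotient hIm
  have hupper : (maximalIdeal (S ⧸ I)).spanFinrank ≤ l := by
    have hm : maximalIdeal (S ⧸ I) =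
        Ideal.span (Set.range fun j : Fin l => Ideal.Quotient.mk I (MvPowerSeries.X (Fin.natAdd n j) : S)) := by
      rw [← IsLocalRing.map_maximalIdeal_of_surjective (Ideal.Quotient.mk I) Ideal.Quotient.mk_surjective,
        Normalization.maximalIdeal_eq hq', Ideal.map_span]
      refine le_antisymm (Ideal.span_le.mpr ?_) (Ideal.span_mono ?_)
      · have hz : ∀ x ∈ I, Ideal.Quotient.mk I x ∈ Ideal.span
            (Set.range fun j : Fin l => Ideal.Quotient.mk I (MvPowerSeries.X (Fin.natAdd n j) : S)) := fun x hx => by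
          rw [Ideal.Quotient.eq_zero_iff_mem.mpr hx]; exact zero_mem _
        rintro _ ⟨x, rfl | ⟨i, rfl⟩, rfl⟩
        · exact hz _ (by rw [hI, map_natCast]; exact Ideal.subset_span (Or.inl rfl))
        · induction i using Fin.addCases with
          | left i => exact hz _ (by rw [hI]; exact Ideal.subset_span (Or.inr ⟨i, rfl⟩))
          | right j => exact Ideal.subset_span ⟨j, rfl⟩
      · rintro _ ⟨j, rfl⟩
        exact ⟨_, Or.inr ⟨_, rfl⟩, rfl⟩
    rw [hm]
    refine (Submodule.spanFinrank_span_le_ncard_of_finite (Set.finite_range _)).trans ?_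
    rw [← Set.image_univ]
    exact (Set.ncard_image_le Set.finite_univ).trans (by simp)
  obtain ⟨d, hd, -⟩ := RegLoc.exists_natCast_eq_ringKrullDim (S ⧸ I)
  have hlow : l ≤ d := by
    have h1 := ringKrullDim_le_ringKrullDim_quotient_add_spanFinrank I
      (hIm.trans (le_of_eq (IsLocalRing.ringJacobson_eq_maximalIdeal S).symm))
    rw [hdS, hd] at h1
    have h2 : I.spanFinrank ≤ n + e := by
      rw [hI]
      exact spanFinrank_params_le _ _ fun h => by
        rw [← map_natCast (MvPowerSeries.C (σ := Fin (n + l)) (R := Λ')), hq0' h, map_zero]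
    have h3 : n + l + e ≤ d + I.spanFinrank := by exact_mod_cast h1
    omega
  have hdF : ringKrullDim (S ⧸ I) = (l : WithBot ℕ∞) :=
    le_antisymm ((ringKrullDim_le_spanFinrank_maximalIdeal _).trans (by exact_mod_cast hupper))
      (hd ▸ (by exact_mod_cast hlow))
  have : IsRegularLocalRing (S ⧸ I) := IsRegularLocalRing.of_spanFinrank_maximalIdeal_le _
    (by rw [hdF]; exact_mod_cast hupper)
  refine ⟨?_, RegLoc.Homological.isRegularRing⟩
  let _ : Algebra R S := τ.toAlgebra
  have : IsLocalHom (algebraMap R S) :=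
    ((IsLocalRing.local_hom_TFAE (algebraMap R S)).out 0 2).mpr hIm
  have : LocCoh.IsCohenMacaulayLocalRing S := Depth.isCohenMacaulayLocalRing_of_isRegularLocalRing
  have hflat : Module.Flat R S := RegLoc.Miracle.flat_of_ringKrullDim_eq_add (by
    show ringKrullDim S = ringKrullDim R + ringKrullDim (S ⧸ I)
    rw [hdS, hdR, hdF]
    norm_cast
    omega)
  exact hflat

/-- Presentation of a local homomorphism over chosen coefficient rings and a chosen generating family of
the maximal ideal of the target. -/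
theorem exists_presentation_of_gens {A B : Type u} [CommRing A] [CommRing B] [IsLocalRing A] [IsLocalRing B]
    [IsNoetherianRing A] [IsNoetherianRing B] [IsAdicComplete (maximalIdeal A) A]
    [IsAdicComplete (maximalIdeal B) B] [Algebra A B] [IsLocalHom (algebraMap A B)]
    {Λ' : Type u} [CommRing Λ'] [IsLocalRing Λ] [IsNoetherianRing Λ]
    [IsLocalRing Λ'] [IsNoetherianRing Λ'] [IsAdicComplete (maximalIdeal Λ') Λ'] {e : ℕ}
    (he : (e : WithBot ℕ∞) ≤ ringKrullDim Λ) (he' : (e : WithBot ℕ∞) ≤ ringKrullDim Λ') (q : ℕ)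
    (hq : maximalIdeal Λ = Ideal.span {(q : Λ)}) (hq' : maximalIdeal Λ' = Ideal.span {(q : Λ')})
    (hq0 : e = 0 → (q : Λ) = 0) (hq0' : e = 0 → (q : Λ') = 0)
    (g : Λ →+* A) (hg : Function.Surjective ((residue A).comp g))
    (g' : Λ' →+* B) (hg' : Function.Surjective ((residue B).comp g'))
    (hlift : ∀ (m : ℕ) [IsLocalRing (MvPowerSeries (Fin m) Λ')], Lifts Λ (MvPowerSeries (Fin m) Λ'))
    {l : ℕ} (b : Fin l → B) (hb : Ideal.span (Set.range b) = maximalIdeal B) :
    ∃ (n : ℕ) (ρ : MvPowerSeries (Fin n) Λ →+* A) (σ : MvPowerSeries (Fin (n + l)) Λ' →+* B)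
      (τ : MvPowerSeries (Fin n) Λ →+* MvPowerSeries (Fin (n + l)) Λ'),
      Function.Surjective ρ ∧ Function.Surjective σ ∧ σ.comp τ = (algebraMap A B).comp ρ ∧
        ∀ i, τ (MvPowerSeries.X i) = MvPowerSeries.X (Fin.castAdd l i) := by
  classical
  obtain ⟨n, a, ha⟩ := Submodule.fg_iff_exists_fin_generating_family.mp
    (IsNoetherian.noetherian (maximalIdeal A))
  have ham : ∀ i, a i ∈ maximalIdeal A := fun i => ha ▸ Submodule.subset_span (Set.mem_range_self i)
  have hbm : ∀ i, b i ∈ maximalIdeal B := fun i => hb ▸ Submodule.subset_span (Set.mem_range_self i)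
  obtain ⟨ρ, hρC, hρX⟩ := CohenLift.exists_eval Λ g a ham
  let c : Fin (n + l) → B := Fin.append (fun i => algebraMap A B (a i)) b
  have hcm : ∀ i, c i ∈ maximalIdeal B := fun i => by
    induction i using Fin.addCases with
    | left i =>
      simp only [c, Fin.append_left]
      exact IsLocalRing.map_maximalIdeal_le (algebraMap A B) (Ideal.mem_map_of_mem _ (ham i))
    | right j => simp only [c, Fin.append_right]; exact hbm j
  obtain ⟨σ, hσC, hσX⟩ := CohenLift.exists_eval Λ' g' c hcm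
  have hσs : Function.Surjective σ := CohenLift.surjective_of_gen Λ' g' hg' σ hσC (by
    refine le_antisymm (Ideal.span_le.mpr ?_) ?_
    · rintro _ ⟨i, rfl⟩
      simp only [hσX]
      exact hcm i
    · rw [← hb]
      refine Submodule.span_mono ?_
      rintro _ ⟨j, rfl⟩
      exact ⟨Fin.natAdd n j, by simp [hσX, c]⟩)
  have hρs : Function.Surjective ρ := CohenLift.surjective_of_gen Λ g hg ρ hρC (by
    simp only [hρX]
    exact ha)
  have hSc := Normalization.isAdicComplete_maximalIdeal hq' (n + l)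
  have : IsHausdorff ((maximalIdeal (MvPowerSeries (Fin (n + l)) Λ')).map σ) B := by
    rw [IsLocalRing.map_maximalIdeal_of_surjective σ hσs]
    infer_instance
  obtain ⟨h, hh⟩ := exists_lift σ hσs ((algebraMap A B).comp g) (hlift (n + l))
  obtain ⟨τ, hτC, hτX⟩ := CohenLift.exists_eval Λ h
    (fun i : Fin n => (MvPowerSeries.X (Fin.castAdd l i) : MvPowerSeries (Fin (n + l)) Λ')) fun i => by
      rw [Normalization.maximalIdeal_eq hq']
      exact Ideal.subset_span (Or.inr (Set.mem_range_self _))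
  have key : ∀ (f₁ f₂ : MvPowerSeries (Fin n) Λ →+* B), (∀ r, f₁ (MvPowerSeries.C r) = f₂ (MvPowerSeries.C r)) →
      (∀ i, f₁ (MvPowerSeries.X i) = f₂ (MvPowerSeries.X i)) → (∀ i, f₁ (MvPowerSeries.X i) ∈ maximalIdeal B) →
      f₁ = f₂ := by
    intro f₁ f₂ hC hX hm
    let _ : Algebra Λ B := (f₁.comp (MvPowerSeries.C (σ := Fin n) (R := Λ))).toAlgebra
    refine RingHom.ext fun φ => IsHausdorff.eq_iff_smodEq (I := maximalIdeal B).mpr fun k => ?_
    rw [SModEq.sub_mem, smul_eq_mul, Ideal.mul_top]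
    let t : MvPowerSeries (Fin n) Λ := (MvPowerSeries.truncTotal k φ : MvPolynomial (Fin n) Λ)
    have hpoly : f₁ t = f₂ t := by
      suffices f₁.comp (MvPolynomial.coeToMvPowerSeries.ringHom) =
          f₂.comp (MvPolynomial.coeToMvPowerSeries.ringHom) from RingHom.congr_fun this _
      refine MvPolynomial.ringHom_ext (fun r => ?_) fun i => ?_
      · simp only [RingHom.comp_apply, MvPolynomial.coeToMvPowerSeries.ringHom_apply, MvPolynomial.coe_C]
        exact hC r
      · simp only [RingHom.comp_apply, MvPolynomial.coeToMvPowerSeries.ringHom_apply, MvPolynomial.coe_X]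
        exact hX i
    have hmem := CAlg48.PowerSeriesAFS.sub_truncTotal_mem φ k
    have h1 : ∀ (f : MvPowerSeries (Fin n) Λ →+* B), (∀ i, f (MvPowerSeries.X i) ∈ maximalIdeal B) →
        f (φ - t) ∈ maximalIdeal B ^ k := fun f hf => by
      refine Ideal.pow_right_mono (Ideal.map_le_iff_le_comap.mpr (Ideal.span_le.mpr ?_)) k
        (Ideal.map_pow (f := f) _ k ▸ Ideal.mem_map_of_mem f hmem)
      rintro _ ⟨i, rfl⟩
      exact hf i
    have h2 : f₁ φ - f₂ φ = f₁ (φ - t) - f₂ (φ - t) := by rw [map_sub, map_sub, hpoly]; ring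
    rw [h2]
    exact sub_mem (h1 f₁ hm) (h1 f₂ fun i => hX i ▸ hm i)
  refine ⟨n, ρ, σ, τ, hρs, hσs, ?_, hτX⟩
  refine key _ _ (fun r => ?_) (fun i => ?_) fun i => ?_
  · rw [RingHom.comp_apply, RingHom.comp_apply, hτC, hρC]
    exact RingHom.congr_fun hh r
  · rw [RingHom.comp_apply, RingHom.comp_apply, hτX, hσX, hρX]
    exact Fin.append_left _ _ i
  · rw [RingHom.comp_apply, hτX, hσX]
    exact hcm _

/-- Presentation of a local homomorphism over chosen coefficient rings. -/
theorem exists_presentation {A B : Type u} [CommRing A] [CommRing B] [IsLocalRing A] [IsLocalRing B]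
    [IsNoetherianRing A] [IsNoetherianRing B] [IsAdicComplete (maximalIdeal A) A]
    [IsAdicComplete (maximalIdeal B) B] [Algebra A B] [IsLocalHom (algebraMap A B)]
    {Λ' : Type u} [CommRing Λ'] [IsLocalRing Λ] [IsNoetherianRing Λ]
    [IsLocalRing Λ'] [IsNoetherianRing Λ'] [IsAdicComplete (maximalIdeal Λ') Λ'] {e : ℕ}
    (he : (e : WithBot ℕ∞) ≤ ringKrullDim Λ) (he' : (e : WithBot ℕ∞) ≤ ringKrullDim Λ') (q : ℕ)
    (hq : maximalIdeal Λ = Ideal.span {(q : Λ)}) (hq' : maximalIdeal Λ' = Ideal.span {(q : Λ')})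
    (hq0 : e = 0 → (q : Λ) = 0) (hq0' : e = 0 → (q : Λ') = 0)
    (g : Λ →+* A) (hg : Function.Surjective ((residue A).comp g))
    (g' : Λ' →+* B) (hg' : Function.Surjective ((residue B).comp g'))
    (hlift : ∀ (m : ℕ) [IsLocalRing (MvPowerSeries (Fin m) Λ')], Lifts Λ (MvPowerSeries (Fin m) Λ')) :
    ∃ (n m : ℕ) (ρ : MvPowerSeries (Fin n) Λ →+* A) (σ : MvPowerSeries (Fin m) Λ' →+* B)
      (τ : MvPowerSeries (Fin n) Λ →+* MvPowerSeries (Fin m) Λ'),
      Function.Surjective ρ ∧ Function.Surjective σ ∧ σ.comp τ = (algebraMap A B).comp ρ ∧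
        τ.Flat ∧ IsRegularRing (MvPowerSeries (Fin m) Λ' ⧸
          (maximalIdeal (MvPowerSeries (Fin n) Λ)).map τ) := by
  classical
  obtain ⟨l, b, hb⟩ := Submodule.fg_iff_exists_fin_generating_family.mp
    (IsNoetherian.noetherian (maximalIdeal B))
  obtain ⟨n, ρ, σ, τ, hρ, hσ, hc, hτ⟩ :=
    exists_presentation_of_gens (A := A) he he' q hq hq' hq0 hq0' g hg g' hg' hlift b hb
  exact ⟨n, n + l, ρ, σ, τ, hρ, hσ, hc, flat_and_regular he he' q hq hq' hq0 hq0' τ hτ⟩

end Groth.Agent.Nagata.CohenMap
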