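import Mathlib
import Groth.Agent.S0573

set_option autoImplicit false
universe u
open CategoryTheory AlgebraicGeometry

/-!
# Finiteness of relative normalization over a Nagata base
-/

namespace Groth.Agent.Nagata.NormalizationFinite

/-- The closure of a Nagata ring `A` in a field essentially of finite type over `A` is finite. -/
theorem finite_integralClosure_field {A F : Type u} [CommRing A] [Field F] [Algebra A F]
    [Algebra.EssFiniteType A F] (hA : CAlg.IsNagata A) :
    Module.Finite A (integralClosure A F) := by
  classical
  let p := RingHom.ker (algebraMap A F)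
  have : p.IsPrime := RingHom.ker_isPrime _
  let D := A ⧸ p
  let _ : Algebra D F := (RingHom.kerLift (algebraMap A F)).toAlgebra
  have : IsScalarTower A D F := IsScalarTower.of_algebraMap_eq fun _ => rfl
  have hinj : Function.Injective (algebraMap D F) := RingHom.kerLift_injective _
  have : FaithfulSMul D F := (faithfulSMul_iff_algebraMap_injective D F).mpr hinj
  let K := FractionRing D
  let _ : Algebra K F := FractionRing.liftAlgebra D F
  have : IsScalarTower A K F := IsScalarTower.of_algebraMap_eq fun r => by
    rw [IsScalarTower.algebraMap_apply A D F, IsScalarTower.algebraMap_apply A D K,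
      ← IsScalarTower.algebraMap_apply D K F]
  have : Algebra.EssFiniteType K F := Algebra.EssFiniteType.of_comp A K F
  have hfg : (⊤ : IntermediateField K F).FG := IntermediateField.fg_top_iff.mpr inferInstance
  let k' := algebraicClosure K F
  have : FiniteDimensional K k' := S6333.result hfg
  have : IsScalarTower D k' F := IsScalarTower.of_algebraMap_eq fun _ => rfl
  have : IsScalarTower A D k' := IsScalarTower.of_algebraMap_eq fun r =>
    Subtype.ext (IsScalarTower.algebraMap_apply A D F r)
  have : Module.Finite A D :=
    Module.Finite.of_surjective (Algebra.linearMap A D) Ideal.Quotient.mk_surjective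
  have hN := Props.N2Local.finite_integralClosure (hA.2 p) K k'
  have : Module.Finite A (integralClosure D k') := Module.Finite.trans D _
  have hint : ∀ s : integralClosure A F, IsIntegral D (s : F) := fun s =>
    (s.2 : IsIntegral A (s : F)).tower_top
  have hmem : ∀ s : integralClosure A F, (s : F) ∈ k' := fun s =>
    mem_algebraicClosure_iff'.mpr (hint s).tower_top
  have hmem2 : ∀ s : integralClosure A F, (⟨(s : F), hmem s⟩ : k') ∈ integralClosure D k' := fun s =>
    (isIntegral_algebraMap_iff (algebraMap k' F).injective).mp (hint s)
  let g : integralClosure A F →ₗ[A] integralClosure D k' :=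
    { toFun := fun s => ⟨⟨(s : F), hmem s⟩, hmem2 s⟩
      map_add' := fun _ _ => rfl
      map_smul' := fun r a => Subtype.ext (Subtype.ext rfl) }
  have := hA.1
  have : IsNoetherian A (integralClosure D k') := isNoetherian_of_isNoetherianRing_of_finite A _
  exact Module.Finite.of_injective g fun a b h => Subtype.ext
    (congrArg (fun t : integralClosure D k' => ((t : k') : F)) h)

/-- If an algebra embeds into finitely many algebras in which the closure of a Noetherian ring is
finite, the closure of the ring in it is finite. -/
theorem finite_integralClosure_of_pi {A B : Type u} [CommRing A] [IsNoetherianRing A] [CommRing B]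
    [Algebra A B] {ι : Type*} [Finite ι] (C : ι → Type u) [∀ i, CommRing (C i)]
    [∀ i, Algebra A (C i)] (φ : ∀ i, B →ₐ[A] C i)
    (hC : ∀ i, Module.Finite A (integralClosure A (C i)))
    (h : ∀ b, (∀ i, φ i b = 0) → b = 0) : Module.Finite A (integralClosure A B) := by
  let g : integralClosure A B →ₗ[A] ∀ i, integralClosure A (C i) :=
    LinearMap.pi fun i =>
      { toFun := fun b => ⟨φ i b, (b.2 : IsIntegral A (b : B)).map (φ i)⟩
        map_add' := fun a b => Subtype.ext (map_add (φ i) (a : B) (b : B))
        map_smul' := fun r a => Subtype.ext (map_smul (φ i) r (a : B)) }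
  have : IsNoetherian A (∀ i, integralClosure A (C i)) :=
    isNoetherian_of_isNoetherianRing_of_finite A _
  refine Module.Finite.of_injective g fun a b hab => Subtype.ext (sub_eq_zero.mp (h _ fun i => ?_))
  rw [map_sub, sub_eq_zero]
  exact congrArg Subtype.val (congrFun hab i)

/-- Relative normalization is finite when the closure over each affine open is. -/
theorem isFinite_fromNormalization {X S : Scheme.{u}} (f : X ⟶ S) [QuasiCompact f] [QuasiSeparated f]
    (h : ∀ U : S.Opens, IsAffineOpen U →
      letI := (f.app U).hom.toAlgebra
      Module.Finite Γ(S, U) (integralClosure Γ(S, U) Γ(X, f ⁻¹ᵁ U))) :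
    IsFinite f.fromNormalization := by
  refine ⟨fun U hU => ?_⟩
  letI := (f.app U).hom.toAlgebra
  have := h U hU
  rw [Scheme.Hom.fromNormalization_app f hU, CommRingCat.hom_comp, CommRingCat.hom_ofHom]
  refine RingHom.Finite.comp ?_ (RingHom.finite_algebraMap.mpr this)
  exact RingHom.Finite.of_surjective _
    (f.normalizationObjIso hU).commRingCatIsoToRingEquiv.symm.surjective

end Groth.Agent.Nagata.NormalizationFinite
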