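import Groth.Agent.Nagata.TwoOpen
import Groth.Agent.Chow.Base
import Groth.Agent.FlatMor.SchDom

/-!
# Nagata compactification
-/

set_option autoImplicit false
set_option maxHeartbeats 1000000
set_option backward.isDefEq.respectTransparency false
set_option backward.defeqAttrib.useBackward true

universe u

namespace Groth.Agent.Nagata

open AlgebraicGeometry CategoryTheory Limits TopologicalSpace

variable {S : Scheme.{u}} [CompactSpace S] [QuasiSeparatedSpace S]

/-- `X` has a compactification over `S`. -/
def HasCompactification {X S : Scheme.{u}} (f : X ⟶ S) : Prop :=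
  ∃ (Y : Scheme.{u}) (j : X ⟶ Y) (p : Y ⟶ S),
    IsOpenImmersion j ∧ QuasiCompact j ∧ IsProper p ∧ j ≫ p = f

omit [CompactSpace S] [QuasiSeparatedSpace S] in
lemma HasCompactification.of_iso {X X' : Scheme.{u}} {f : X ⟶ S} (e : X' ≅ X) (f' : X' ⟶ S)
    (hf : e.hom ≫ f = f') (h : HasCompactification f) : HasCompactification f' := by
  obtain ⟨Y, j, p, hj, hjc, hp, rfl⟩ := h
  exact ⟨Y, e.hom ≫ j, p, inferInstance, inferInstance, hp, by rw [Category.assoc, hf]⟩

/-- An affine scheme of finite type over an affine open of `S` has a compactification. -/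
theorem hasCompactification_affine {U : Scheme.{u}} [IsAffine U] {V : S.Opens}
    (hV : IsAffineOpen V) (g : U ⟶ V.toScheme) [LocallyOfFiniteType g] :
    HasCompactification (g ≫ V.ι) := by
  obtain ⟨n, Ω, j, -, hj, hjb⟩ := Chow.exists_affine_chart S hV g
  have := ProjProper.Basic.isProper_toBase (n + 1) S
  let h : U ⟶ CohB1.ProjSpaceOver (n + 1) S := j ≫ Ω.ι
  have : QuasiSeparatedSpace (CohB1.ProjSpaceOver (n + 1) S) :=
    quasiSeparatedSpace_of_quasiSeparated (CohB1.ProjSpaceOver.toBase (n + 1) S)
  have : CompactSpace U := inferInstance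
  have : QuasiCompact h := QuasiCompact.of_comp _ (terminal.from _)
  have : IsImmersion h := inferInstance
  refine ⟨h.image, h.toImage, h.imageι ≫ CohB1.ProjSpaceOver.toBase (n + 1) S,
    Groth.Agent.FlatMor.SchDom.isOpenImmersion_toImage' h (Or.inl inferInstance), ?_, inferInstance, ?_⟩
  · have : QuasiCompact (h.toImage ≫ h.imageι) := by
      rw [Scheme.Hom.toImage_imageι]; infer_instance
    exact QuasiCompact.of_comp _ h.imageι
  · rw [← Category.assoc, Scheme.Hom.toImage_imageι, Category.assoc, hjb]

/-- **Nagata compactification.** -/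
theorem hasCompactification {X : Scheme.{u}} (f : X ⟶ S) [IsSeparated f] [QuasiCompact f]
    [LocallyOfFiniteType f] : HasCompactification f := by
  classical
  have : CompactSpace X := QuasiCompact.compactSpace_of_compactSpace f
  have : QuasiSeparatedSpace X := quasiSeparatedSpace_of_quasiSeparated f
  have hpair : ∀ x : X, ∃ (U : X.Opens) (V : S.Opens), IsAffineOpen U ∧ IsAffineOpen V ∧
      U ≤ f ⁻¹ᵁ V ∧ x ∈ U := by
    intro x
    obtain ⟨V, hx, -⟩ := IdealSh.Comap.exists_affine_le (f x) ⊤ trivial
    obtain ⟨U, hxU, hU⟩ := IdealSh.Comap.exists_affine_le x (f ⁻¹ᵁ V.1) hx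
    exact ⟨U.1, V.1, U.2, V.2, hU, hxU⟩
  choose U V hU hV hUV hxU using hpair
  obtain ⟨t, ht⟩ := isCompact_univ.elim_finite_subcover (fun x => (U x : Set X))
    (fun x => (U x).2) (fun x _ => Set.mem_iUnion.mpr ⟨x, hxU x⟩)
  have hsmall : ∀ x, HasCompactification ((U x).ι ≫ f) := fun x => by
    have : IsAffine (U x).toScheme := hU x
    have h := hasCompactification_affine (hV x) (f.resLE (V x) (U x) (hUV x))
    rwa [Scheme.Hom.resLE_comp_ι] at h
  have key : ∀ s : Finset X, s.Nonempty → IsCompact ((s.sup U : X.Opens) : Set X) ∧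
      HasCompactification ((s.sup U : X.Opens).ι ≫ f) := by
    intro s hs
    induction hs using Finset.Nonempty.cons_induction with
    | singleton a => rw [Finset.sup_singleton]; exact ⟨(hU a).isCompact, hsmall a⟩
    | cons a s ha hs ih =>
      rw [Finset.sup_cons]
      obtain ⟨hc, hA⟩ := ih
      set A := s.sup U
      let T : X.Opens := U a ⊔ A
      have hTc : IsCompact (T : Set X) := by
        rw [Opens.coe_sup]; exact (hU a).isCompact.union hc
      refine ⟨hTc, ?_⟩
      have : CompactSpace T.toScheme := isCompact_iff_compactSpace.mp hTc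
      have : QuasiCompact (T.ι ≫ f) := QuasiCompact.of_comp _ (terminal.from S)
      let W : Fin 2 → X.Opens := Fin.cases (U a) (Fin.cases A fun k => k.elim0)
      have hW : ∀ i, IsCompact (W i : Set X) ∧ HasCompactification ((W i).ι ≫ f) := by
        intro i; fin_cases i
        exacts [⟨(hU a).isCompact, hsmall a⟩, ⟨hc, hA⟩]
      have hWT : ∀ i, W i ≤ T := by
        intro i; fin_cases i
        exacts [le_sup_left, le_sup_right]
      have himg : ∀ i, T.ι '' (T.ι ⁻¹ᵁ W i : Set T.toScheme) = (W i : Set X) := fun i =>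
        Set.image_preimage_eq_of_subset (by rw [Scheme.Opens.range_ι]; exact hWT i)
      refine exists_compactification_two (T.ι ≫ f) (fun i => T.ι ⁻¹ᵁ W i) (fun i => ?_) ?_
        fun i => ?_
      · rw [T.ι.isOpenEmbedding.isEmbedding.isCompact_iff, himg]
        exact (hW i).1
      · refine top_le_iff.mp fun y _ => ?_
        rcases Opens.mem_sup.mp (y.2 : T.ι y ∈ U a ⊔ A) with h | h
        exacts [Opens.mem_sup.mpr (.inl h), Opens.mem_sup.mpr (.inr h)]
      · let e := IsOpenImmersion.isoOfRangeEq ((T.ι ⁻¹ᵁ W i).ι ≫ T.ι) (W i).ι (by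
          rw [Scheme.Hom.comp_base, TopCat.coe_comp, Set.range_comp, Scheme.Opens.range_ι,
            Scheme.Opens.range_ι]
          exact himg i)
        refine (hW i).2.of_iso e _ ?_
        simp [e]
  rcases t.eq_empty_or_nonempty with rfl | hne
  · have : IsEmpty X := ⟨fun x => by simpa using ht (Set.mem_univ x)⟩
    refine ⟨X, 𝟙 X, f, inferInstance, inferInstance, ?_, Category.id_comp f⟩
    have : UniversallyClosed f := by
      constructor
      intro X' Y' i₁ i₂ f' H C' _
      have : IsEmpty X' := Function.isEmpty (fun x => i₁ x)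
      rw [Set.eq_empty_of_isEmpty C', Set.image_empty]
      exact isClosed_empty
    exact ⟨⟩
  · obtain ⟨-, h⟩ := key t hne
    have htop : (t.sup U : X.Opens) = ⊤ := top_le_iff.mp fun x _ => by
      obtain ⟨a, ha, hxa⟩ := Set.mem_iUnion₂.mp (ht (Set.mem_univ x))
      exact SetLike.le_def.mp (Finset.le_sup ha) hxa
    have : IsIso (t.sup U).ι := by
      rw [htop]
      exact inferInstanceAs (IsIso (Scheme.topIso X).hom)
    exact h.of_iso (asIso (t.sup U).ι).symm f (by simp)

end Groth.Agent.Nagata
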