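import Groth.Agent.Nagata.Criteria
import Groth.Agent.EGA4Lib.GenericRegular
import Groth.Agent.CycCover.Regular
import Groth.Agent.S9829

/-!
J-2 and the Nagata property.
-/

namespace Groth.Agent.Nagata.QuasiExcellent

universe u

/-- A J-2 ring is Nagata as soon as it is locally so. -/
theorem isNagata_of_isJ2 (A : Type u) [CommRing A] [IsNoetherianRing A]
    (hloc : ∀ (m : Ideal A) [m.IsMaximal], CAlg.IsNagata (Localization.AtPrime m)) (hJ : EGA4.IsJ2 A) :
    CAlg.IsNagata A := by
  classical
  refine Criteria.isNagata_of_local A hloc fun p _ K' _ _ _ _ _ _ B' hfin _ => ?_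
  let _ : Algebra A B' := ((algebraMap (A ⧸ p) B').comp (Ideal.Quotient.mk p)).toAlgebra
  have : IsScalarTower A (A ⧸ p) B' := IsScalarTower.of_algebraMap_eq fun _ => rfl
  have : Module.Finite A B' := Module.Finite.trans (A ⧸ p) B'
  have hopen := hJ B' inferInstance
  let g : PrimeSpectrum B' := ⟨⊥, Ideal.isPrime_bot⟩
  have hg : g ∈ EGA4.regLocus B' := by
    change IsRegularLocalRing (Localization.AtPrime (⊥ : Ideal B'))
    have : IsNoetherianRing B' := IsNoetherianRing.of_finite A B'
    have hmax : IsLocalRing.maximalIdeal (Localization.AtPrime (⊥ : Ideal B')) = ⊥ := by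
      rw [← Localization.AtPrime.map_eq_maximalIdeal, Ideal.map_bot]
    refine IsRegularLocalRing.of_spanFinrank_maximalIdeal_le _ ?_
    rw [hmax, Submodule.spanFinrank_bot]
    exact ringKrullDim_nonneg_of_nontrivial
  obtain ⟨_, ⟨f, rfl⟩, hgf, hsub⟩ :=
    PrimeSpectrum.isTopologicalBasis_basic_opens.exists_subset_of_mem_open hg hopen
  have hf : f ≠ 0 := fun h => hgf (h ▸ Submodule.zero_mem _)
  refine ⟨f, hf, ?_⟩
  have : IsDomain (Localization.Away f) := IsLocalization.isDomain_of_le_nonZeroDivisors (R := B') (S := Localization.Away f)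
    (powers_le_nonZeroDivisors_of_noZeroDivisors hf)
  refine IsIntegrallyClosed.of_localization_maximal fun Q _ _ => ?_
  have : IsRegularLocalRing (Localization.AtPrime Q) := by
    refine (EGA4Lib.mem_regLocus_away f ⟨Q, inferInstance⟩).mpr (hsub ?_)
    intro h
    exact (inferInstance : Q.IsPrime).ne_top
      (Ideal.eq_top_of_isUnit_mem _ h (IsLocalization.Away.algebraMap_isUnit f))
  exact S9829.result _

/-- G-rings have reduced finite base changes of their formal fibres. -/
theorem isNagata_localization_of_isGRing (A : Type u) [CommRing A] (hA : CAlg.IsGRing A) (m : Ideal A)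
    [m.IsPrime] : CAlg.IsNagata (Localization.AtPrime m) := by
  have := hA.1
  refine Criteria.isNagata_of_isReduced_tensor _ fun S _ _ _ _ => ?_
  refine FormalFibres.isReduced_tensor_of_fibres (fun p _ L _ _ hL => ?_) S
  have : IsRegularRing (TensorProduct p.ResidueField L (EGA4.formalFibre (Localization.AtPrime m) p)) :=
    ((hA.2 m).2 p).2 L hL
  exact CycCover.isReduced_of_isRegularRing (R := TensorProduct p.ResidueField L (EGA4.formalFibre (Localization.AtPrime m) p))

end Groth.Agent.Nagata.QuasiExcellent
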