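import Groth.Agent.Nagata.Main

/-!
# Compactifications with effective Cartier boundary
-/

set_option autoImplicit false
set_option backward.isDefEq.respectTransparency false
set_option backward.defeqAttrib.useBackward true

universe u

namespace Groth.Agent.Nagata

open AlgebraicGeometry CategoryTheory Limits TopologicalSpace

/-- Over a qcqs base, a separated morphism of finite type has a compactification whose boundary is
the support of an effective Cartier divisor, and in which it is scheme-theoretically dense. -/
theorem exists_compactification_boundary {X S : Scheme.{u}} [CompactSpace S] [QuasiSeparatedSpace S]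
    (f : X ⟶ S) [IsSeparated f] [QuasiCompact f] [LocallyOfFiniteType f] :
    ∃ (Y : Scheme.{u}) (j : X ⟶ Y) (p : Y ⟶ S) (E : Y.IdealSheafData),
      IsOpenImmersion j ∧ QuasiCompact j ∧ IsSchemeTheoreticallyDominant j ∧ IsProper p ∧ j ≫ p = f ∧
      BlowUp.IsEffCartierIdeal E ∧ (E.support : Set Y) = (Set.range j.base)ᶜ := by
  obtain ⟨Y₀, j₀, p₀, hj₀, hjc₀, hp₀, hf⟩ := hasCompactification f
  have : CompactSpace Y₀ := QuasiCompact.compactSpace_of_compactSpace p₀
  have : QuasiSeparatedSpace Y₀ := quasiSeparatedSpace_of_quasiSeparated p₀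
  have : CompactSpace X := QuasiCompact.compactSpace_of_compactSpace f
  obtain ⟨H, hH, hHs⟩ := QDom.Global.exists_support_eq_compl (V := j₀.opensRange)
    (isCompact_range j₀.continuous)
  obtain ⟨Y, c, hc⟩ := BlowUp.Glue.exists_isBlowUp Y₀ H
  have : IsProper c := BlowUpProper.Basic.isProper hc hH
  have : CompactSpace Y := QuasiCompact.compactSpace_of_compactSpace c
  have : QuasiSeparatedSpace Y := quasiSeparatedSpace_of_quasiSeparated c
  obtain ⟨j, hjc, hjo, hjqc, hjr, hjd⟩ :=
    exists_lift j₀ hc (by rw [hHs]; exact disjoint_compl_left)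
  refine ⟨Y, j, c ≫ p₀, H.comap c, hjo, hjqc, hjd hHs, inferInstance,
    by rw [← Category.assoc, hjc, hf], hc.1, ?_⟩
  rw [Scheme.IdealSheafData.support_comap]
  show (fun y => c y) ⁻¹' (H.support : Set Y₀) = (Set.range j)ᶜ
  rw [hHs, hjr, Set.preimage_compl]
  rfl

end Groth.Agent.Nagata
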