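import Groth.Prelude.Def_Found
import Groth.Prelude.Def_EGA4b
import Groth.Agent.Nagata.AnalUnramN1
import Groth.Agent.Nagata.FiniteType
import Mathlib

/-!
Nagata property from reducedness of completed finite domains / formal fibres.
-/

namespace Groth.Agent.Nagata.FormalFibres

universe u

open IsLocalRing TensorProduct

/-- A Noetherian domain with a faithfully flat reduced Nagata algebra is N-1. -/
theorem isN1_of_faithfullyFlat (R : Type u) [CommRing R] [IsDomain R] [IsNoetherianRing R]
    (Rh : Type u) [CommRing Rh] [Algebra R Rh] [Module.FaithfullyFlat R Rh] [IsReduced Rh]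
    (hN : CAlg.IsNagata Rh) (K : Type u) [Field K] [Algebra R K] [IsFractionRing R K] :
    Module.Finite R (integralClosure R K) := by
  classical
  have := hN.1
  have hB := RedNorm.finite_integralClosure_of_isNagata Rh hN
  let Q := FractionRing Rh
  have hunit : ∀ d : nonZeroDivisors R, IsUnit (algebraMap R Q d) := fun d => by
    rw [IsScalarTower.algebraMap_apply R Rh Q]
    refine IsLocalization.map_units Q (⟨algebraMap R Rh d, ?_⟩ : nonZeroDivisors Rh)
    rw [mem_nonZeroDivisors_iff_right]
    intro x hx
    apply Module.Flat.isSMulRegular_of_nonZeroDivisors (M := Rh) d.2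
    simp only [Algebra.smul_def, mul_zero]
    rw [mul_comm]
    exact hx
  let ψ : K →ₐ[R] Q :=
    { IsLocalization.lift (M := nonZeroDivisors R) (S := K) (g := algebraMap R Q) hunit with
      commutes' := fun r => IsLocalization.lift_eq hunit r }
  let Φ : Rh ⊗[R] K →ₐ[Rh] Q :=
    Algebra.TensorProduct.lift (Algebra.ofId Rh Q) ψ fun _ _ => Commute.all _ _
  have hrep : ∀ w : Rh ⊗[R] K, ∃ (a : Rh) (d : nonZeroDivisors R),
      w = a ⊗ₜ IsLocalization.mk' K 1 d := by
    intro w
    induction w using TensorProduct.induction_on with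
    | zero => exact ⟨0, 1, by simp⟩
    | tmul b x =>
      obtain ⟨n, d, rfl⟩ := IsLocalization.exists_mk'_eq (nonZeroDivisors R) x
      exact ⟨n • b, d, by rw [TensorProduct.smul_tmul, IsLocalization.smul_mk', mul_one]⟩
    | add u v hu hv =>
      obtain ⟨a, d, rfl⟩ := hu
      obtain ⟨b, e, rfl⟩ := hv
      refine ⟨(e : R) • a + (d : R) • b, d * e, ?_⟩
      rw [TensorProduct.add_tmul, TensorProduct.smul_tmul, TensorProduct.smul_tmul,
        IsLocalization.smul_mk', IsLocalization.smul_mk', mul_one, mul_one]
      congr 2
      · exact IsLocalization.mk'_eq_of_eq (by simp [mul_comm])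
      · exact IsLocalization.mk'_eq_of_eq (by simp [mul_comm])
  have hΦ : Function.Injective Φ := by
    rw [injective_iff_map_eq_zero]
    intro w hw
    obtain ⟨a, d, rfl⟩ := hrep w
    rw [Algebra.TensorProduct.lift_tmul] at hw
    have hu : IsUnit (ψ (IsLocalization.mk' K 1 d)) := by
      refine (IsUnit.mk0 _ fun h => ?_).map ψ
      rw [IsLocalization.mk'_eq_zero_iff] at h
      obtain ⟨m, hm⟩ := h
      rw [mul_one] at hm
      exact nonZeroDivisors.ne_zero m.2 hm
    have ha : algebraMap Rh Q a = 0 := (hu.mul_left_eq_zero).mp hw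
    rw [IsFractionRing.injective Rh Q (ha.trans (map_zero _).symm), TensorProduct.zero_tmul]
  let C := integralClosure R K
  let Ψ : Rh ⊗[R] C →ₐ[Rh] Q := Φ.comp (Algebra.TensorProduct.map (AlgHom.id Rh Rh) C.val)
  have hΨ : Function.Injective Ψ :=
    hΦ.comp (Module.Flat.lTensor_preserves_injective_linearMap (M := Rh) C.val.toLinearMap
      Subtype.val_injective)
  have hmem : ∀ w, Ψ w ∈ integralClosure Rh Q := by
    intro w
    induction w using TensorProduct.induction_on with
    | zero => rw [map_zero]; exact Subalgebra.zero_mem _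
    | add u v hu hv => rw [map_add]; exact Subalgebra.add_mem _ hu hv
    | tmul b c =>
      have hb : Ψ (b ⊗ₜ c) = algebraMap Rh Q b * ψ (c : K) :=
        Algebra.TensorProduct.lift_tmul (Algebra.ofId Rh Q) ψ (fun _ _ => Commute.all _ _) b (c : K)
      rw [hb]
      exact Subalgebra.mul_mem _ (Subalgebra.algebraMap_mem _ _)
        ((c.2 : IsIntegral R (c : K)).map ψ).tower_top
  have : IsNoetherian Rh (integralClosure Rh Q) := isNoetherian_of_isNoetherianRing_of_finite Rh _
  let L : Rh ⊗[R] C →ₗ[Rh] integralClosure Rh Q :=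
    LinearMap.codRestrict (Subalgebra.toSubmodule (integralClosure Rh Q)) Ψ.toLinearMap hmem
  have : Module.Finite Rh (Rh ⊗[R] C) :=
    Module.Finite.of_injective L fun a b h => hΨ (congrArg Subtype.val h)
  exact Module.Finite.of_finite_tensorProduct_of_faithfullyFlat Rh


variable {R : Type u} [CommRing R] [IsLocalRing R] [IsNoetherianRing R]

/-- A finite domain over a local ring with reduced completion is N-1. -/
theorem isN1_of_isReduced_tensor (S : Type u) [CommRing S] [IsDomain S] [Algebra R S] [Module.Finite R S]
    [IsReduced (S ⊗[R] AdicCompletion (maximalIdeal R) R)] (K : Type u) [Field K] [Algebra S K]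
    [IsFractionRing S K] : Module.Finite S (integralClosure S K) := by
  let Rh := AdicCompletion (maximalIdeal R) R
  have : IsNoetherianRing Rh :=
    RegLoc.AdicNoeth.isNoetherianRing_adicCompletion _ (IsNoetherian.noetherian _)
  have : IsNoetherianRing S := IsNoetherianRing.of_finite R S
  have hN : CAlg.IsNagata Rh := CompleteLocal.isNagata Rh
  have hT : CAlg.IsNagata (Rh ⊗[R] S) := FiniteType.isNagata_of_finite Rh _ hN
  have hT' : CAlg.IsNagata (S ⊗[R] Rh) := FiniteType.isNagata_of_surjective
    (Algebra.TensorProduct.comm R Rh S).toRingEquiv.toRingHom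
    (Algebra.TensorProduct.comm R Rh S).surjective hT
  have : Module.FaithfullyFlat R Rh := Module.FaithfullyFlat.of_flat_of_isLocalHom
  exact isN1_of_faithfullyFlat S (S ⊗[R] Rh) hT' K

/-- Reduced finite base changes of the formal fibres make completions of finite domains reduced. -/
theorem isReduced_tensor_of_fibres
    (hR : ∀ (p : Ideal R) [p.IsPrime] (L : Type u) [Field L] [Algebra p.ResidueField L],
      Module.Finite p.ResidueField L → IsReduced (L ⊗[p.ResidueField] EGA4.formalFibre R p))
    (S : Type u) [CommRing S] [IsDomain S] [Algebra R S] [Module.Finite R S] :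
    IsReduced (S ⊗[R] AdicCompletion (maximalIdeal R) R) := by
  let Rh := AdicCompletion (maximalIdeal R) R
  let p := RingHom.ker (algebraMap R S)
  have : p.IsPrime := RingHom.ker_isPrime _
  let L := FractionRing S
  let κ := p.ResidueField
  have hker : RingHom.ker (algebraMap R L) = p := by
    ext r
    rw [RingHom.mem_ker, RingHom.mem_ker, IsScalarTower.algebraMap_apply R S L,
      map_eq_zero_iff _ (IsFractionRing.injective S L)]
  let φ : κ →ₐ[R] L := Ideal.ResidueField.liftₐ p (Algebra.ofId R L) hker.ge (fun r hr =>
    IsUnit.mk0 _ fun h => hr (hker.le (RingHom.mem_ker.mpr h)))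
  let _ : Algebra κ L := φ.toRingHom.toAlgebra
  have : IsScalarTower R κ L := IsScalarTower.of_algebraMap_eq fun r => (φ.commutes r).symm
  have : FiniteDimensional κ L := finiteDimensional_fractionRing R S κ L
  have : IsReduced (L ⊗[κ] (κ ⊗[R] Rh)) := hR p L inferInstance
  have : IsReduced (L ⊗[R] Rh) :=
    isReduced_of_injective (Algebra.TensorProduct.cancelBaseChange R κ L L Rh).symm
      (Algebra.TensorProduct.cancelBaseChange R κ L L Rh).symm.injective
  exact isReduced_of_injective
    (Algebra.TensorProduct.map (IsScalarTower.toAlgHom R S L) (AlgHom.id R Rh))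
    (Module.Flat.rTensor_preserves_injective_linearMap (M := Rh)
      (IsScalarTower.toAlgHom R S L).toLinearMap (IsFractionRing.injective S L))

theorem fibres_of_geomReduced (hR : EGA4.HasGeomReducedFormalFibres R) (p : Ideal R) [p.IsPrime]
    (L : Type u) [Field L] [Algebra p.ResidueField L] (_ : Module.Finite p.ResidueField L) :
    IsReduced (L ⊗[p.ResidueField] EGA4.formalFibre R p) :=
  have := hR p
  inferInstance

end Groth.Agent.Nagata.FormalFibres
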