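import Groth.Prelude.Def_Found
import Groth.Prelude.Def_EGA4b
import Groth.Agent.Nagata.FormalFibres
import Mathlib

/-!
Criteria for the Nagata property.
-/

namespace Groth.Agent.Nagata.Criteria

universe u

open IsLocalRing Props.N2Local IntermediateField

set_option linter.style.haveILetI false

/-- A Noetherian domain is N-2 as soon as its integral closure in every finite purely inseparable
extension of the fraction field is finite. -/
theorem isN2_of_purelyInseparable (R : Type u) [CommRing R] [IsDomain R] [IsNoetherianRing R]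
    (h : ∀ (M : Type u) [Field M] [Algebra R M] [Algebra (FractionRing R) M]
      [IsScalarTower R (FractionRing R) M] [FiniteDimensional (FractionRing R) M]
      [IsPurelyInseparable (FractionRing R) M], Module.Finite R (integralClosure R M)) :
    CAlg.IsN2 R := by
  intro L _ _ _ _ hfin
  haveI := hfin
  let K := FractionRing R
  -- pass to the normal closure
  let Ω := AlgebraicClosure L
  let N : IntermediateField K Ω := IntermediateField.normalClosure K L Ω
  haveI : FiniteDimensional K N := normalClosure.is_finiteDimensional K L Ω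
  haveI : Normal K N := normalClosure.normal K L Ω
  let M : IntermediateField K N := IntermediateField.fixedField (⊤ : Subgroup Gal(N/K))
  haveI : IsGalois M N := IsGalois.of_fixed_field N (⊤ : Subgroup Gal(N/K))
  haveI : IsPurelyInseparable K M := by
    classical
    rw [isPurelyInseparable_iff_natSepDegree_eq_one]
    intro x
    have halg : IsAlgebraic K (x : N) := Algebra.IsAlgebraic.isAlgebraic _
    have hmin : minpoly K x = minpoly K (x : N) :=
      (minpoly.algebraMap_eq (algebraMap M N).injective x).symm
    rw [hmin, Polynomial.natSepDegree_eq_of_splits _ (Normal.splits (inferInstance : Normal K N) (x : N))]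
    have hroots : ((minpoly K (x : N)).aroots N).toFinset = {(x : N)} := by
      ext y
      rw [Multiset.mem_toFinset, Polynomial.mem_aroots, Finset.mem_singleton]
      constructor
      · rintro ⟨_, hy⟩
        obtain ⟨σ, hσ⟩ := minpoly.exists_algEquiv_of_root halg hy
        have hfix := (IntermediateField.mem_fixedField_iff _ _).mp x.2 σ.symm (Subgroup.mem_top _)
        rw [← hfix, ← hσ, AlgEquiv.symm_apply_apply]
      · rintro rfl
        exact ⟨minpoly.ne_zero halg.isIntegral, minpoly.aeval K _⟩
    rw [hroots, Finset.card_singleton]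
  haveI : FiniteDimensional K M := inferInstance
  haveI hR1 : Module.Finite R (integralClosure R M) := h M
  haveI : IsScalarTower R M N := IsScalarTower.of_algebraMap_eq fun r => rfl
  haveI : Module.Finite R (integralClosure R N) :=
    finite_integralClosure_separable (K := K) (M := M)
  exact finite_integralClosure_of_algHom
    ((Algebra.IsAlgebraic.isAlgebraic (R := K) (A := L) |> fun _ =>
      (IntermediateField.inclusion (IsScalarTower.toAlgHom K L Ω).fieldRange_le_normalClosure).comp
        (AlgEquiv.ofInjectiveField (IsScalarTower.toAlgHom K L Ω)).toAlgHom).restrictScalars R)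
    (RingHom.injective _)


/-- It suffices to show that finite radicial subalgebras of purely inseparable extensions are N-1. -/
theorem isN2_of_forall_isN1 (B : Type u) [CommRing B] [IsDomain B] [IsNoetherianRing B]
    (h : ∀ (M : Type u) [Field M] [Algebra B M] [Algebra (FractionRing B) M]
      [IsScalarTower B (FractionRing B) M] [FiniteDimensional (FractionRing B) M]
      [IsPurelyInseparable (FractionRing B) M] (B' : Subalgebra B M) (q : ℕ), 0 < q →
      Module.Finite B B' → IsFractionRing B' M →
      (∀ z ∈ B', z ^ q ∈ Set.range (algebraMap B M)) → CAlg.IsN1 B') : CAlg.IsN2 B := by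
  classical
  refine isN2_of_purelyInseparable B ?_
  intro M _ _ _ _ _ _
  let K := FractionRing B
  obtain ⟨p, hp⟩ := ExpChar.exists K
  haveI : ExpChar M p := expChar_of_injective_algebraMap (algebraMap K M).injective p
  set q := p ^ IsPurelyInseparable.exponent K M with hq
  have hq0 : 0 < q := pow_pos (expChar_pos K p) _
  let P : Subalgebra B M :=
    { carrier := {z | z ^ q ∈ Set.range (algebraMap B M)}
      mul_mem' := by
        rintro a b ⟨a', ha⟩ ⟨b', hb⟩
        exact ⟨a' * b', by rw [map_mul, mul_pow, ha, hb]⟩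
      add_mem' := by
        rintro a b ⟨a', ha⟩ ⟨b', hb⟩
        exact ⟨a' + b', by rw [map_add, ha, hb, hq, add_pow_expChar_pow]⟩
      algebraMap_mem' := fun c => ⟨c ^ q, map_pow _ _ _⟩ }
  have hinjBM : Function.Injective (algebraMap B M) := by
    rw [IsScalarTower.algebraMap_eq B K M]
    exact (algebraMap K M).injective.comp (IsFractionRing.injective B K)
  have hgen : ∀ g : M, ∃ b : B, b ≠ 0 ∧ algebraMap B M b * g ∈ P := by
    intro g
    obtain ⟨x, hx⟩ := IsPurelyInseparable.exponent_def' K p g
    obtain ⟨a, b, hb, rfl⟩ := IsFractionRing.div_surjective B x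
    refine ⟨b, nonZeroDivisors.ne_zero hb, a * b ^ (q - 1), ?_⟩
    have hb0 : algebraMap B M b ≠ 0 := (map_ne_zero_iff _ hinjBM).mpr (nonZeroDivisors.ne_zero hb)
    have hx' : g ^ q = algebraMap K M (algebraMap B K a / algebraMap B K b) := by rw [hq, hx]
    rw [mul_pow, hx', map_div₀, ← IsScalarTower.algebraMap_apply, ← IsScalarTower.algebraMap_apply,
      map_mul, map_pow]
    conv_rhs => rw [← Nat.sub_add_cancel (show 1 ≤ q from hq0)]
    rw [pow_succ, mul_assoc, mul_div_cancel₀ _ hb0, mul_comm]
  obtain ⟨G, hG⟩ := Module.Finite.fg_top (R := K) (M := M)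
  choose c hc hcP using hgen
  let B' : Subalgebra B M := Algebra.adjoin B ((fun g => algebraMap B M (c g) * g) '' (G : Set M))
  have hB'P : B' ≤ P := Algebra.adjoin_le (by rintro _ ⟨g, -, rfl⟩; exact hcP g)
  have hint : ∀ z ∈ B', IsIntegral B z := fun z hz => by
    obtain ⟨b, hb⟩ := hB'P hz
    exact IsIntegral.of_pow hq0 (hb ▸ isIntegral_algebraMap)
  have hfin : Module.Finite B B' := Algebra.finite_adjoin_of_finite_of_isIntegral (G.finite_toSet.image _)
    (fun z hz => hint z (Algebra.subset_adjoin hz))
  haveI : FaithfulSMul B' M := (faithfulSMul_iff_algebraMap_injective B' M).mpr Subtype.val_injective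
  have hfrac : IsFractionRing B' M := by
    refine IsFractionRing.of_field (R := B') (K := M) fun z => ?_
    suffices ∃ a d : B', (d : M) ≠ 0 ∧ z * (d : M) = a by
      obtain ⟨a, d, hd, had⟩ := this
      exact ⟨a, d, (eq_div_iff hd).mpr had⟩
    have hz : z ∈ Submodule.span K (G : Set M) := hG ▸ Submodule.mem_top
    induction hz using Submodule.span_induction with
    | mem g hg =>
      refine ⟨⟨_, Algebra.subset_adjoin ⟨g, hg, rfl⟩⟩, algebraMap B B' (c g), ?_, mul_comm _ _⟩
      exact (map_ne_zero_iff _ hinjBM).mpr (hc g)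
    | zero => exact ⟨0, 1, one_ne_zero, by simp⟩
    | add u v _ _ hu hv =>
      obtain ⟨a, d, hd, h1⟩ := hu
      obtain ⟨a', d', hd', h2⟩ := hv
      refine ⟨a * d' + a' * d, d * d', mul_ne_zero hd hd', ?_⟩
      push_cast
      rw [← h1, ← h2]
      ring
    | smul k u _ hu =>
      obtain ⟨a, d, hd, h1⟩ := hu
      obtain ⟨n, m, hm, rfl⟩ := IsFractionRing.div_surjective B k
      have hm0 : algebraMap B M m ≠ 0 := (map_ne_zero_iff _ hinjBM).mpr (nonZeroDivisors.ne_zero hm)
      refine ⟨algebraMap B B' n * a, algebraMap B B' m * d, mul_ne_zero hm0 hd, ?_⟩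
      rw [Algebra.smul_def, map_div₀, ← IsScalarTower.algebraMap_apply, ← IsScalarTower.algebraMap_apply]
      change algebraMap B M n / algebraMap B M m * u * (algebraMap B M m * (d : M)) =
        algebraMap B M n * (a : M)
      rw [mul_mul_mul_comm, div_mul_cancel₀ _ hm0, h1]
  have h1 : CAlg.IsN1 B' := h M B' q hq0 hfin hfrac (fun z hz => hB'P hz)
  haveI : Module.Finite B' (integralClosure B' M) := RegLoc.N1.finite_integralClosure_of_isN1 h1 M
  exact Nagata.finite_integralClosure_of_tower (R' := B')

/-- Finite radicial extensions of local rings are local. -/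
theorem isLocalRing_of_radicial {B S : Type u} [CommRing B] [IsLocalRing B] [CommRing S] [Nontrivial S]
    [Algebra B S] [Module.Finite B S] {q : ℕ} (hq : 0 < q)
    (h : ∀ z : S, z ^ q ∈ Set.range (algebraMap B S)) : IsLocalRing S := by
  haveI : Algebra.IsIntegral B S := Algebra.IsIntegral.of_finite B S
  have hle : ∀ M₁ M₂ : Ideal S, M₁.IsMaximal → M₂.IsMaximal → M₁ ≤ M₂ := by
    intro M₁ M₂ h1 h2 z hz
    obtain ⟨b, hb⟩ := h z
    have e1 := IsLocalRing.eq_maximalIdeal (Ideal.isMaximal_comap_of_isIntegral_of_isMaximal (R := B) M₁)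
    have e2 := IsLocalRing.eq_maximalIdeal (Ideal.isMaximal_comap_of_isIntegral_of_isMaximal (R := B) M₂)
    have hb1 : b ∈ M₁.comap (algebraMap B S) := by
      rw [Ideal.mem_comap, hb]; exact Ideal.pow_mem_of_mem _ hz q hq
    rw [e1, ← e2, Ideal.mem_comap, hb] at hb1
    exact h2.isPrime.mem_of_pow_mem q hb1
  obtain ⟨M, hM⟩ := Ideal.exists_maximal S
  exact IsLocalRing.of_unique_max_ideal ⟨M, hM, fun N hN => hN.eq_of_le hM.ne_top (hle N M hN hM)⟩

/-- Localizations of finite extensions of a locally N-2 domain are N-1. -/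
theorem isN1_localization_of_isN2 {B S : Type u} [CommRing B] [IsDomain B] [CommRing S] [IsDomain S]
    [Algebra B S] [Module.Finite B S] (hinj : Function.Injective (algebraMap B S)) (q : Ideal S) [q.IsPrime]
    (hN : CAlg.IsN2 (Localization.AtPrime (q.comap (algebraMap B S)))) :
    CAlg.IsN1 (Localization.AtPrime q) := by
  classical
  let n := q.comap (algebraMap B S)
  let Bn := Localization.AtPrime n
  let K := FractionRing B
  let L := FractionRing S
  haveI : FaithfulSMul B S := (faithfulSMul_iff_algebraMap_injective B S).mpr hinj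
  letI : Algebra K L := FractionRing.liftAlgebra B L
  haveI : FiniteDimensional K L := finiteDimensional_fractionRing B S K L
  letI : Algebra Bn K :=
    IsLocalization.localizationAlgebraOfSubmonoidLe Bn K n.primeCompl _ n.primeCompl_le_nonZeroDivisors
  haveI : IsScalarTower B Bn K :=
    IsLocalization.localization_isScalarTower_of_submonoid_le Bn K n.primeCompl _ n.primeCompl_le_nonZeroDivisors
  haveI : IsFractionRing Bn K :=
    IsFractionRing.isFractionRing_of_isDomain_of_isLocalization n.primeCompl _ _
  letI : Algebra Bn L := ((algebraMap K L).comp (algebraMap Bn K)).toAlgebra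
  haveI : IsScalarTower Bn K L := IsScalarTower.of_algebraMap_eq fun _ => rfl
  haveI : IsScalarTower B Bn L := IsScalarTower.of_algebraMap_eq fun b => by
    change _ = algebraMap K L (algebraMap Bn K (algebraMap B Bn b))
    rw [← IsScalarTower.algebraMap_apply B Bn K, ← IsScalarTower.algebraMap_apply B K L]
  haveI hfin : Module.Finite Bn (integralClosure Bn L) := finite_integralClosure hN K L
  obtain ⟨T, hT⟩ := (Module.Finite.iff_fg (N := (integralClosure Bn L).toSubmodule)).mp hfin
  have hmul : ∀ y : T, ∃ s : n.primeCompl, IsIntegral B (s • (y : L)) := fun y =>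
    IsIntegral.exists_multiple_integral_of_isLocalization n.primeCompl _
      (show IsIntegral Bn (y : L) from
        (show (y : L) ∈ (integralClosure Bn L).toSubmodule from hT ▸ Submodule.subset_span y.2))
  choose s hs using hmul
  refine LocalN1.isN1_localization_of_good q (Submodule.span S (Set.range fun y : T => s y • (y : L)))
    (Submodule.fg_span (Set.finite_range _)) (fun z hz => ?_) fun z hz => ?_
  · have hle : Submodule.span S (Set.range fun y : T => s y • (y : L)) ≤ (integralClosure S L).toSubmodule := by
      rw [Submodule.span_le]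
      rintro _ ⟨y, rfl⟩
      exact (hs y).tower_top
    exact hle hz
  · haveI : Algebra.IsIntegral B S := Algebra.IsIntegral.of_finite B S
    have hzB : IsIntegral Bn z := (isIntegral_trans (R := B) z hz).tower_top
    have hz' : z ∈ Submodule.span Bn (T : Set L) := hT.symm ▸ hzB
    have key : ∃ t : B, t ∉ n ∧ t • z ∈ Submodule.span S (Set.range fun y : T => s y • (y : L)) := by
      clear hz hzB
      induction hz' using Submodule.span_induction with
      | mem w hw => exact ⟨s ⟨w, hw⟩, (s ⟨w, hw⟩).2, Submodule.subset_span ⟨⟨w, hw⟩, rfl⟩⟩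
      | zero => exact ⟨1, n.primeCompl.one_mem, by simp⟩
      | add a b _ _ ha hb =>
        obtain ⟨u, hu, hua⟩ := ha; obtain ⟨v, hv, hvb⟩ := hb
        refine ⟨u * v, n.primeCompl.mul_mem hu hv, ?_⟩
        rw [smul_add, mul_smul, mul_smul]
        exact Submodule.add_mem _ (by rw [smul_comm]; exact Submodule.smul_of_tower_mem _ _ hua)
          (Submodule.smul_of_tower_mem _ _ hvb)
      | smul c a _ ha =>
        obtain ⟨u, hu, hua⟩ := ha
        obtain ⟨⟨r, v⟩, hv⟩ := IsLocalization.surj n.primeCompl c
        refine ⟨v * u, n.primeCompl.mul_mem v.2 hu, ?_⟩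
        have : ((v : B) * u) • (c • a) = r • (u • a) := by
          have h2 := congrArg (algebraMap Bn L) hv
          rw [map_mul, ← IsScalarTower.algebraMap_apply, ← IsScalarTower.algebraMap_apply] at h2
          simp only [Algebra.smul_def, map_mul]
          linear_combination (algebraMap B L u * a) * h2
        rw [this]
        exact Submodule.smul_of_tower_mem _ _ hua
    obtain ⟨t, ht, htz⟩ := key
    exact ⟨algebraMap B S t, ht, by rwa [algebraMap_smul]⟩

/-- A Noetherian local ring is Nagata when completions of its finite domains are reduced. -/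
theorem isNagata_of_isReduced_tensor (R : Type u) [CommRing R] [IsLocalRing R] [IsNoetherianRing R]
    (h : ∀ (S : Type u) [CommRing S] [IsDomain S] [Algebra R S] [Module.Finite R S],
      IsReduced (TensorProduct R S (AdicCompletion (maximalIdeal R) R))) : CAlg.IsNagata R := by
  refine ⟨inferInstance, fun p _ => isN2_of_forall_isN1 (R ⧸ p) ?_⟩
  intro M _ _ _ _ _ _ B' q _ hfin _ _
  letI : Algebra R B' := ((algebraMap (R ⧸ p) B').comp (Ideal.Quotient.mk p)).toAlgebra
  haveI : IsScalarTower R (R ⧸ p) B' := IsScalarTower.of_algebraMap_eq fun _ => rfl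
  haveI : Module.Finite R B' := Module.Finite.trans (R ⧸ p) B'
  haveI := h B'
  exact FormalFibres.isN1_of_isReduced_tensor (R := R) B' (FractionRing B')

/-- Nagata property: local N-2 and generic normality of finite purely inseparable extensions. -/
theorem isNagata_of_local (A : Type u) [CommRing A] [IsNoetherianRing A]
    (hloc : ∀ (m : Ideal A) [m.IsMaximal], CAlg.IsNagata (Localization.AtPrime m))
    (hgen : ∀ (p : Ideal A) [p.IsPrime] (K' : Type u) [Field K'] [Algebra (A ⧸ p) K']
      [Algebra (FractionRing (A ⧸ p)) K'] [IsScalarTower (A ⧸ p) (FractionRing (A ⧸ p)) K']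
      [FiniteDimensional (FractionRing (A ⧸ p)) K'] [IsPurelyInseparable (FractionRing (A ⧸ p)) K']
      (B' : Subalgebra (A ⧸ p) K'), Module.Finite (A ⧸ p) B' → IsFractionRing B' K' →
        ∃ f : B', f ≠ 0 ∧ IsIntegrallyClosed (Localization.Away f)) : CAlg.IsNagata A := by
  refine ⟨inferInstance, fun p _ => isN2_of_forall_isN1 (A ⧸ p) ?_⟩
  intro M _ _ _ _ _ _ B' q _ hfin hfrac _
  haveI : IsNoetherianRing B' := IsNoetherianRing.of_finite (A ⧸ p) B'
  haveI : Algebra.IsIntegral (A ⧸ p) B' := Algebra.IsIntegral.of_finite (A ⧸ p) B'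
  have hinj : Function.Injective (algebraMap (A ⧸ p) B') := fun a b hab => by
    have : algebraMap (A ⧸ p) M a = algebraMap (A ⧸ p) M b := congrArg (fun t : B' => (t : M)) hab
    rw [IsScalarTower.algebraMap_apply (A ⧸ p) (FractionRing (A ⧸ p)) M,
      IsScalarTower.algebraMap_apply (A ⧸ p) (FractionRing (A ⧸ p)) M] at this
    exact IsFractionRing.injective _ _ ((algebraMap (FractionRing (A ⧸ p)) M).injective this)
  refine RegLoc.N1.isN1_iff.mpr ⟨hgen p M B' hfin hfrac, fun Q hQ => ?_⟩
  refine isN1_localization_of_isN2 hinj Q ?_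
  let n := Q.comap (algebraMap (A ⧸ p) B')
  haveI hn : n.IsMaximal := Ideal.isMaximal_comap_of_isIntegral_of_isMaximal Q
  let m := n.comap (Ideal.Quotient.mk p)
  haveI : m.IsMaximal := Ideal.comap_isMaximal_of_surjective _ Ideal.Quotient.mk_surjective
  let Am := Localization.AtPrime m
  let f : Am →+* Localization.AtPrime n := Localization.localRingHom m n (Ideal.Quotient.mk p) rfl
  letI := f.toAlgebra
  refine (isNagata_iff.mp (hloc m)).2 (Localization.AtPrime n) fun z => ?_
  obtain ⟨b, s, rfl⟩ := IsLocalization.exists_mk'_eq n.primeCompl z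
  obtain ⟨a, rfl⟩ := Ideal.Quotient.mk_surjective b
  obtain ⟨t, ht⟩ := Ideal.Quotient.mk_surjective (s : A ⧸ p)
  refine ⟨IsLocalization.mk' Am a (⟨t, fun h => s.2 (ht ▸ (Ideal.mem_comap.mp h))⟩ : m.primeCompl), ?_⟩
  change f _ = _
  rw [Localization.localRingHom_mk']
  congr 1
  exact Subtype.ext ht

end Groth.Agent.Nagata.Criteria
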