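import Groth.Agent.Nagata.Birational
import Groth.Agent.BlowComp.Main
import Groth.Agent.IdealSh.Extend
import Groth.Agent.S17890

/-!
# Gluing two partial models after blowing up, with no density hypotheses

`U` is open in `V₁` and `V₂`, each `Vᵢ` is open in `Xᵢ`, and the closure of the graph of `U` in
`X₁ ×ₛ X₂` meets the preimages of the `Vᵢ` only in `U`. Then blow-ups of the `Xᵢ` off the `Vᵢ` glue
to a separated scheme, in which `V₁` and `V₂` meet exactly in `U`.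
-/

set_option autoImplicit false
set_option maxHeartbeats 2000000
set_option backward.isDefEq.respectTransparency false
set_option backward.defeqAttrib.useBackward true

universe u

namespace Groth.Agent.Nagata

open AlgebraicGeometry CategoryTheory Limits TopologicalSpace

/-- The lift of an open immersion to a blow-up whose centre avoids it. -/
lemma exists_lift {U X X' : Scheme.{u}} (j : U ⟶ X) [IsOpenImmersion j] [CompactSpace U]
    [QuasiSeparatedSpace X'] {c : X' ⟶ X} {𝓙 : X.IdealSheafData} (hc : BlowUp.IsBlowUp c 𝓙)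
    (hd : Disjoint (𝓙.support : Set X) (j.opensRange : Set X)) :
    ∃ u : U ⟶ X', u ≫ c = j ∧ IsOpenImmersion u ∧ QuasiCompact u ∧
      Set.range u = (fun x => c x) ⁻¹' Set.range j ∧
      ((𝓙.support : Set X) = (j.opensRange : Set X)ᶜ → IsSchemeTheoreticallyDominant u) := by
  have := BlowUp.Basic.isIso_restrict hc j.opensRange hd.symm
  let k := j.isoOpensRange.hom ≫ inv (c ∣_ j.opensRange)
  refine ⟨k ≫ (c ⁻¹ᵁ j.opensRange).ι, ?_, inferInstance, QuasiCompact.of_comp _ (terminal.from X'), ?_, ?_⟩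
  · simp only [k, Category.assoc]
    rw [← morphismRestrict_ι, IsIso.inv_hom_id_assoc, Scheme.Hom.isoOpensRange_hom_ι]
  · rw [Scheme.Hom.comp_base, TopCat.coe_comp]
    exact (k.homeomorph.surjective.range_comp _).trans (Scheme.Opens.range_ι _)
  · intro hs
    have hint : ModPair.interior (𝓙.comap c) = c ⁻¹ᵁ j.opensRange := by
      refine Opens.ext (Set.ext fun x => ?_)
      show x ∉ (𝓙.comap c).support ↔ c x ∈ j.opensRange
      rw [Scheme.IdealSheafData.support_comap]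
      show ¬ (c x ∈ (𝓙.support : Set X)) ↔ _
      rw [hs, Set.mem_compl_iff, not_not]
      rfl
    have : IsSchemeTheoreticallyDominant (c ⁻¹ᵁ j.opensRange).ι := by
      rw [← hint]
      exact ModPairLib.Dense.isSchemeTheoreticallyDominant_interior hc.1
    infer_instance

theorem exists_glue {S U V₁ V₂ X₁ X₂ : Scheme.{u}} [CompactSpace S] [QuasiSeparatedSpace S]
    (g₁ : X₁ ⟶ S) (g₂ : X₂ ⟶ S)
    [IsSeparated g₁] [QuasiCompact g₁] [LocallyOfFiniteType g₁]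
    [IsSeparated g₂] [QuasiCompact g₂] [LocallyOfFiniteType g₂]
    (i₁ : U ⟶ V₁) (i₂ : U ⟶ V₂) [IsOpenImmersion i₁] [IsOpenImmersion i₂]
    (m₁ : V₁ ⟶ X₁) (m₂ : V₂ ⟶ X₂) [IsOpenImmersion m₁] [IsOpenImmersion m₂]
    [CompactSpace U] [CompactSpace V₁] [CompactSpace V₂]
    (h : (i₁ ≫ m₁) ≫ g₁ = (i₂ ≫ m₂) ≫ g₂)
    (hcl₁ : ∀ z ∈ closure (Set.range (pullback.lift (i₁ ≫ m₁) (i₂ ≫ m₂) h)),
      pullback.fst g₁ g₂ z ∈ m₁.opensRange →
        z ∈ Set.range (pullback.lift (i₁ ≫ m₁) (i₂ ≫ m₂) h))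
    (hcl₂ : ∀ z ∈ closure (Set.range (pullback.lift (i₁ ≫ m₁) (i₂ ≫ m₂) h)),
      pullback.snd g₁ g₂ z ∈ m₂.opensRange →
        z ∈ Set.range (pullback.lift (i₁ ≫ m₁) (i₂ ≫ m₂) h)) :
    ∃ (Y : Scheme.{u}) (q : Y ⟶ S) (_ : IsSeparated q) (_ : QuasiCompact q) (_ : LocallyOfFiniteType q)
      (A : Scheme.{u}) (a : A ⟶ X₁) (B : Scheme.{u}) (b : B ⟶ X₂) (iA : A ⟶ Y) (iB : B ⟶ Y)
      (uA : V₁ ⟶ A) (uB : V₂ ⟶ B),
      (∃ 𝓛 : X₁.IdealSheafData, BlowUp.IsBlowUp a 𝓛 ∧ BlowUp.IsFiniteTypeIdeal 𝓛 ∧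
        (𝓛.support : Set X₁) = (m₁.opensRange : Set X₁)ᶜ) ∧
      (∃ 𝓜 : X₂.IdealSheafData, BlowUp.IsBlowUp b 𝓜 ∧ BlowUp.IsFiniteTypeIdeal 𝓜 ∧
        (𝓜.support : Set X₂) = (m₂.opensRange : Set X₂)ᶜ) ∧
      IsProper a ∧ IsProper b ∧ IsOpenImmersion iA ∧ IsOpenImmersion iB ∧
      Set.range iA ∪ Set.range iB = Set.univ ∧
      IsOpenImmersion uA ∧ IsOpenImmersion uB ∧ DenseRange uA ∧ DenseRange uB ∧
      uA ≫ a = m₁ ∧ uB ≫ b = m₂ ∧ iA ≫ q = a ≫ g₁ ∧ iB ≫ q = b ≫ g₂ ∧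
      i₁ ≫ uA ≫ iA = i₂ ≫ uB ≫ iB ∧
      ∀ x y, iA (uA x) = iB (uB y) → ∃ t, i₁ t = x ∧ i₂ t = y := by
  have : QuasiSeparatedSpace X₁ := quasiSeparatedSpace_of_quasiSeparated g₁
  have : QuasiSeparatedSpace X₂ := quasiSeparatedSpace_of_quasiSeparated g₂
  have : CompactSpace X₁ := QuasiCompact.compactSpace_of_compactSpace g₁
  have : CompactSpace X₂ := QuasiCompact.compactSpace_of_compactSpace g₂
  let j₁ := i₁ ≫ m₁
  let j₂ := i₂ ≫ m₂
  let U₁ := j₁.opensRange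
  let U₂ := j₂.opensRange
  let P₁o := m₁.opensRange
  let P₂o := m₂.opensRange
  have hU₁ : IsCompact (U₁ : Set X₁) := isCompact_range j₁.continuous
  have hU₂ : IsCompact (U₂ : Set X₂) := isCompact_range j₂.continuous
  have hP₁ : IsCompact (P₁o : Set X₁) := isCompact_range m₁.continuous
  have hP₂ : IsCompact (P₂o : Set X₂) := isCompact_range m₂.continuous
  have hUP₁ : U₁ ≤ P₁o := by
    rintro _ ⟨t, rfl⟩; exact ⟨i₁ t, (Scheme.Hom.comp_apply i₁ m₁ t).symm⟩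
  have hUP₂ : U₂ ≤ P₂o := by
    rintro _ ⟨t, rfl⟩; exact ⟨i₂ t, (Scheme.Hom.comp_apply i₂ m₂ t).symm⟩
  let f : U₁.toScheme ⟶ X₂ := j₁.isoOpensRange.inv ≫ j₂
  have hf : U₁.ι ≫ g₁ = f ≫ g₂ := by
    rw [← Scheme.Hom.isoOpensRange_inv_comp j₁, Category.assoc, show j₁ ≫ g₁ = j₂ ≫ g₂ from h,
      ← Category.assoc]
  let L := pullback.lift j₁ j₂ h
  have hLf : pullback.lift U₁.ι f hf = j₁.isoOpensRange.inv ≫ L := by
    apply pullback.hom_ext
    · rw [pullback.lift_fst, Category.assoc, pullback.lift_fst]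
      exact (Scheme.Hom.isoOpensRange_inv_comp j₁).symm
    · rw [pullback.lift_snd, Category.assoc, pullback.lift_snd]
  have hrange : Set.range (fun x => pullback.lift U₁.ι f hf x) = Set.range L := by
    rw [hLf]
    show Set.range ((j₁.isoOpensRange.inv ≫ L :)) = _
    rw [Scheme.Hom.comp_base, TopCat.coe_comp]
    exact j₁.isoOpensRange.inv.homeomorph.surjective.range_comp _
  have hcl : closure (Set.range (fun x => pullback.lift U₁.ι f hf x)) ∩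
      ((pullback.fst g₁ g₂) ⁻¹ᵁ P₁o : Set ↥(pullback g₁ g₂)) ⊆
        Set.range (fun x => pullback.lift U₁.ι f hf x) := by
    rw [hrange]
    exact fun z hz => hcl₁ z hz.1 hz.2
  obtain ⟨𝓘₁, X₁', q₁, hq₁, hadm₁, hsupp₁, W₁, hle₁, f₁, hf₁, hagree, hclosed₁, hdom₁⟩ :=
    QDom.Main.exists_extension' g₁ g₂ U₁ P₁o hUP₁ hU₁ hP₁ f hf hcl
  have : IsProper q₁ := BlowUpProper.Basic.isProper hq₁ hadm₁.1
  have : CompactSpace X₁' := QuasiCompact.compactSpace_of_compactSpace q₁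
  have : QuasiSeparatedSpace X₁' := quasiSeparatedSpace_of_quasiSeparated q₁
  let Γ₁ := pullback.lift (f := q₁ ≫ g₁) (g := g₂) W₁.ι f₁ hf₁
  have : IsImmersion (Γ₁ ≫ pullback.fst (q₁ ≫ g₁) g₂) := by
    rw [pullback.lift_fst]; infer_instance
  have : IsImmersion Γ₁ := IsImmersion.of_comp Γ₁ (pullback.fst (q₁ ≫ g₁) g₂)
  have : IsClosedImmersion Γ₁ := IsClosedImmersion.of_isPreimmersion _ hclosed₁
  have hf₁' : f₁ = Γ₁ ≫ pullback.snd (q₁ ≫ g₁) g₂ := (pullback.lift_snd _ _ _).symm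
  have : IsSeparated f₁ := by rw [hf₁']; infer_instance
  have : QuasiCompact f₁ := by rw [hf₁']; infer_instance
  have : LocallyOfFiniteType f₁ := by rw [hf₁']; infer_instance
  have : CompactSpace W₁.toScheme := QuasiCompact.compactSpace_of_compactSpace f₁
  -- the lift of `U` to `W₁`
  have hiso₁ := BlowUp.Basic.isIso_restrict hq₁ U₁ (hadm₁.2.mono_right (SetLike.coe_subset_coe.mpr hUP₁)).symm
  let k := j₁.isoOpensRange.hom ≫ inv (q₁ ∣_ U₁)
  let v₁ : U ⟶ W₁.toScheme := k ≫ X₁'.homOfLE hle₁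
  have : IsSchemeTheoreticallyDominant v₁ := inferInstance
  have hv₁ : v₁ ≫ W₁.ι ≫ q₁ = j₁ := by
    simp only [v₁, k, Category.assoc, Scheme.homOfLE_ι_assoc]
    rw [← morphismRestrict_ι, IsIso.inv_hom_id_assoc, Scheme.Hom.isoOpensRange_hom_ι]
  have hv₁' : v₁ ≫ f₁ = j₂ := by
    simp only [v₁, k, Category.assoc, hagree, f, IsIso.inv_hom_id_assoc, Iso.hom_inv_id_assoc]
  have : QuasiSeparatedSpace W₁.toScheme := quasiSeparatedSpace_of_quasiSeparated W₁.ι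
  have : QuasiCompact v₁ := QuasiCompact.of_comp _ (terminal.from W₁.toScheme)
  -- `W₁` meets the two big opens only in `U`
  let γ := pullback.lift (f := g₁) (g := g₂) (W₁.ι ≫ q₁) f₁ (by rw [Category.assoc, hf₁])
  have hγ : v₁ ≫ γ = L := by
    apply pullback.hom_ext <;> simp [γ, L, hv₁, hv₁']
  have hdense₁ : DenseRange v₁ := v₁.denseRange
  have hγcl : ∀ w, γ w ∈ closure (Set.range L) := by
    intro w
    have h1 := image_closure_subset_closure_image (s := Set.range v₁) γ.continuous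
      ⟨w, hdense₁ w, rfl⟩
    refine closure_mono ?_ h1
    rintro _ ⟨_, ⟨t, rfl⟩, rfl⟩
    exact ⟨t, by rw [← hγ]; exact Scheme.Hom.comp_apply v₁ γ t⟩
  have hfst : ∀ w, pullback.fst g₁ g₂ (γ w) = q₁ (W₁.ι w) := fun w => by
    rw [← Scheme.Hom.comp_apply, pullback.lift_fst, Scheme.Hom.comp_apply]
  have hsnd : ∀ w, pullback.snd g₁ g₂ (γ w) = f₁ w := fun w => by
    rw [← Scheme.Hom.comp_apply, pullback.lift_snd]
  have hkey : ∀ w, γ w ∈ Set.range L → q₁ (W₁.ι w) ∈ U₁ := by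
    rintro w ⟨t, ht⟩
    refine ⟨t, ?_⟩
    rw [← hfst, ← ht, ← Scheme.Hom.comp_apply L, pullback.lift_fst]
  have hback : ∀ w, q₁ (W₁.ι w) ∈ U₁ → ∃ t, v₁ t = w := by
    intro w hw
    obtain ⟨t, ht⟩ := k.homeomorph.surjective (⟨W₁.ι w, hw⟩ : (q₁ ⁻¹ᵁ U₁).toScheme)
    refine ⟨t, W₁.ι.isOpenEmbedding.injective ?_⟩
    rw [← Scheme.Hom.comp_apply, show v₁ ≫ W₁.ι = k ≫ (q₁ ⁻¹ᵁ U₁).ι by simp [v₁],
      Scheme.Hom.comp_apply]
    exact congrArg (q₁ ⁻¹ᵁ U₁).ι ht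
  have hF₁ : ∀ w, q₁ (W₁.ι w) ∈ P₁o → ∃ t, v₁ t = w := fun w hw =>
    hback w (hkey w (hcl₁ _ (hγcl w) (by rw [hfst]; exact hw)))
  have hF₂ : ∀ w, f₁ w ∈ P₂o → ∃ t, v₁ t = w := fun w hw =>
    hback w (hkey w (hcl₂ _ (hγcl w) (by rw [hsnd]; exact hw)))
  have hv₁U : Set.range v₁ ⊆ Set.range (f₁ ⁻¹ᵁ U₂).ι := by
    rw [Scheme.Opens.range_ι]
    rintro _ ⟨x, rfl⟩
    exact ⟨x, by rw [← Scheme.Hom.comp_apply, hv₁']⟩
  have hpre : f₁ ⁻¹ᵁ P₂o ≤ f₁ ⁻¹ᵁ U₂ := fun w hw => by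
    obtain ⟨t, rfl⟩ := hF₂ w hw
    exact ⟨t, by rw [← Scheme.Hom.comp_apply, hv₁']⟩
  let v₂ := IsOpenImmersion.lift (f₁ ⁻¹ᵁ U₂).ι v₁ hv₁U
  have hv₂ : v₂ ≫ (f₁ ⁻¹ᵁ U₂).ι = v₁ := IsOpenImmersion.lift_fac _ _ _
  have hv₂dom : IsSchemeTheoreticallyDominant v₂ :=
    (S17890.schDom_lift (f₁ ⁻¹ᵁ U₂) v₁ v₂ hv₂).1
  have hv₂f : v₂ ≫ (f₁ ∣_ U₂) = j₂.isoOpensRange.hom := by
    rw [← cancel_mono U₂.ι, Category.assoc, morphismRestrict_ι, reassoc_of% hv₂, hv₁',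
      Scheme.Hom.isoOpensRange_hom_ι]
  have : IsIso (f₁ ∣_ U₂) := by
    let σ := j₂.isoOpensRange.inv ≫ v₂
    have hσ : σ ≫ (f₁ ∣_ U₂) = 𝟙 _ := by simp [σ, hv₂f]
    have : IsClosedImmersion (σ ≫ (f₁ ∣_ U₂)) := hσ ▸ inferInstance
    have : IsClosedImmersion σ := IsClosedImmersion.of_comp σ (f₁ ∣_ U₂)
    have : IsIso σ := IsClosedImmersion.isIso_iff_ker_eq_bot.mpr
      (IsSchemeTheoreticallyDominant.ker_eq_bot σ)
    exact IsIso.of_isIso_fac_left hσ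
  obtain ⟨𝓙₂, X₂', c, W₂, b, hb, hc, hft₂, hsupp₂, hbl, hle₂, -⟩ :=
    Birational.exists_blowUp f₁ U₂ P₂o hUP₂ hU₂ hP₂ hpre
  have : IsProper c := BlowUpProper.Basic.isProper hc hft₂
  have : CompactSpace X₂' := QuasiCompact.compactSpace_of_compactSpace c
  have : QuasiSeparatedSpace X₂' := quasiSeparatedSpace_of_quasiSeparated c
  have : IsProper b := BlowUpProper.Basic.isProper hbl (IdealSh.FinType.comap f₁ hft₂)
  obtain ⟨𝓚, hK, hKc⟩ := IdealSh.Extend.exists_extension (U := q₁ ⁻¹ᵁ P₁o) (V := W₁)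
    (q₁.isCompact_preimage hP₁) (isCompact_iff_compactSpace.mpr ‹CompactSpace W₁.toScheme›)
    (IdealSh.FinType.comap f₁ hft₂) (by
      rw [Set.disjoint_left]
      intro w hw hwU
      rw [Scheme.IdealSheafData.support_comap] at hw
      have h1 : f₁ w ∈ (𝓙₂.support : Set X₂) := hw
      rw [hsupp₂] at h1
      obtain ⟨t, rfl⟩ := hF₁ w hwU
      exact h1 (hUP₂ ⟨t, by rw [← Scheme.Hom.comp_apply, hv₁']⟩))
  obtain ⟨X₁'', d, hd⟩ := BlowUp.Glue.exists_isBlowUp X₁' 𝓚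
  obtain ⟨e, he⟩ := BlowUp.Basic.exists_iso (hKc ▸ BlowUp.Local.restrict hd W₁) hbl
  obtain ⟨𝓛, h𝓛, h𝓛s, h𝓛b⟩ := BlowComp.Main.exists_comp hq₁ hadm₁.1 hK.1 hd
  have hLs : (𝓛.support : Set X₁) = (P₁o : Set X₁)ᶜ := by
    rw [h𝓛s, hsupp₁]
    refine Set.union_eq_left.mpr ?_
    rintro _ ⟨w, hw, rfl⟩ hwU
    exact hK.2.le_bot ⟨hw, hwU⟩
  have : IsProper (d ≫ q₁) := BlowUpProper.Basic.isProper h𝓛b h𝓛
  have : CompactSpace X₁'' := QuasiCompact.compactSpace_of_compactSpace (d ≫ q₁)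
  have : QuasiSeparatedSpace X₁'' := quasiSeparatedSpace_of_quasiSeparated (d ≫ q₁)
  obtain ⟨uA, huA, _, _, -, huAd⟩ := exists_lift m₁ h𝓛b (by rw [hLs]; exact disjoint_compl_left)
  obtain ⟨uB, huB, _, _, huBr, huBd⟩ := exists_lift m₂ hc (by rw [hsupp₂]; exact disjoint_compl_left)
  have := huAd hLs
  have := huBd hsupp₂
  -- glue along `W₂`
  let h₁ : W₂.toScheme ⟶ X₁'' := e.hom ≫ (d ⁻¹ᵁ W₁).ι
  let h₂ : W₂.toScheme ⟶ X₂' := W₂.ι
  have hh₁ : h₁ ≫ d = b ≫ W₁.ι := by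
    rw [Category.assoc, ← morphismRestrict_ι, ← Category.assoc, he]
  let pa := (d ≫ q₁) ≫ g₁
  let pb := c ≫ g₂
  have w : h₁ ≫ pa = h₂ ≫ pb := by
    simp only [pa, pb, h₂, Category.assoc, reassoc_of% hh₁, hf₁, reassoc_of% hb]
  have hgcl : IsClosed (Set.range (pullback.lift h₁ h₂ w)) := by
    let m : pullback pa pb ⟶ pullback (q₁ ≫ g₁) g₂ :=
      pullback.map pa pb (q₁ ≫ g₁) g₂ d c (𝟙 S) (by simp [pa]) (by simp [pb])
    have hm : pullback.lift h₁ h₂ w ≫ m = b ≫ Γ₁ := by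
      apply pullback.hom_ext <;> simp [m, Γ₁, hh₁, h₂, hb]
    have : IsProper d := BlowUpProper.Basic.isProper hd hK.1
    have : IsSeparated m :=
      MorphismProperty.pullbackMap (P := @IsSeparated) (f := pa) (g := pb) (f' := q₁ ≫ g₁)
        (g' := g₂) (i₁ := d) (i₂ := c) inferInstance inferInstance (by simp [pa]) rfl
    have : IsProper (pullback.lift h₁ h₂ w ≫ m) := by rw [hm]; infer_instance
    have := IsProper.of_comp (pullback.lift h₁ h₂ w) m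
    exact (pullback.lift h₁ h₂ w).isClosedMap.isClosed_range
  have hsep : IsSeparated (pushout.desc pa pb w) := LocHom.isSeparated_glued h₁ h₂ pa pb w hgcl
  let q := pushout.desc pa pb w
  have hql : pushout.inl h₁ h₂ ≫ q = pa := pushout.inl_desc _ _ _
  have hqr : pushout.inr h₁ h₂ ≫ q = pb := pushout.inr_desc _ _ _
  have hlft : LocallyOfFiniteType q := by
    let 𝒰 := (pushout h₁ h₂).openCoverOfIsOpenCover
      (fun i : Bool => if i then (pushout.inl h₁ h₂).opensRange else (pushout.inr h₁ h₂).opensRange)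
      (by
        refine top_le_iff.mp ?_
        rw [← LimLib.pushout_opensRange_sup h₁ h₂]
        exact sup_le (le_iSup_of_le true (by simp)) (le_iSup_of_le false (by simp)))
    rw [IsZariskiLocalAtSource.iff_of_openCover (P := @LocallyOfFiniteType) 𝒰]
    intro i
    cases i
    · show LocallyOfFiniteType ((pushout.inr h₁ h₂).opensRange.ι ≫ q)
      rw [← Scheme.Hom.isoOpensRange_inv_comp, Category.assoc, hqr]
      infer_instance
    · show LocallyOfFiniteType ((pushout.inl h₁ h₂).opensRange.ι ≫ q)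
      rw [← Scheme.Hom.isoOpensRange_inv_comp, Category.assoc, hql]
      infer_instance
  have : CompactSpace (pushout h₁ h₂ : Scheme.{u}) := LimLib.compactSpace_pushout h₁ h₂
  have hqc : QuasiCompact q := QuasiCompact.of_comp _ (terminal.from S)
  let wU : U ⟶ W₂.toScheme := IsOpenImmersion.lift W₂.ι (i₂ ≫ uB) (by
    rw [Scheme.Opens.range_ι]
    rintro _ ⟨t, rfl⟩
    refine hle₂ (show c ((i₂ ≫ uB) t) ∈ U₂ from ⟨t, ?_⟩)
    rw [← Scheme.Hom.comp_apply (i₂ ≫ uB), Category.assoc, huB])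
  have hwU : wU ≫ h₂ = i₂ ≫ uB := IsOpenImmersion.lift_fac _ _ _
  have hwb : wU ≫ b = v₁ := by
    have hf' : (wU ≫ b) ≫ f₁ = j₂ := by rw [Category.assoc, ← hb, reassoc_of% hwU, huB]
    let l := IsOpenImmersion.lift (f₁ ⁻¹ᵁ U₂).ι (wU ≫ b) (by
      rw [Scheme.Opens.range_ι]
      rintro _ ⟨x, rfl⟩
      exact ⟨x, by rw [← Scheme.Hom.comp_apply, hf']⟩)
    have hl : l ≫ (f₁ ⁻¹ᵁ U₂).ι = wU ≫ b := IsOpenImmersion.lift_fac _ _ _
    have : l = v₂ := by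
      rw [← cancel_mono (f₁ ∣_ U₂), ← cancel_mono U₂.ι, Category.assoc, Category.assoc,
        morphismRestrict_ι, reassoc_of% hl, reassoc_of% hv₂, hv₁', ← hf', Category.assoc]
    rw [← hl, this, hv₂]
  have hw₁ : wU ≫ h₁ = i₁ ≫ uA := by
    have h3 : (wU ≫ h₁) ≫ d ≫ q₁ = j₁ := by
      rw [Category.assoc, reassoc_of% hh₁, reassoc_of% hwb, hv₁]
    refine BlowUp.Basic.hom_ext_of_disjoint h𝓛b ?_ (by rw [h3, Category.assoc, huA])
    rw [h3, hLs]
    exact Set.disjoint_compl_right_iff_subset.mpr hUP₁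
  refine ⟨_, q, hsep, hqc, hlft, X₁'', d ≫ q₁, X₂', c, pushout.inl h₁ h₂, pushout.inr h₁ h₂, uA, uB,
    ⟨𝓛, h𝓛b, h𝓛, hLs⟩, ⟨𝓙₂, hc, hft₂, hsupp₂⟩,
    inferInstance, inferInstance, inferInstance, inferInstance,
    congrArg SetLike.coe (LimLib.pushout_opensRange_sup h₁ h₂), inferInstance, inferInstance,
    uA.denseRange, uB.denseRange, huA, huB, hql, hqr, ?_, fun x y hxy => ?_⟩
  · rw [← Category.assoc i₁, ← hw₁, Category.assoc, pushout.condition, ← Category.assoc, hwU,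
      Category.assoc]
  · have h1 : pushout.inl h₁ h₂ (uA x) ∈
        Set.range (pushout.inl h₁ h₂) ∩ Set.range (pushout.inr h₁ h₂) :=
      ⟨⟨_, rfl⟩, hxy ▸ ⟨_, rfl⟩⟩
    rw [LimLib.pushout_range_inter] at h1
    obtain ⟨z, hz⟩ := h1
    have hz₁ : h₁ z = uA x := (pushout.inl h₁ h₂).isOpenEmbedding.injective
      ((Scheme.Hom.comp_apply h₁ _ z).symm.trans hz)
    have hz₂ : h₂ z = uB y := (pushout.inr h₁ h₂).isOpenEmbedding.injective (by
      rw [← Scheme.Hom.comp_apply, ← pushout.condition]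
      exact hz.trans hxy)
    have hfb : f₁ (b z) = m₂ y := by
      rw [← Scheme.Hom.comp_apply, ← hb, Scheme.Hom.comp_apply]
      show c (h₂ z) = _
      rw [hz₂, ← Scheme.Hom.comp_apply, huB]
    obtain ⟨t, ht⟩ := hF₂ (b z) (by rw [hfb]; exact ⟨y, rfl⟩)
    refine ⟨t, m₁.isOpenEmbedding.injective ?_, m₂.isOpenEmbedding.injective ?_⟩
    · rw [← Scheme.Hom.comp_apply]
      show j₁ t = _
      rw [← hv₁, Scheme.Hom.comp_apply, ht, ← Scheme.Hom.comp_apply, ← reassoc_of% hh₁,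
        Scheme.Hom.comp_apply, hz₁, ← Scheme.Hom.comp_apply uA, huA]
    · rw [← Scheme.Hom.comp_apply]
      show j₂ t = _
      rw [← hfb, ← ht, ← Scheme.Hom.comp_apply, hv₁']

end Groth.Agent.Nagata
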