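import Groth.Agent.PerfTri.Cone
import Groth.Agent.PerfTri.LocalLift
import Groth.Agent.Props.QRank
import Groth.Agent.VBLib.Basic
import Groth.Agent.KFlat.LocFree

/-!
# Making the rank of a locally free module constant by adding a summand
-/

set_option autoImplicit false
set_option maxHeartbeats 600000
set_option backward.isDefEq.respectTransparency false
set_option backward.defeqAttrib.useBackward true

universe u

noncomputable section

namespace Groth.Agent.Nagata

open AlgebraicGeometry CategoryTheory Limits TopologicalSpace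
open Groth.Agent.PerfTri Groth.Agent.QCoh Groth.Agent.Props.QStalk Groth.Agent.PullStalk.Sky

variable {X : Scheme.{u}}

/-- The fibre rank where the module is free of rank `n`. -/
lemma fibreRank_of_iso {M : X.Modules} [M.IsQuasicoherent] (hM : FlatMod.IsFinLocFree M)
    {V : X.Opens} {n : ℕ} (e : M.restrict V.ι ≅ FlatMod.freeMod V n) {z : X} (hzV : z ∈ V) :
    Props.QRank.fibreRank M z = n := by
  obtain ⟨W, hW, hz, hWV⟩ := exists_isAffineOpen_mem_and_subset hzV
  obtain ⟨b⟩ := Props.QProj.free_sections_of_restrict_iso M e hW hWV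
  have := (Props.QProj.free_stalk M hM z).1
  rw [Props.QRank.fibreRank_eq_of_free]
  let _ := moduleSections M hz
  let _ := X.presheaf.algebra_section_stalk ⟨z, hz⟩
  have : IsScalarTower Γ(X, W) (X.presheaf.stalk z) (M.presheaf.stalk z) :=
    IsScalarTower.of_algebraMap_smul fun _ _ ↦ rfl
  have hL := isLocalizedModule_germLin M hz hW
  have hA : IsLocalization.AtPrime (X.presheaf.stalk z) (hW.primeIdealOf ⟨z, hz⟩).asIdeal :=
    hW.isLocalization_stalk ⟨z, hz⟩
  have : Module.Free Γ(X, W) Γ(M, W) := .of_basis b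
  have : Nontrivial Γ(X, W) := (algebraMap Γ(X, W) (X.presheaf.stalk z)).domain_nontrivial
  rw [Module.finrank_of_isLocalizedModule_of_free (X.presheaf.stalk z)
    (hW.primeIdealOf ⟨z, hz⟩).asIdeal.primeCompl (germLin M hz),
    Module.finrank_eq_card_basis b, Fintype.card_fin]

/-- Free of rank `n` near every point of fibre rank `n`. -/
lemma exists_free_nhd_fibreRank {M : X.Modules} [M.IsQuasicoherent] (hM : FlatMod.IsFinLocFree M)
    (x : X) : ∃ U : X.Opens, x ∈ U ∧
      Nonempty (M.restrict U.ι ≅ FlatMod.freeMod U (Props.QRank.fibreRank M x)) := by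
  obtain ⟨U, n, hx, ⟨e⟩⟩ := hM x
  exact ⟨U, hx, (fibreRank_of_iso hM e hx) ▸ ⟨e⟩⟩

/-- `M|U` free gives `M|U'` free for `U' ≤ U`. -/
def freeRestr {M : X.Modules} {U U' : X.Opens} (h : U' ≤ U) {n : ℕ}
    (e : M.restrict U.ι ≅ FlatMod.freeMod U n) : M.restrict U'.ι ≅ FlatMod.freeMod U' n :=
  LocalLift.restrLEIso h M ≪≫ (Scheme.Modules.restrictFunctor _).mapIso e ≪≫
    LocalLift.freeRestrIso _ n

/-- The free module of rank one on an open and zero outside, pushed forward. -/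
abbrev pushOne (V : X.Opens) : X.Modules :=
  (Scheme.Modules.pushforward V.ι).obj (FlatMod.freeMod V 1)

/-- Restriction of `pushOne V` to `V`. -/
def pushOneRestrict (V : X.Opens) : (pushOne V).restrict V.ι ≅ FlatMod.freeMod V 1 :=
  (asIso (Scheme.Modules.restrictAdjunction V.ι).counit).app _

/-- `pushOne V` vanishes off `V`. -/
lemma isZero_restrict_pushOne {V U : X.Opens} (h : Disjoint U V) :
    IsZero ((pushOne V).restrict U.ι) := by
  rw [IsZero.iff_id_eq_zero]
  refine Scheme.Modules.hom_ext _ _ fun W => ConcreteCategory.hom_ext _ _ fun z => ?_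
  change z = 0
  let z' : Γ(FlatMod.freeMod V 1, V.ι ⁻¹ᵁ (U.ι ''ᵁ W)) := z
  suffices z' = 0 from this
  refine eq_zero_of_locally_eq_zero (FlatMod.freeMod V 1) (ι := PEmpty.{1}) (U := fun i => i.elim)
    (fun i => i.elim) ?_ z' (fun i => i.elim)
  intro y hy
  obtain ⟨u, -, hu⟩ : V.ι y ∈ U.ι ''ᵁ W := hy
  exact absurd (show V.ι y ∈ U ⊓ V from ⟨hu ▸ u.2, y.2⟩) (by rw [disjoint_iff.mp h]; exact id)

/-- Restriction commutes with binary biproducts. -/
def restrictBiprod (U : X.Opens) (A B : X.Modules) :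
    (A ⊞ B).restrict U.ι ≅ A.restrict U.ι ⊞ B.restrict U.ι :=
  haveI : PreservesBinaryBiproducts (Scheme.Modules.restrictFunctor U.ι) :=
    preservesBinaryBiproducts_of_preservesBiproducts _
  (Scheme.Modules.restrictFunctor U.ι).mapBiprod A B

/-- Adding a summand makes the rank constant. -/
theorem exists_rank_fill [CompactSpace X] {E : X.Modules} (hE : FlatMod.IsFinLocFree E) :
    ∃ (R : ℕ) (Q : X.Modules), FlatMod.IsFinLocFree Q ∧ FlatMod.IsFinLocFreeOfRank R (E ⊞ Q) := by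
  have hqE : E.IsQuasicoherent := (VBLib.isCoh_of_isFinLocFree hE).1
  obtain ⟨R, hR⟩ : ∃ R, ∀ x, Props.QRank.fibreRank E x ≤ R := by
    obtain ⟨R, hR⟩ := ((Props.QRank.isLocallyConstant_fibreRank E hE).range_finite).bddAbove
    exact ⟨R, fun x => hR ⟨x, rfl⟩⟩
  suffices ∀ (k : ℕ) (E : X.Modules) [E.IsQuasicoherent], FlatMod.IsFinLocFree E →
      (∀ x, Props.QRank.fibreRank E x ≤ R ∧ R ≤ Props.QRank.fibreRank E x + k) →
      ∃ Q : X.Modules, FlatMod.IsFinLocFree Q ∧ FlatMod.IsFinLocFreeOfRank R (E ⊞ Q) by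
    obtain ⟨Q, h⟩ := this R E hE fun x => ⟨hR x, Nat.le_add_left _ _⟩
    exact ⟨R, Q, h⟩
  intro k
  induction k with
  | zero =>
    intro E _ hE hb
    refine ⟨pushOne (⊥ : X.Opens), fun x => ?_, fun x => ?_⟩
    · refine ⟨⊤, 0, trivial, ⟨IsZero.iso (isZero_restrict_pushOne disjoint_bot_right) ?_⟩⟩
      exact (IsZero.iff_id_eq_zero _).mpr (Sigma.hom_ext _ _ fun i => i.elim0)
    · obtain ⟨U, hx, ⟨e⟩⟩ := exists_free_nhd_fibreRank hE x
      have hr : Props.QRank.fibreRank E x = R := by have := hb x; omega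
      refine ⟨U, hx, ⟨restrictBiprod U _ _ ≪≫
        (isoBiprodZero (isZero_restrict_pushOne disjoint_bot_right)).symm ≪≫ ?_⟩⟩
      exact hr ▸ e
  | succ k ih =>
    intro E _ hE hb
    have hloc := Props.QRank.isLocallyConstant_fibreRank E hE
    let V : X.Opens := ⟨Props.QRank.fibreRank E ⁻¹' Set.Iio R, hloc _⟩
    let W : X.Opens := ⟨(V : Set X)ᶜ, by
      show IsOpen (Props.QRank.fibreRank E ⁻¹' Set.Iio R)ᶜ
      rw [← Set.preimage_compl]; exact hloc _⟩
    have hVW : Disjoint W V := by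
      rw [disjoint_iff]
      exact Opens.ext (Set.compl_inter_self _)
    have hin : ∀ x ∈ V, ∃ U : X.Opens, x ∈ U ∧
        Nonempty ((E ⊞ pushOne V).restrict U.ι ≅ FlatMod.freeMod U (Props.QRank.fibreRank E x + 1)) ∧
        Nonempty ((pushOne V).restrict U.ι ≅ FlatMod.freeMod U 1) := by
      intro x hx
      obtain ⟨U, hxU, ⟨e⟩⟩ := exists_free_nhd_fibreRank hE x
      exact ⟨U ⊓ V, ⟨hxU, hx⟩, ⟨restrictBiprod _ _ _ ≪≫ biprod.mapIso (freeRestr inf_le_left e)
        (freeRestr inf_le_right (pushOneRestrict V)) ≪≫ Cone.freeAddIso _ _ _⟩,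
        ⟨freeRestr inf_le_right (pushOneRestrict V)⟩⟩
    have hout : ∀ x ∈ W, ∃ U : X.Opens, x ∈ U ∧
        Nonempty ((E ⊞ pushOne V).restrict U.ι ≅ FlatMod.freeMod U (Props.QRank.fibreRank E x)) ∧
        Nonempty ((pushOne V).restrict U.ι ≅ FlatMod.freeMod U 0) := by
      intro x hx
      obtain ⟨U, hxU, ⟨e⟩⟩ := exists_free_nhd_fibreRank hE x
      have hz : IsZero ((pushOne V).restrict (U ⊓ W).ι) :=
        isZero_restrict_pushOne (hVW.mono_left inf_le_right)
      exact ⟨U ⊓ W, ⟨hxU, hx⟩, ⟨restrictBiprod _ _ _ ≪≫ (isoBiprodZero hz).symm ≪≫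
        freeRestr inf_le_left e⟩,
        ⟨hz.iso ((IsZero.iff_id_eq_zero _).mpr (Sigma.hom_ext _ _ fun i => i.elim0))⟩⟩
    have hP : FlatMod.IsFinLocFree (pushOne V) := fun x => by
      by_cases hx : x ∈ V
      · obtain ⟨U, hxU, -, h⟩ := hin x hx; exact ⟨U, 1, hxU, h⟩
      · obtain ⟨U, hxU, -, h⟩ := hout x hx; exact ⟨U, 0, hxU, h⟩
    have hE' : FlatMod.IsFinLocFree (E ⊞ pushOne V) := Cone.isFinLocFree_biprod hE hP
    haveI : (E ⊞ pushOne V).IsQuasicoherent := (VBLib.isCoh_of_isFinLocFree hE').1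
    obtain ⟨Q, hQ, hQR⟩ := ih (E ⊞ pushOne V) hE' fun x => by
      by_cases hx : x ∈ V
      · obtain ⟨U, hxU, ⟨e⟩, -⟩ := hin x hx
        rw [fibreRank_of_iso hE' e hxU]
        have h1 : Props.QRank.fibreRank E x < R := hx
        have := hb x; omega
      · obtain ⟨U, hxU, ⟨e⟩, -⟩ := hout x hx
        rw [fibreRank_of_iso hE' e hxU]
        have h1 : ¬ Props.QRank.fibreRank E x < R := hx
        have := hb x; omega
    refine ⟨pushOne V ⊞ Q, Cone.isFinLocFree_biprod hP hQ, fun x => ?_⟩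
    obtain ⟨U, hxU, ⟨e⟩⟩ := hQR x
    exact ⟨U, hxU, ⟨(Scheme.Modules.restrictFunctor U.ι).mapIso (biprod.associator E (pushOne V) Q).symm ≪≫ e⟩⟩

end Groth.Agent.Nagata
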