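import Groth.Agent.FittLib.StrictFitt
import Groth.Agent.CohDev.Loc
import Groth.Agent.QCoh.Qcqs
import Groth.Agent.Props.QProj

/-!
# The quotient by sections vanishing on an open
-/

set_option autoImplicit false
set_option backward.isDefEq.respectTransparency false
set_option backward.defeqAttrib.useBackward true

universe u

noncomputable section

namespace Groth.Agent.Nagata

open AlgebraicGeometry CategoryTheory Limits TopologicalSpace
open Groth.Agent.QCoh

variable {X : Scheme.{u}} (U : X.Opens)

/-- The quotient of `M` by the sections vanishing on `U`. -/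
def sat (M : X.Modules) : X.Modules :=
  Abelian.image ((Scheme.Modules.restrictAdjunction U.ι).unit.app M)

/-- The projection to `sat`. -/
def toSat (M : X.Modules) : M ⟶ sat U M :=
  Abelian.factorThruImage ((Scheme.Modules.restrictAdjunction U.ι).unit.app M)

instance (M : X.Modules) : Epi (toSat U M) := by
  unfold toSat; infer_instance

/-- The inclusion of `sat` in the pushforward of the restriction. -/
def satι (M : X.Modules) :
    sat U M ⟶ (Scheme.Modules.pushforward U.ι).obj ((Scheme.Modules.restrictFunctor U.ι).obj M) :=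
  Abelian.image.ι ((Scheme.Modules.restrictAdjunction U.ι).unit.app M)

instance (M : X.Modules) : Mono (satι U M) := by
  unfold satι; infer_instance

lemma toSat_ι (M : X.Modules) :
    toSat U M ≫ satι U M = (Scheme.Modules.restrictAdjunction U.ι).unit.app M :=
  Abelian.image.fac _

lemma image_preimage_eq (W : X.Opens) : U.ι ''ᵁ (U.ι ⁻¹ᵁ W) = W ⊓ U := by
  rw [Scheme.Hom.image_preimage_eq_opensRange_inf, Scheme.Opens.opensRange_ι, inf_comm]

lemma toSat_app_eq_zero_iff (M : X.Modules) (W : X.Opens) (m : Γ(M, W)) :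
    (toSat U M).app W m = 0 ↔ res M (inf_le_left : W ⊓ U ≤ W) m = 0 := by
  have key : ∀ (T : X.Opens) (hT : T ≤ W), T = W ⊓ U →
      (res M hT m = 0 ↔ res M (inf_le_left : W ⊓ U ≤ W) m = 0) := by
    intro T hT hTU; subst hTU; rfl
  rw [← key _ (U.ι.image_preimage_le W) (image_preimage_eq U W)]
  have h : (satι U M).app W ((toSat U M).app W m) = res M (U.ι.image_preimage_le W) m := by
    rw [← ConcreteCategory.comp_apply, ← Scheme.Modules.Hom.comp_app, toSat_ι]
    rfl
  rw [← h]
  exact ⟨fun h0 => by rw [h0, map_zero],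
    fun h0 => app_injective_of_mono (satι U M) W (h0.trans (map_zero _).symm)⟩

lemma toSat_app_bijective (M : X.Modules) {W : X.Opens} (hW : W ≤ U) :
    Function.Bijective ((toSat U M).app W) := by
  have hWU : W ⊓ U = W := inf_eq_left.mpr hW
  refine ⟨(injective_iff_map_eq_zero _).mpr fun m hm => ?_, fun t => ?_⟩
  · rw [toSat_app_eq_zero_iff] at hm
    have := congrArg (res M (le_inf le_rfl hW : W ≤ W ⊓ U)) hm
    rwa [map_zero, res_res, res_self] at this
  · have key : ∀ (T : X.Opens) (hT : T ≤ W), T = W → Function.Surjective (res M hT) := by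
      intro T hT hTU; subst hTU
      exact fun y => ⟨y, res_self M _ y⟩
    obtain ⟨m, hm⟩ := key _ (U.ι.image_preimage_le W) ((image_preimage_eq U W).trans hWU)
      ((satι U M).app W t)
    refine ⟨m, app_injective_of_mono (satι U M) W ?_⟩
    rw [← hm, ← ConcreteCategory.comp_apply, ← Scheme.Modules.Hom.comp_app, toSat_ι]
    rfl

lemma isIso_restrict_toSat (M : X.Modules) {Z : Scheme.{u}} (j : Z ⟶ X) [IsOpenImmersion j]
    (hj : j.opensRange ≤ U) : IsIso ((Scheme.Modules.restrictFunctor j).map (toSat U M)) := by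
  refine Scheme.Modules.Hom.isIso_iff_isIso_app.mpr fun W => ?_
  have := toSat_app_bijective U M (W := j ''ᵁ W) ((j.image_le_opensRange W).trans hj)
  exact (ConcreteCategory.isIso_iff_bijective _).mpr this

/-- Sections vanishing off the support of a finite type ideal are killed by a power of it. -/
theorem killsTorsion_toSat (M : X.Modules) [M.IsQuasicoherent] {E : X.IdealSheafData}
    (hE : BlowUp.IsFiniteTypeIdeal E) (hU : (U : Set X) = (E.support : Set X)ᶜ) :
    Groth.Agent.FittLib.StrictSheaf.KillsTorsion (toSat U M) E := by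
  intro V m
  rw [toSat_app_eq_zero_iff]
  constructor
  · intro h
    obtain ⟨T, hT⟩ := hE V
    let A : Ideal Γ(X, V.1) := LinearMap.ker (LinearMap.toSpanSingleton Γ(X, V.1) Γ(M, V.1) m)
    have hrad : E.ideal V ≤ A.radical := by
      rw [← hT]
      refine Ideal.span_le.mpr fun a ha => ?_
      have hsub : X.basicOpen a ≤ V.1 ⊓ U := by
        refine le_inf (X.basicOpen_le a) fun y hy => ?_
        show y ∈ (U : Set X)
        rw [hU]
        intro hyE
        rw [SetLike.mem_coe, Scheme.IdealSheafData.mem_support_iff_of_mem (X.basicOpen_le a hy),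
          Scheme.mem_zeroLocus_iff] at hyE
        exact hyE a (hT ▸ Ideal.subset_span ha) hy
      obtain ⟨n, hn⟩ := exists_pow_smul_eq_zero M V.2.isCompact a m (by
        have := congrArg (res M hsub) h
        rwa [map_zero, res_res] at this)
      exact ⟨n, by simpa [A] using hn⟩
    obtain ⟨n, hn⟩ := Ideal.exists_pow_le_of_le_radical_of_fg hrad (hE V)
    refine ⟨n, fun a ha => ?_⟩
    rw [Scheme.IdealSheafData.ideal_pow, Pi.pow_apply] at ha
    have := hn ha
    simpa [A] using this
  · rintro ⟨n, hn⟩
    let ι := { W : X.Opens // IsAffineOpen W ∧ W ≤ V.1 ⊓ U }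
    refine eq_zero_of_locally_eq_zero _ (fun W : ι => W.2.2) (fun y hy => ?_) _ fun W => ?_
    · obtain ⟨W, hW, hyW, hWV⟩ := exists_isAffineOpen_mem_and_subset hy
      exact Opens.mem_iSup.mpr ⟨⟨W, hW, hWV⟩, hyW⟩
    · rw [res_res]
      have hle : W.1 ≤ V.1 := W.2.2.trans inf_le_left
      have hdis : Disjoint (E.support : Set X) (W.1 : Set X) := by
        rw [Set.disjoint_left]
        intro y hy hyW
        have : y ∈ (U : Set X) := (W.2.2 hyW).2
        rw [hU] at this
        exact this hy
      have htop : (E ^ n).ideal ⟨W.1, W.2.1⟩ = ⊤ := by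
        rw [Scheme.IdealSheafData.ideal_pow, Pi.pow_apply,
          IdealSh.Extend.ideal_eq_top_of_disjoint hdis ⟨W.1, W.2.1⟩ le_rfl, Ideal.top_pow]
      rw [← Scheme.IdealSheafData.map_ideal _ (U := ⟨W.1, W.2.1⟩) (V := V) hle] at htop
      have h1 : (1 : Γ(X, W.1)) ∈ Ideal.map (X.presheaf.map (homOfLE hle).op).hom ((E ^ n).ideal V) :=
        htop.symm ▸ Submodule.mem_top
      rw [Ideal.map] at h1
      suffices ∀ z ∈ Ideal.span ((X.presheaf.map (homOfLE hle).op).hom '' ((E ^ n).ideal V : Set Γ(X, V.1))),
          z • res M hle m = 0 by simpa using this 1 h1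
      intro z hz
      induction hz using Submodule.span_induction with
      | mem z hz =>
        obtain ⟨a, ha, rfl⟩ := hz
        exact ((res_smul M hle a m).symm.trans (by rw [hn a ha, map_zero]))
      | zero => exact zero_smul _ _
      | add a b _ _ iha ihb => rw [add_smul, iha, ihb, add_zero]
      | smul r b _ ihb => rw [smul_eq_mul, mul_smul, ihb, smul_zero]

/-- `sat` is functorial: retracts go to retracts. -/
theorem exists_sat_retract {M N : X.Modules} (s : M ⟶ N) (r : N ⟶ M) (h : s ≫ r = 𝟙 M) :
    ∃ (s' : sat U M ⟶ sat U N) (r' : sat U N ⟶ sat U M), s' ≫ r' = 𝟙 _ := by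
  have key : ∀ {A B : X.Modules} (f : A ⟶ B), ∃ f' : sat U A ⟶ sat U B, toSat U A ≫ f' = f ≫ toSat U B := by
    intro A B f
    have hc := Abelian.epiIsCokernelOfKernel _ (kernelIsKernel (toSat U A))
    refine ⟨hc.desc (CokernelCofork.ofπ (f ≫ toSat U B) ?_),
      hc.fac (CokernelCofork.ofπ (f ≫ toSat U B) _) WalkingParallelPair.one⟩
    change kernel.ι (toSat U A) ≫ f ≫ toSat U B = 0
    rw [← cancel_mono (satι U B), Category.assoc, Category.assoc, toSat_ι, zero_comp]
    erw [(Scheme.Modules.restrictAdjunction U.ι).unit.naturality f]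
    rw [← toSat_ι U A]
    simp
  obtain ⟨s', hs⟩ := key s
  obtain ⟨r', hr⟩ := key r
  exact ⟨s', r', by rw [← cancel_epi (toSat U M), reassoc_of% hs, hr, reassoc_of% h, Category.comp_id]⟩

/-- A retract of a finite locally free module is finite locally free. -/
theorem isFinLocFree_of_retract {G G' : X.Modules} [G.IsQuasicoherent] [G'.IsQuasicoherent]
    (h : FlatMod.IsFinLocFree G') (s : G ⟶ G') (r : G' ⟶ G) (hsr : s ≫ r = 𝟙 G) :
    FlatMod.IsFinLocFree G := by
  have key : ∀ W : X.Opens, IsAffineOpen W →
      Module.FinitePresentation Γ(X, W) Γ(G, W) ∧ Module.Projective Γ(X, W) Γ(G, W) := by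
    intro W hW
    have := Props.QProj.projective_sections G' h hW
    have := Props.QProj.finitePresentation_sections G' h hW
    let sL := FittLib.StrictSheaf.appLin (π := s) W
    let rL := FittLib.StrictSheaf.appLin (π := r) W
    have hcomp : rL.comp sL = LinearMap.id := LinearMap.ext fun x => by
      show r.app W (s.app W x) = x
      rw [← ConcreteCategory.comp_apply, ← Scheme.Modules.Hom.comp_app, hsr]
      rfl
    have : Module.Projective Γ(X, W) Γ(G, W) := Module.Projective.of_split sL rL hcomp
    have : Module.Finite Γ(X, W) Γ(G, W) :=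
      Module.Finite.of_surjective rL fun x => ⟨sL x, LinearMap.congr_fun hcomp x⟩
    exact ⟨Module.finitePresentation_of_projective _ _, inferInstance⟩
  refine Props.QProj.isFinLocFree_of G (fun x => ?_) fun x => ?_
  · obtain ⟨W, hW, hx, -⟩ := exists_isAffineOpen_mem_and_subset (X := X) (Opens.mem_top x)
    exact ⟨W, hW, hx, (key W hW).1⟩
  · obtain ⟨W, hW, hx, -⟩ := exists_isAffineOpen_mem_and_subset (X := X) (Opens.mem_top x)
    have := (key W hW).1
    have := (key W hW).2
    exact Props.QProj.free_stalk_of_flat G hW hx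

end Groth.Agent.Nagata
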