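import Groth.Agent.Nagata.Boundary
import Groth.Agent.Nagata.Saturate
import Groth.Agent.Nagata.RankFill
import Groth.Agent.HomShQC.Basic
import Groth.Agent.FlatMor.SchDom
import Groth.Agent.S8913
import Groth.Agent.BlowUp.RelAmple
import Groth.Agent.AmpleLib.Functorial
import Groth.Prelude.Def_RelProj

/-!
# Extending locally free modules to compactifications
-/

set_option autoImplicit false
set_option maxHeartbeats 1000000
set_option backward.isDefEq.respectTransparency false
set_option backward.defeqAttrib.useBackward true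

universe u v

noncomputable section

namespace Groth.Agent.Nagata

open AlgebraicGeometry CategoryTheory Limits TopologicalSpace
open scoped ZeroObject
open Groth.Agent.QCoh

/-- A scheme-theoretically dominant quasi-compact open immersion has schematically dense range. -/
lemma isSchematicallyDense_opensRange {X Y : Scheme.{u}} (j : X ⟶ Y) [IsOpenImmersion j]
    [QuasiCompact j] [IsSchemeTheoreticallyDominant j] : CInt.IsSchematicallyDense j.opensRange := by
  intro V
  refine (injective_iff_map_eq_zero _).mpr fun a ha => ?_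
  refine FlatMor.SchDom.app_injective' j (Or.inl inferInstance) V ?_
  have h : j ⁻¹ᵁ V = j ⁻¹ᵁ (V ⊓ j.opensRange) := by
    refine Opens.ext (Set.ext fun x => ⟨fun hx => ⟨hx, x, rfl⟩, fun hx => hx.1⟩)
  rw [map_zero]
  have key := congr(($(j.naturality (homOfLE (inf_le_left : V ⊓ j.opensRange ≤ V)).op)) a)
  rw [CommRingCat.comp_apply, CommRingCat.comp_apply, ha, map_zero] at key
  have key' := congrArg (fun t => X.presheaf.map (homOfLE h.le).op t) key
  simp only [map_zero] at key'
  rw [← CommRingCat.comp_apply, ← Functor.map_comp] at key'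
  refine Eq.trans ?_ key'.symm
  rw [Subsingleton.elim (_ ≫ _) (𝟙 _), X.presheaf.map_id]
  rfl

/-- Rank is preserved by pullback. -/
lemma isFinLocFreeOfRank_pull {X Y : Scheme.{u}} (f : X ⟶ Y) {M : Y.Modules} {r : ℕ}
    (h : FlatMod.IsFinLocFreeOfRank r M) :
    FlatMod.IsFinLocFreeOfRank r ((Scheme.Modules.pullback f).obj M) := fun x => by
  obtain ⟨U, hU, ⟨e⟩⟩ := h (f x)
  exact ⟨f ⁻¹ᵁ U, hU, ⟨KFlat.LocFree.restrictPullIso f U _ le_rfl M ≪≫
    (Scheme.Modules.pullback _).mapIso e ≪≫ KFlat.LocFree.pullFreeIso _ r⟩⟩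

/-- Composing a quasi-projective morphism with a quasi-compact embedding keeps it quasi-projective. -/
lemma isQuasiProjective_embedding_comp {T X Y : Scheme.{u}} {g : X ⟶ Y} (hg : RelProj.IsQuasiProjective g)
    (i : T ⟶ X) [LocallyOfFiniteType i] [QuasiCompact i] (hi : Topology.IsEmbedding i.base) :
    RelProj.IsQuasiProjective (i ≫ g) := by
  obtain ⟨_, _, L, hL⟩ := hg
  refine ⟨inferInstance, inferInstance, (Scheme.Modules.pullback i).obj L, ?_⟩
  obtain ⟨-, hL', hV⟩ := AmpleLib.isRelAmple_iff.mp hL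
  refine AmpleLib.isRelAmple_iff.mpr ⟨inferInstance, PicCl.isInvertible_pullback i hL', fun V ↦ ?_⟩
  exact AmpleLib.ampleOn_pullback_of_isInducing hL' i le_rfl (hV V)
    ((i ≫ g).isCompact_preimage V.2.isCompact) hi.isInducing

variable {S X : Scheme.{u}}

/-- A coherent module locally free on a schematically dense open becomes locally free, modulo
sections vanishing on the open, after a modification. -/
theorem exists_flatten_step_qp (Y : Scheme.{u}) [IsNoetherian Y] (j : X ⟶ Y) [IsOpenImmersion j]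
    [QuasiCompact j] [IsSchemeTheoreticallyDominant j] (F : Y.Modules) (hF : Coh.IsCoh F)
    (hFj : FlatMod.IsFinLocFree ((Scheme.Modules.restrictFunctor j).obj F)) :
    ∃ (Y' : Scheme.{u}) (j' : X ⟶ Y') (c : Y' ⟶ Y) (E' : Y'.Modules)
      (π : (Scheme.Modules.pullback c).obj F ⟶ E'),
      IsOpenImmersion j' ∧ QuasiCompact j' ∧ IsSchemeTheoreticallyDominant j' ∧ IsProper c ∧
      j' ≫ c = j ∧ FlatMod.IsFinLocFree E' ∧ Epi π ∧
      IsIso ((Scheme.Modules.pullback j').map π) ∧
      Set.range j' = (fun z => c z) ⁻¹' Set.range j ∧ RelProj.IsQuasiProjective c := by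
  haveI : CompactSpace X := QuasiCompact.compactSpace_of_compactSpace j
  haveI : IsLocallyNoetherian X := LocallyOfFiniteType.isLocallyNoetherian j
  obtain ⟨R, Q, hQ, hR⟩ := exists_rank_fill hFj
  have hcQ := VBLib.isCoh_of_isFinLocFree hQ
  have hz : Coh.IsQCoh (0 : Y.Modules) := (CohDev.isCoh_of_isZero (isZero_zero _)).1
  obtain ⟨H, -, eH, hH, -⟩ := CohDev.exists_coh_extension j (0 : Y.Modules) hz Q hcQ 0
  have hFH := CohDev.isCoh_biprod hF hH
  let U := j.opensRange
  have hFHR : FlatMod.IsFinLocFreeOfRank R ((F ⊞ H).restrict U.ι) := by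
    haveI : PreservesBinaryBiproducts (Scheme.Modules.restrictFunctor j) :=
      preservesBinaryBiproducts_of_preservesBiproducts _
    let e : (Scheme.Modules.restrictFunctor j).obj (F ⊞ H) ≅
        (Scheme.Modules.restrictFunctor j).obj F ⊞ Q :=
      (Scheme.Modules.restrictFunctor j).mapBiprod F H ≪≫ biprod.mapIso (Iso.refl _) eH
    have h1 : FlatMod.IsFinLocFreeOfRank R ((Scheme.Modules.pullback j).obj (F ⊞ H)) :=
      FittLib.StrictFitt.isFinLocFreeOfRank_congr
        (e.symm ≪≫ (Scheme.Modules.restrictFunctorIsoPullback j).app _) hR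
    exact FittLib.StrictFitt.isFinLocFreeOfRank_congr
      ((Scheme.Modules.pullbackComp j.isoOpensRange.inv j).app _ ≪≫
        (Scheme.Modules.pullbackCongr (Scheme.Hom.isoOpensRange_inv_comp j)).app _ ≪≫
        ((Scheme.Modules.restrictFunctorIsoPullback U.ι).app _).symm)
      (isFinLocFreeOfRank_pull j.isoOpensRange.inv h1)
  obtain ⟨hadm, hbl⟩ := S8913.result Y (F ⊞ H) (HomShQC.isFP_of_isCoh (F ⊞ H) hFH) U
    (isSchematicallyDense_opensRange j) R hFHR
  obtain ⟨Z, b, hb⟩ := BlowUp.Glue.exists_isBlowUp Y (Fitt.sheafIdeal (F ⊞ H) R)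
  haveI : IsProper b := BlowUpProper.Basic.isProper hb hadm.1
  haveI : IsLocallyNoetherian Z := LocallyOfFiniteType.isLocallyNoetherian b
  haveI : CompactSpace Z := QuasiCompact.compactSpace_of_compactSpace b
  haveI : QuasiSeparatedSpace Z := inferInstance
  obtain ⟨o, ho, _, _, hor, -⟩ := exists_lift j hb hadm.2
  let Exc := (Fitt.sheafIdeal (F ⊞ H) R).comap b
  have hExc : BlowUp.IsFiniteTypeIdeal Exc := IdealSh.FinType.comap b hadm.1
  let V : Z.Opens := ⟨(Exc.support : Set Z)ᶜ, Exc.support.isClosed.isOpen_compl⟩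
  let N := (Scheme.Modules.pullback b).obj (F ⊞ H)
  let N₁ := (Scheme.Modules.pullback b).obj F
  haveI : F.IsQuasicoherent := hF.1
  haveI : (F ⊞ H).IsQuasicoherent := hFH.1
  haveI hNq : N.IsQuasicoherent := QCoh.isQuasicoherent_pullback b (F ⊞ H)
  haveI hN₁q : N₁.IsQuasicoherent := QCoh.isQuasicoherent_pullback b F
  have hk := killsTorsion_toSat V N hExc rfl
  have hk₁ := killsTorsion_toSat V N₁ hExc rfl
  haveI : (sat V N).IsQuasicoherent := FittLib.StrictSheaf.isQuasicoherent_of_kills hb.1 hk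
  haveI : (sat V N₁).IsQuasicoherent := FittLib.StrictSheaf.isQuasicoherent_of_kills hb.1 hk₁
  obtain ⟨hG, -, -⟩ := hbl Z b hb (sat V N) (toSat V N) ⟨inferInstance, hk⟩
  obtain ⟨s, r, hsr⟩ := exists_sat_retract V
    ((Scheme.Modules.pullback b).map (biprod.inl : F ⟶ F ⊞ H))
    ((Scheme.Modules.pullback b).map (biprod.fst : F ⊞ H ⟶ F))
    (by rw [← Functor.map_comp, biprod.inl_fst, CategoryTheory.Functor.map_id])
  have hG₁ : FlatMod.IsFinLocFree (sat V N₁) :=
    isFinLocFree_of_retract (fun x => by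
      obtain ⟨W, hx, h⟩ := hG x; exact ⟨W, R, hx, h⟩) s r hsr
  haveI : IsIso ((Scheme.Modules.restrictFunctor o).map (toSat V N₁)) := by
    refine isIso_restrict_toSat V N₁ o ?_
    rintro z ⟨x, rfl⟩
    show o x ∈ (Exc.support : Set Z)ᶜ
    rw [Scheme.IdealSheafData.support_comap]
    show b (o x) ∉ ((Fitt.sheafIdeal (F ⊞ H) R).support : Set Y)
    rw [← Scheme.Hom.comp_apply, ho]
    exact fun h => Set.disjoint_left.mp hadm.2 h ⟨x, rfl⟩
  haveI : IsIso ((Scheme.Modules.pullback o).map (toSat V N₁)) :=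
    (NatIso.isIso_map_iff (Scheme.Modules.restrictFunctorIsoPullback o) (toSat V N₁)).mp inferInstance
  haveI : IsIso ((Scheme.Modules.pullback o.imageι ⋙ Scheme.Modules.pullback o.toImage).map (toSat V N₁)) :=
    (NatIso.isIso_map_iff (Scheme.Modules.pullbackComp o.toImage o.imageι ≪≫
      Scheme.Modules.pullbackCongr o.toImage_imageι) (toSat V N₁)).mpr inferInstance
  let π : (Scheme.Modules.pullback (o.imageι ≫ b)).obj F ⟶
      (Scheme.Modules.pullback o.imageι).obj (sat V N₁) :=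
    ((Scheme.Modules.pullbackComp o.imageι b).app F).inv ≫
      (Scheme.Modules.pullback o.imageι).map (toSat V N₁)
  haveI : (Scheme.Modules.pullback o.imageι).IsLeftAdjoint :=
    (Scheme.Modules.pullbackPushforwardAdjunction o.imageι).isLeftAdjoint
  have hπ : Epi π := inferInstanceAs (Epi (_ ≫ (Scheme.Modules.pullback o.imageι).map (toSat V N₁)))
  have hπi : IsIso ((Scheme.Modules.pullback o.toImage).map π) := by
    haveI : IsIso ((Scheme.Modules.pullback o.toImage).map
        ((Scheme.Modules.pullback o.imageι).map (toSat V N₁))) :=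
      inferInstanceAs (IsIso ((Scheme.Modules.pullback o.imageι ⋙
        Scheme.Modules.pullback o.toImage).map (toSat V N₁)))
    simp only [π, Functor.map_comp]
    infer_instance
  haveI : QuasiCompact (o.toImage ≫ o.imageι) := by rw [Scheme.Hom.toImage_imageι]; infer_instance
  refine ⟨o.image, o.toImage, o.imageι ≫ b, (Scheme.Modules.pullback o.imageι).obj (sat V N₁), π,
    FlatMor.SchDom.isOpenImmersion_toImage' o (Or.inl inferInstance),
    QuasiCompact.of_comp _ o.imageι, FlatMor.SchDom.toImage_dominant o (Or.inl inferInstance),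
    inferInstance, by rw [← Category.assoc, Scheme.Hom.toImage_imageι, ho],
    KFlat.LocFree.isFinLocFree_pull o.imageι hG₁, hπ, hπi, ?_,
    isQuasiProjective_embedding_comp ⟨inferInstance, inferInstance, _,
      BlowUp.RelAmple.isRelAmple_exceptional hb hadm.1⟩ o.imageι o.imageι.isClosedEmbedding.isEmbedding⟩
  refine Set.Subset.antisymm ?_ fun z hz => ?_
  · rintro _ ⟨x, rfl⟩
    refine ⟨x, ?_⟩
    show j x = (o.imageι ≫ b) (o.toImage x)
    rw [← Scheme.Hom.comp_apply, ← Category.assoc, Scheme.Hom.toImage_imageι, ho]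
  · have h1 : o.imageι z ∈ Set.range o := by
      rw [hor]
      exact hz
    obtain ⟨x, hx⟩ := h1
    refine ⟨x, o.imageι.isClosedEmbedding.injective ?_⟩
    rw [← Scheme.Hom.comp_apply, Scheme.Hom.toImage_imageι, hx]

/-- `exists_flatten_step_qp` without the quasi-projectivity. -/
theorem exists_flatten_step (Y : Scheme.{u}) [IsNoetherian Y] (j : X ⟶ Y) [IsOpenImmersion j]
    [QuasiCompact j] [IsSchemeTheoreticallyDominant j] (F : Y.Modules) (hF : Coh.IsCoh F)
    (hFj : FlatMod.IsFinLocFree ((Scheme.Modules.restrictFunctor j).obj F)) :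
    ∃ (Y' : Scheme.{u}) (j' : X ⟶ Y') (c : Y' ⟶ Y) (E' : Y'.Modules)
      (π : (Scheme.Modules.pullback c).obj F ⟶ E'),
      IsOpenImmersion j' ∧ QuasiCompact j' ∧ IsSchemeTheoreticallyDominant j' ∧ IsProper c ∧
      j' ≫ c = j ∧ FlatMod.IsFinLocFree E' ∧ Epi π ∧
      IsIso ((Scheme.Modules.pullback j').map π) ∧
      Set.range j' = (fun z => c z) ⁻¹' Set.range j :=
  let ⟨Y', j', c, E', π, h1, h2, h3, h4, h5, h6, h7, h8, h9, _⟩ := exists_flatten_step_qp Y j F hF hFj
  ⟨Y', j', c, E', π, h1, h2, h3, h4, h5, h6, h7, h8, h9⟩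

/-- One finite locally free module extends after modifying the compactification. -/
theorem exists_extend_step_qp (Y : Scheme.{u}) [IsNoetherian Y] (j : X ⟶ Y) [IsOpenImmersion j]
    [QuasiCompact j] [IsSchemeTheoreticallyDominant j] (E : X.Modules) (hE : FlatMod.IsFinLocFree E) :
    ∃ (Y' : Scheme.{u}) (j' : X ⟶ Y') (c : Y' ⟶ Y) (E' : Y'.Modules),
      IsOpenImmersion j' ∧ QuasiCompact j' ∧ IsSchemeTheoreticallyDominant j' ∧ IsProper c ∧
      j' ≫ c = j ∧ FlatMod.IsFinLocFree E' ∧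
      Nonempty ((Scheme.Modules.pullback j').obj E' ≅ E) ∧
      Set.range j' = (fun z => c z) ⁻¹' Set.range j ∧ RelProj.IsQuasiProjective c := by
  haveI : CompactSpace X := QuasiCompact.compactSpace_of_compactSpace j
  haveI : IsLocallyNoetherian X := LocallyOfFiniteType.isLocallyNoetherian j
  have hz : Coh.IsQCoh (0 : Y.Modules) := (CohDev.isCoh_of_isZero (isZero_zero _)).1
  obtain ⟨F, -, eF, hF, -⟩ :=
    CohDev.exists_coh_extension j (0 : Y.Modules) hz E (VBLib.isCoh_of_isFinLocFree hE) 0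
  obtain ⟨Y', j', c, E', π, h1, h2, h3, h4, h5, h6, -, h8, h9⟩ :=
    exists_flatten_step_qp Y j F hF (KFlat.LocFree.isFinLocFree_of_iso eF.symm hE)
  exact ⟨Y', j', c, E', h1, h2, h3, h4, h5, h6,
    ⟨(asIso ((Scheme.Modules.pullback j').map π)).symm ≪≫ (Scheme.Modules.pullbackComp j' c).app F ≪≫
      (Scheme.Modules.pullbackCongr h5).app F ≪≫
      ((Scheme.Modules.restrictFunctorIsoPullback j).app F).symm ≪≫ eF⟩, h9⟩

/-- `exists_extend_step_qp` without the quasi-projectivity. -/
theorem exists_extend_step (Y : Scheme.{u}) [IsNoetherian Y] (j : X ⟶ Y) [IsOpenImmersion j]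
    [QuasiCompact j] [IsSchemeTheoreticallyDominant j] (E : X.Modules) (hE : FlatMod.IsFinLocFree E) :
    ∃ (Y' : Scheme.{u}) (j' : X ⟶ Y') (c : Y' ⟶ Y) (E' : Y'.Modules),
      IsOpenImmersion j' ∧ QuasiCompact j' ∧ IsSchemeTheoreticallyDominant j' ∧ IsProper c ∧
      j' ≫ c = j ∧ FlatMod.IsFinLocFree E' ∧
      Nonempty ((Scheme.Modules.pullback j').obj E' ≅ E) ∧
      Set.range j' = (fun z => c z) ⁻¹' Set.range j :=
  let ⟨Y', j', c, E', h1, h2, h3, h4, h5, h6, h7, h8, _⟩ := exists_extend_step_qp Y j E hE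
  ⟨Y', j', c, E', h1, h2, h3, h4, h5, h6, h7, h8⟩

/-- Nagata compactification extending a finite family of finite locally free modules. -/
theorem exists_compactification_extending (f : X ⟶ S) [IsNoetherian S] [IsSeparated f]
    [QuasiCompact f] [LocallyOfFiniteType f] {ι : Type v} [Finite ι] (E : ι → X.Modules)
    (hE : ∀ i, FlatMod.IsFinLocFree (E i)) :
    ∃ (X' : Scheme.{u}) (j : X ⟶ X') (g : X' ⟶ S), IsOpenImmersion j ∧ QuasiCompact j ∧
      IsSchemeTheoreticallyDominant j ∧ IsProper g ∧ j ≫ g = f ∧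
      ∀ i, ∃ E' : X'.Modules, FlatMod.IsFinLocFree E' ∧
        Nonempty ((Scheme.Modules.pullback j).obj E' ≅ E i) := by
  classical
  haveI : Fintype ι := Fintype.ofFinite ι
  suffices ∀ s : Finset ι, ∃ (X' : Scheme.{u}) (j : X ⟶ X') (g : X' ⟶ S), IsOpenImmersion j ∧
      QuasiCompact j ∧ IsSchemeTheoreticallyDominant j ∧ IsProper g ∧ j ≫ g = f ∧
      ∀ i ∈ s, ∃ E' : X'.Modules, FlatMod.IsFinLocFree E' ∧
        Nonempty ((Scheme.Modules.pullback j).obj E' ≅ E i) by
    obtain ⟨X', j, g, h1, h2, h3, h4, h5, h6⟩ := this Finset.univ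
    exact ⟨X', j, g, h1, h2, h3, h4, h5, fun i => h6 i (Finset.mem_univ i)⟩
  intro s
  induction s using Finset.induction with
  | empty =>
    obtain ⟨Y, j, p, -, hj, hjc, hjd, hp, hjp, -, -⟩ := exists_compactification_boundary f
    exact ⟨Y, j, p, hj, hjc, hjd, hp, hjp, fun i hi => absurd hi (by simp)⟩
  | @insert a s _ ih =>
    obtain ⟨Y, j, g, hj, hjc, hjd, hg, hjg, hall⟩ := ih
    haveI : CompactSpace Y := QuasiCompact.compactSpace_of_compactSpace g
    haveI : IsLocallyNoetherian Y := LocallyOfFiniteType.isLocallyNoetherian g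
    haveI : IsNoetherian Y := {}
    obtain ⟨Y', j', c, E', hj', hjc', hjd', hc, hjj, hE', he', -⟩ := exists_extend_step Y j (E a) (hE a)
    refine ⟨Y', j', c ≫ g, hj', hjc', hjd', inferInstance, by rw [← Category.assoc, hjj, hjg],
      fun i hi => ?_⟩
    rcases Finset.mem_insert.mp hi with rfl | hi
    · exact ⟨E', hE', he'⟩
    · obtain ⟨E₀, hE₀, ⟨e₀⟩⟩ := hall i hi
      exact ⟨(Scheme.Modules.pullback c).obj E₀, KFlat.LocFree.isFinLocFree_pull c hE₀,
        ⟨(Scheme.Modules.pullbackComp j' c).app _ ≪≫ (Scheme.Modules.pullbackCongr hjj).app _ ≪≫ e₀⟩⟩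

/-- A modification with the exact preimage of the open is an isomorphism over it. -/
lemma isIso_restrict_of_lift {Y Y' : Scheme.{u}} (U : Y.Opens) (c : Y' ⟶ Y) (j' : U.toScheme ⟶ Y')
    [IsOpenImmersion j'] (h : j' ≫ c = U.ι)
    (hr : Set.range j' = (fun z => c z) ⁻¹' (U : Set Y)) :
    ∃ k : U.toScheme ⟶ (c ⁻¹ᵁ U).toScheme, IsIso k ∧ k ≫ (c ⁻¹ᵁ U).ι = j' ∧
      k ≫ (c ∣_ U) = 𝟙 _ ∧ IsIso (c ∣_ U) := by
  let e := IsOpenImmersion.isoOfRangeEq j' (c ⁻¹ᵁ U).ι (by rw [hr, Scheme.Opens.range_ι]; rfl)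
  have he : e.hom ≫ (c ⁻¹ᵁ U).ι = j' := IsOpenImmersion.isoOfRangeEq_hom_fac _ _ _
  have hk : e.hom ≫ (c ∣_ U) = 𝟙 _ := by
    rw [← cancel_mono U.ι, Category.assoc, morphismRestrict_ι, reassoc_of% he, h, Category.id_comp]
  refine ⟨e.hom, inferInstance, he, hk, ?_⟩
  have : IsIso (e.hom ≫ (c ∣_ U)) := by rw [hk]; infer_instance
  exact IsIso.of_isIso_comp_left e.hom _

end Groth.Agent.Nagata
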