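import Groth.Agent.Nagata.Bundle
import Groth.Agent.Omega.KernelLocFree
import Groth.Agent.KFlat.FlatPull

/-!
# Compactifications extending short exact sequences of locally free modules
-/

set_option autoImplicit false
set_option maxHeartbeats 1000000
set_option backward.isDefEq.respectTransparency false
set_option backward.defeqAttrib.useBackward true

universe u

noncomputable section

namespace Groth.Agent.Nagata

open AlgebraicGeometry CategoryTheory Limits TopologicalSpace
open scoped ZeroObject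
open Groth.Agent.QCoh

variable {S X : Scheme.{u}}

/-- Pull back an epimorphism with identified restriction along a modification. -/
lemma exists_epi_pull {Y Y' : Scheme.{u}} (j : X ⟶ Y) (j' : X ⟶ Y') (c : Y' ⟶ Y) (h : j' ≫ c = j)
    {G G' : Y.Modules} (p : G ⟶ G') [Epi p] {A B : X.Modules} (g : A ⟶ B)
    (a : (Scheme.Modules.pullback j).obj G ≅ A) (b : (Scheme.Modules.pullback j).obj G' ≅ B)
    (hp : (Scheme.Modules.pullback j).map p ≫ b.hom = a.hom ≫ g) :
    ∃ (a' : (Scheme.Modules.pullback j').obj ((Scheme.Modules.pullback c).obj G) ≅ A)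
      (b' : (Scheme.Modules.pullback j').obj ((Scheme.Modules.pullback c).obj G') ≅ B),
      Epi ((Scheme.Modules.pullback c).map p) ∧
      (Scheme.Modules.pullback j').map ((Scheme.Modules.pullback c).map p) ≫ b'.hom = a'.hom ≫ g := by
  haveI : (Scheme.Modules.pullback c).IsLeftAdjoint :=
    (Scheme.Modules.pullbackPushforwardAdjunction c).isLeftAdjoint
  let θ := Scheme.Modules.pullbackComp j' c ≪≫ Scheme.Modules.pullbackCongr h
  refine ⟨θ.app G ≪≫ a, θ.app G' ≪≫ b, inferInstance, ?_⟩
  rw [Iso.trans_hom, Iso.trans_hom, Category.assoc, ← hp]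
  show (Scheme.Modules.pullback c ⋙ Scheme.Modules.pullback j').map p ≫ θ.hom.app G' ≫ b.hom = _
  rw [θ.hom.naturality_assoc]
  rfl

/-- An epimorphism of locally free modules on an open extends to one on a modification of a given
compactification. -/
theorem exists_extend_epi (Y : Scheme.{u}) [IsNoetherian Y] (j : X ⟶ Y) [IsOpenImmersion j]
    [QuasiCompact j] [IsSchemeTheoreticallyDominant j] (G : Y.Modules) (hG : FlatMod.IsFinLocFree G)
    {A B : X.Modules} (a : (Scheme.Modules.pullback j).obj G ≅ A) (g : A ⟶ B) [Epi g]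
    (hB : FlatMod.IsFinLocFree B) :
    ∃ (Y' : Scheme.{u}) (j' : X ⟶ Y') (c : Y' ⟶ Y) (G₂ G₃ : Y'.Modules) (p : G₂ ⟶ G₃)
      (a' : (Scheme.Modules.pullback j').obj G₂ ≅ A) (b' : (Scheme.Modules.pullback j').obj G₃ ≅ B),
      IsOpenImmersion j' ∧ QuasiCompact j' ∧ IsSchemeTheoreticallyDominant j' ∧ IsProper c ∧
      j' ≫ c = j ∧ FlatMod.IsFinLocFree G₂ ∧ FlatMod.IsFinLocFree G₃ ∧ Epi p ∧
      (Scheme.Modules.pullback j').map p ≫ b'.hom = a'.hom ≫ g := by
  haveI : CompactSpace X := QuasiCompact.compactSpace_of_compactSpace j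
  haveI : IsLocallyNoetherian X := LocallyOfFiniteType.isLocallyNoetherian j
  haveI : QuasiSeparated j := inferInstance
  haveI hGq : G.IsQuasicoherent := (VBLib.isCoh_of_isFinLocFree hG).1
  haveI hBq : B.IsQuasicoherent := (VBLib.isCoh_of_isFinLocFree hB).1
  haveI := QCoh.isQuasicoherent_pushforward j B
  let R := Scheme.Modules.restrictFunctor j
  let adj := Scheme.Modules.restrictAdjunction j
  let a₀ : R.obj G ≅ A := (Scheme.Modules.restrictFunctorIsoPullback j).app G ≪≫ a
  let u₀ : G ⟶ (Scheme.Modules.pushforward j).obj B := adj.homEquiv G B (a₀.hom ≫ g)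
  let F := Abelian.image u₀
  let p₀ : G ⟶ F := Abelian.factorThruImage u₀
  let v : F ⟶ (Scheme.Modules.pushforward j).obj B := Abelian.image.ι u₀
  have hv : p₀ ≫ v = u₀ := Abelian.image.fac _
  have hF : Coh.IsCoh F := by
    have hk : Coh.IsCoh (kernel u₀) := VBLib.isCoh_of_mono (kernel.ι u₀) (VBLib.isCoh_of_isFinLocFree hG)
    have hc : Coh.IsCoh (Abelian.coimage u₀) :=
      VBLib.isCoh_cokernel (kernel.ι u₀) hk (VBLib.isCoh_of_isFinLocFree hG)
    exact CohDev.isCoh_of_iso (Abelian.coimageIsoImage u₀) hc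
  let w : R.obj F ⟶ B := (adj.homEquiv F B).symm v
  have hw : R.map p₀ ≫ w = a₀.hom ≫ g := by
    rw [← Adjunction.homEquiv_naturality_left_symm, hv]
    exact (adj.homEquiv G B).symm_apply_apply _
  haveI : Epi w := by
    haveI : Epi (R.map p₀ ≫ w) := by rw [hw]; infer_instance
    exact epi_of_epi (R.map p₀) w
  haveI : Mono w := by
    have hw' : w = R.map v ≫ adj.counit.app B := Adjunction.homEquiv_counit adj _ _ v
    rw [hw']
    infer_instance
  haveI : IsIso w := isIso_of_mono_of_epi w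
  obtain ⟨Y', j', c, E', π, h1, h2, h3, h4, h5, h6, hπ, hπi, -⟩ :=
    exists_flatten_step Y j F hF (KFlat.LocFree.isFinLocFree_of_iso (asIso w).symm hB)
  let b₀ : (Scheme.Modules.pullback j).obj F ≅ B :=
    ((Scheme.Modules.restrictFunctorIsoPullback j).app F).symm ≪≫ asIso w
  have hp₀ : (Scheme.Modules.pullback j).map p₀ ≫ b₀.hom = a.hom ≫ g := by
    have : (Scheme.Modules.restrictFunctorIsoPullback j).hom.app G ≫ (Scheme.Modules.pullback j).map p₀ ≫
        b₀.hom = (Scheme.Modules.restrictFunctorIsoPullback j).hom.app G ≫ a.hom ≫ g := by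
      rw [← (Scheme.Modules.restrictFunctorIsoPullback j).hom.naturality_assoc]
      simpa [b₀, a₀, R] using hw
    exact (cancel_epi _).mp this
  haveI : Epi p₀ := inferInstanceAs (Epi (Abelian.factorThruImage u₀))
  obtain ⟨a', b', hep, hcomm⟩ := exists_epi_pull j j' c h5 p₀ g a b₀ hp₀
  refine ⟨Y', j', c, (Scheme.Modules.pullback c).obj G, E', (Scheme.Modules.pullback c).map p₀ ≫ π,
    a', (asIso ((Scheme.Modules.pullback j').map π)).symm ≪≫ b', h1, h2, h3, h4, h5,
    KFlat.LocFree.isFinLocFree_pull c hG, h6, epi_comp _ _, ?_⟩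
  rw [Functor.map_comp, Category.assoc, Iso.trans_hom, Iso.symm_hom, asIso_inv,
    IsIso.hom_inv_id_assoc]
  exact hcomm

/-- Compactification with effective Cartier boundary extending a short exact sequence of finite
locally free modules. -/
theorem exists_compactification_extending_seq (f : X ⟶ S) [IsNoetherian S] [IsSeparated f]
    [QuasiCompact f] [LocallyOfFiniteType f] (T : ShortComplex X.Modules) (hT : T.ShortExact)
    (h₂ : FlatMod.IsFinLocFree T.X₂) (h₃ : FlatMod.IsFinLocFree T.X₃) :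
    ∃ (Z : Scheme.{u}) (j : X ⟶ Z) (g : Z ⟶ S) (E : Z.IdealSheafData),
      IsOpenImmersion j ∧ IsProper g ∧ j ≫ g = f ∧
      BlowUp.IsEffCartierIdeal E ∧ (E.support : Set Z) = (Set.range j.base)ᶜ ∧
      ∃ (T' : ShortComplex Z.Modules), T'.ShortExact ∧
        FlatMod.IsFinLocFree T'.X₁ ∧ FlatMod.IsFinLocFree T'.X₂ ∧ FlatMod.IsFinLocFree T'.X₃ ∧
        ∃ (e₁ : (Scheme.Modules.pullback j).obj T'.X₁ ≅ T.X₁)
          (e₂ : (Scheme.Modules.pullback j).obj T'.X₂ ≅ T.X₂)
          (e₃ : (Scheme.Modules.pullback j).obj T'.X₃ ≅ T.X₃),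
          (Scheme.Modules.pullback j).map T'.f ≫ e₂.hom = e₁.hom ≫ T.f ∧
          (Scheme.Modules.pullback j).map T'.g ≫ e₃.hom = e₂.hom ≫ T.g := by
  obtain ⟨Y, j, g, hj, hjc, hjd, hg, hjg, hall⟩ :=
    exists_compactification_extending f (fun _ : Unit => T.X₂) (fun _ => h₂)
  obtain ⟨G, hG, ⟨a⟩⟩ := hall ()
  haveI : CompactSpace Y := QuasiCompact.compactSpace_of_compactSpace g
  haveI : IsLocallyNoetherian Y := LocallyOfFiniteType.isLocallyNoetherian g
  haveI : IsNoetherian Y := {}
  haveI := hT.epi_g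
  haveI := hT.mono_f
  obtain ⟨Y', j', c, G₂, G₃, p, a', b', hj', hjc', hjd', hc, hjj, hG₂, hG₃, hp, hcomm⟩ :=
    exists_extend_epi Y j G hG a T.g h₃
  haveI : CompactSpace Y' := QuasiCompact.compactSpace_of_compactSpace c
  haveI : IsLocallyNoetherian Y' := LocallyOfFiniteType.isLocallyNoetherian c
  haveI : QuasiSeparatedSpace Y' := quasiSeparatedSpace_of_quasiSeparated c
  haveI : CompactSpace X := QuasiCompact.compactSpace_of_compactSpace f
  obtain ⟨H, hH, hHs⟩ := QDom.Global.exists_support_eq_compl (V := j'.opensRange)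
    (isCompact_range j'.continuous)
  obtain ⟨Z, d, hd⟩ := BlowUp.Glue.exists_isBlowUp Y' H
  haveI : IsProper d := BlowUpProper.Basic.isProper hd hH
  haveI : CompactSpace Z := QuasiCompact.compactSpace_of_compactSpace d
  haveI : QuasiSeparatedSpace Z := quasiSeparatedSpace_of_quasiSeparated d
  obtain ⟨o, ho, hoo, -, hor, -⟩ := exists_lift j' hd (by rw [hHs]; exact disjoint_compl_left)
  obtain ⟨a'', b'', hep, hcomm'⟩ := exists_epi_pull j' o d ho p T.g a' b' hcomm
  set q := (Scheme.Modules.pullback d).map p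
  have hq₂ := KFlat.LocFree.isFinLocFree_pull d hG₂
  have hq₃ := KFlat.LocFree.isFinLocFree_pull d hG₃
  haveI := (VBLib.isCoh_of_isFinLocFree hq₂).1
  haveI := (VBLib.isCoh_of_isFinLocFree hq₃).1
  haveI : Flat o := inferInstance
  let e₁ : (Scheme.Modules.pullback o).obj (kernel q) ≅ T.X₁ :=
    PreservesKernel.iso (Scheme.Modules.pullback o) q ≪≫ kernel.mapIso _ T.g a'' b'' hcomm' ≪≫
      IsLimit.conePointUniqueUpToIso (kernelIsKernel T.g) hT.fIsKernel
  refine ⟨Z, o, d ≫ c ≫ g, H.comap d, hoo, inferInstance,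
    by rw [← Category.assoc, ho, ← Category.assoc, hjj, hjg], hd.1, ?_,
    ShortComplex.mk (kernel.ι q) q (kernel.condition q),
    { exact := ShortComplex.exact_of_f_is_kernel _ (kernelIsKernel q) },
    Omega.KernelLocFree.isFinLocFree (kernel.ι q) q (kernel.condition q)
      (ShortComplex.exact_of_f_is_kernel _ (kernelIsKernel q)) hq₂ hq₃,
    hq₂, hq₃, e₁, a'', b'', ?_, hcomm'⟩
  · rw [Scheme.IdealSheafData.support_comap]
    show (fun y => d y) ⁻¹' (H.support : Set Y') = (Set.range o)ᶜ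
    rw [hHs, hor, Set.preimage_compl]
    rfl
  · have h := IsLimit.conePointUniqueUpToIso_hom_comp (kernelIsKernel T.g) hT.fIsKernel
      WalkingParallelPair.zero
    simp only [Fork.app_zero_eq_ι] at h
    simp only [e₁, Iso.trans_hom, Category.assoc]
    erw [h]
    simp [kernel.mapIso, PreservesKernel.iso_hom]

end Groth.Agent.Nagata
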