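import Groth.Agent.Nagata.PairGen
import Groth.Agent.QDom.Graph
import Groth.Agent.QDom.Pair
import Groth.Agent.BlowSep.SepProd

/-!
# Models of the two pieces of a scheme with well separated boundaries

`X` is the union of two quasi-compact opens `U 0`, `U 1`, each with a compactification over `S`.
We produce compactifications `P i` with quasi-compact opens `M i ⊇ U i` in which the graph of `U i`
over `X` is closed, such that `M i` contains the closure of `U i \ U (1 - i)` and the closure of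
`U 0 ⊓ U 1` in `P 0 ×ₛ P 1` lies over `M 0` or over `M 1`.
-/

set_option autoImplicit false
set_option maxHeartbeats 1000000
set_option backward.isDefEq.respectTransparency false
set_option backward.defeqAttrib.useBackward true

universe u

namespace Groth.Agent.Nagata

open AlgebraicGeometry CategoryTheory Limits TopologicalSpace
open IntMult (stalkIdeal)
open Groth.Agent.IdealSh Groth.Agent.BlowSep

/-- A compact subset of an open of a scheme lies in a quasi-compact open inside it. -/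
lemma exists_qc_between {X : Scheme.{u}} {K : Set X} (hK : IsCompact K) (O : X.Opens)
    (hKO : K ⊆ O) : ∃ W : X.Opens, IsCompact (W : Set X) ∧ K ⊆ W ∧ W ≤ O := by
  have h (x : K) : ∃ V : X.Opens, IsAffineOpen V ∧ (x : X) ∈ V ∧ V ≤ O := by
    obtain ⟨V, hV, hxV, hVO⟩ :=
      Opens.isBasis_iff_nbhd.mp X.isBasis_affineOpens (U := O) (hKO x.2)
    exact ⟨V, hV, hxV, hVO⟩
  choose V hV hxV hVO using h
  obtain ⟨t, ht⟩ := hK.elim_finite_subcover (fun x : K => (V x : Set X)) (fun x => (V x).2)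
    (fun x hx => Set.mem_iUnion.mpr ⟨⟨x, hx⟩, hxV _⟩)
  refine ⟨t.sup V, ?_, fun x hx => ?_, Finset.sup_le fun x _ => hVO x⟩
  · rw [Finset.sup_eq_iSup]
    simp only [Opens.coe_iSup]
    exact t.finite_toSet.isCompact_biUnion fun x _ => (hV x).isCompact
  · obtain ⟨a, ha, hxa⟩ := Set.mem_iUnion₂.mp (ht hx)
    exact SetLike.le_def.mp (Finset.le_sup ha) hxa

variable {S X : Scheme.{u}} [CompactSpace S] [QuasiSeparatedSpace S]
  (gX : X ⟶ S) [IsSeparated gX] [QuasiCompact gX] [LocallyOfFiniteType gX]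

/-- A piece of `X` with a compactification has a modification mapping properly to `X`. -/
theorem exists_piece (U : X.Opens) (hU : IsCompact (U : Set X)) {Y : Scheme.{u}}
    (j : U.toScheme ⟶ Y) [IsOpenImmersion j] (π : Y ⟶ S) [IsProper π]
    (hj : j ≫ π = U.ι ≫ gX) :
    ∃ (Xi P : Scheme.{u}) (q : Xi ⟶ X) (o : Xi ⟶ P) (gb : P ⟶ S) (u : U.toScheme ⟶ Xi),
      IsProper q ∧ IsProper gb ∧ IsOpenImmersion o ∧ QuasiCompact o ∧ IsOpenImmersion u ∧
      q ≫ gX = o ≫ gb ∧ u ≫ q = U.ι ∧ Set.range u = (fun w => q w) ⁻¹' (U : Set X) := by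
  have : CompactSpace Y := QuasiCompact.compactSpace_of_compactSpace π
  have : QuasiSeparatedSpace Y := quasiSeparatedSpace_of_quasiSeparated π
  have : CompactSpace X := QuasiCompact.compactSpace_of_compactSpace gX
  have : QuasiSeparatedSpace X := quasiSeparatedSpace_of_quasiSeparated gX
  have : CompactSpace U.toScheme := isCompact_iff_compactSpace.mp hU
  let O := j.opensRange
  have hO : IsCompact (O : Set Y) := isCompact_range j.continuous
  let f : O.toScheme ⟶ X := j.isoOpensRange.inv ≫ U.ι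
  have hf : O.ι ≫ π = f ≫ gX := by
    rw [← Scheme.Hom.isoOpensRange_inv_comp j, Category.assoc, hj, Category.assoc]
  obtain ⟨𝓘, Y', b, hb, hadm, -, W, hle, h, hh, hag, hclosed, hdom⟩ :=
    QDom.Main.exists_extension' π gX O O le_rfl hO hO f hf
      (QDom.Graph.closure_inter_subset π gX O f hf)
  have : IsProper b := BlowUpProper.Basic.isProper hb hadm.1
  have : CompactSpace Y' := QuasiCompact.compactSpace_of_compactSpace b
  have : QuasiSeparatedSpace Y' := quasiSeparatedSpace_of_quasiSeparated b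
  let Γ := pullback.lift (f := b ≫ π) (g := gX) W.ι h hh
  have : IsImmersion (Γ ≫ pullback.fst (b ≫ π) gX) := by
    rw [pullback.lift_fst]; infer_instance
  have : IsImmersion Γ := IsImmersion.of_comp Γ (pullback.fst (b ≫ π) gX)
  have : IsClosedImmersion Γ := IsClosedImmersion.of_isPreimmersion _ hclosed
  have hp : IsProper h := by
    rw [← pullback.lift_snd (f := b ≫ π) (g := gX) W.ι h hh]; infer_instance
  have : CompactSpace W.toScheme := QuasiCompact.compactSpace_of_compactSpace h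
  have := BlowUp.Basic.isIso_restrict hb O hadm.2.symm
  let k := j.isoOpensRange.hom ≫ inv (b ∣_ O)
  let u : U.toScheme ⟶ W.toScheme := k ≫ Y'.homOfLE hle
  have hu : u ≫ h = U.ι := by
    simp only [u, k, Category.assoc, hag, f, IsIso.inv_hom_id_assoc, Iso.hom_inv_id_assoc]
  have : IsSchemeTheoreticallyDominant u := inferInstance
  have : QuasiSeparatedSpace W.toScheme := quasiSeparatedSpace_of_quasiSeparated W.ι
  have : QuasiCompact u := QuasiCompact.of_comp _ (terminal.from W.toScheme)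
  have hud : DenseRange u := u.denseRange
  refine ⟨W.toScheme, Y', h, W.ι, b ≫ π, u, hp, inferInstance, inferInstance,
    QuasiCompact.of_comp _ (terminal.from Y'), inferInstance, hh.symm, hu, ?_⟩
  refine Set.Subset.antisymm ?_ fun w hw => ?_
  · rintro _ ⟨x, rfl⟩
    show h (u x) ∈ U
    rw [← Scheme.Hom.comp_apply, hu]
    exact x.2
  · let σ : U.toScheme ⟶ (h ⁻¹ᵁ U).toScheme := IsOpenImmersion.lift (h ⁻¹ᵁ U).ι u (by
      rw [Scheme.Opens.range_ι]
      rintro _ ⟨x, rfl⟩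
      show h (u x) ∈ U
      rw [← Scheme.Hom.comp_apply, hu]
      exact x.2)
    have hσ : σ ≫ (h ⁻¹ᵁ U).ι = u := IsOpenImmersion.lift_fac _ _ _
    have hsec : σ ≫ (h ∣_ U) = 𝟙 _ := by
      rw [← cancel_mono U.ι, Category.assoc, morphismRestrict_ι, reassoc_of% hσ, hu,
        Category.id_comp]
    have : IsClosedImmersion (σ ≫ (h ∣_ U)) := hsec ▸ inferInstance
    have : IsClosedImmersion σ := IsClosedImmersion.of_comp σ (h ∣_ U)
    have hmem : (⟨w, hw⟩ : (h ⁻¹ᵁ U).toScheme) ∈ closure (Set.range σ) := by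
      have h1 : (⟨w, hw⟩ : (h ⁻¹ᵁ U).toScheme) ∈ (h ⁻¹ᵁ U).ι ⁻¹' closure (Set.range u) := hud w
      rw [(h ⁻¹ᵁ U).ι.isOpenEmbedding.isOpenMap.preimage_closure_eq_closure_preimage
        (h ⁻¹ᵁ U).ι.continuous] at h1
      refine closure_mono ?_ h1
      rintro t ⟨x, hx⟩
      exact ⟨x, (h ⁻¹ᵁ U).ι.isOpenEmbedding.injective (by rw [← Scheme.Hom.comp_apply, hσ]; exact hx)⟩
    rw [σ.isClosedEmbedding.isClosed_range.closure_eq] at hmem
    obtain ⟨x, hx⟩ := hmem
    refine ⟨x, ?_⟩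
    rw [← hσ, Scheme.Hom.comp_apply, hx]
    rfl

omit [CompactSpace S] [QuasiSeparatedSpace S] in
/-- Blowing up the sum of two ideals separates the closures of the sets they cut out. -/
lemma disjoint_closure_blowUp {Z Z' : Scheme.{u}} (J K : Z.IdealSheafData) (q : Z' ⟶ Z)
    (hq : BlowUp.IsBlowUp q (J ⊔ K)) (A B : Set Z) (hA : A ⊆ (J.support : Set Z))
    (hB : B ⊆ (K.support : Set Z)) (hA' : Disjoint (K.support : Set Z) A)
    (hB' : Disjoint (J.support : Set Z) B) :
    Disjoint (closure (q ⁻¹' A)) (closure (q ⁻¹' B)) := by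
  rw [Set.disjoint_left]
  intro x hxA hxB
  obtain ⟨U₁, e₁, h₁, he₁, hle₁, -⟩ := exists_generator q J K hq.1 A hA hA' x hxA
  obtain ⟨U₂, e₂, h₂, he₂, -, hmem₂⟩ :=
    exists_generator q K J (by rw [sup_comm]; exact hq.1) B hB hB' x hxB
  set E := (J ⊔ K).comap q with hE
  have hE₁ : stalkIdeal E x = Ideal.span {Z'.presheaf.germ U₁.1 x h₁ e₁} := by
    rw [stalkIdeal_eq _ U₁ h₁, he₁, Ideal.map_span, Set.image_singleton]
  have hE₂ : stalkIdeal E x = Ideal.span {Z'.presheaf.germ U₂.1 x h₂ e₂} := by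
    rw [stalkIdeal_eq _ U₂ h₂, hE, sup_comm J K, he₂, Ideal.map_span, Set.image_singleton]
  set ε := Z'.presheaf.germ U₁.1 x h₁ e₁ with hε
  have hmem : ε ∈ Ideal.span {ε} * IsLocalRing.maximalIdeal _ := by
    refine hle₁ (?_ : ε ∈ stalkIdeal (J.comap q) x)
    refine (Ideal.span_singleton_le_iff_mem _).mpr hmem₂ ?_
    rw [← hE₂, hE₁]
    exact Ideal.mem_span_singleton_self ε
  obtain ⟨r, hr, hrε⟩ := Ideal.mem_span_singleton_mul.mp hmem
  have h0 : ε = 0 := (IsUnit.mul_left_eq_zero (IsLocalRing.isUnit_one_sub_self_of_mem_nonunits r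
    ((IsLocalRing.mem_maximalIdeal r).mp hr))).mp (by rw [mul_sub, mul_one, hrε, sub_self])
  obtain ⟨T, hxT, hT⟩ := exists_nhd_le (J := (⊥ : Z'.IdealSheafData)) U₁ h₁ he₁
    (show ε ∈ _ by rw [h0]; exact Ideal.zero_mem _)
  obtain ⟨y, hyT, hyA⟩ := mem_closure_iff.mp hxA T T.2 hxT
  have hKtop : stalkIdeal K (q y) = ⊤ :=
    (stalkIdeal_eq_top_iff _ _).mpr fun hm => Set.disjoint_left.mp hA' hm hyA
  have hEtop : stalkIdeal E y = ⊤ := by
    rw [hE, BlowSep.stalkIdeal_comap, BlowSep.stalkIdeal_sup, hKtop, sup_top_eq, Ideal.map_top]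
  have hbot : stalkIdeal (⊥ : Z'.IdealSheafData) y = ⊤ := top_le_iff.mp (hEtop ▸ hT y hyT)
  rw [stalkIdeal_eq_top_iff] at hbot
  exact hbot (by rw [Scheme.IdealSheafData.support_bot]; trivial)

/-- Models of the two pieces with separated boundaries. -/
theorem exists_models (U : Fin 2 → X.Opens) (hU : ∀ i, IsCompact (U i : Set X))
    (hcov : ∀ x, x ∈ U 0 ∨ x ∈ U 1) {Y : Fin 2 → Scheme.{u}} (j : ∀ i, (U i).toScheme ⟶ Y i)
    [∀ i, IsOpenImmersion (j i)] (π : ∀ i, Y i ⟶ S) [∀ i, IsProper (π i)]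
    (hj : ∀ i, j i ≫ π i = (U i).ι ≫ gX) :
    ∃ (P : Fin 2 → Scheme.{u}) (gb : ∀ i, P i ⟶ S) (M : ∀ i, (P i).Opens)
      (m : ∀ i, (U i).toScheme ⟶ (M i).toScheme)
      (hm : ∀ i, (U i).ι ≫ gX = m i ≫ (M i).ι ≫ gb i)
      (hL : (X.homOfLE (inf_le_left : U 0 ⊓ U 1 ≤ U 0) ≫ m 0 ≫ (M 0).ι) ≫ gb 0 =
        (X.homOfLE (inf_le_right : U 0 ⊓ U 1 ≤ U 1) ≫ m 1 ≫ (M 1).ι) ≫ gb 1)
      (B : ∀ i, Set (P i)),
      (∀ i, IsProper (gb i)) ∧ (∀ i, IsCompact (M i : Set (P i))) ∧ (∀ i, IsOpenImmersion (m i)) ∧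
      (∀ i, IsClosed (Set.range (pullback.lift (f := gX) (g := (M i).ι ≫ gb i) (U i).ι (m i) (hm i)))) ∧
      (∀ i, IsClosed (B i) ∧ B i ⊆ (M i : Set (P i))) ∧
      (∀ i (x : (U i).toScheme), (U i).ι x ∉ U (i + 1) → (M i).ι (m i x) ∈ B i) ∧
      ∀ z ∈ closure (Set.range (pullback.lift _ _ hL)),
        pullback.fst (gb 0) (gb 1) z ∈ M 0 ∨ pullback.snd (gb 0) (gb 1) z ∈ M 1 := by
  classical
  have : CompactSpace X := QuasiCompact.compactSpace_of_compactSpace gX
  have : QuasiSeparatedSpace X := quasiSeparatedSpace_of_quasiSeparated gX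
  have hcU : ∀ i, CompactSpace (U i).toScheme := fun i => isCompact_iff_compactSpace.mp (hU i)
  choose Xi P₀ q o₀ gb₀ u hq hgb₀ ho₀ ho₀c hu hqo₀ huq hur using
    fun i => exists_piece gX (U i) (hU i) (j i) (π i) (hj i)
  have hcP₀ : ∀ i, CompactSpace (P₀ i) := fun i => QuasiCompact.compactSpace_of_compactSpace (gb₀ i)
  have hsP₀ : ∀ i, QuasiSeparatedSpace (P₀ i) := fun i => quasiSeparatedSpace_of_quasiSeparated (gb₀ i)
  have hcXi : ∀ i, CompactSpace (Xi i) := fun i => QuasiCompact.compactSpace_of_compactSpace (o₀ i)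
  have hsXi : ∀ i, QuasiSeparatedSpace (Xi i) := fun i => quasiSeparatedSpace_of_quasiSeparated (q i)
  let A : ∀ i, Set (Xi i) := fun i => (fun w => q i w) ⁻¹' (U i : Set X)ᶜ
  let A' : ∀ i, Set (Xi i) := fun i => (fun w => q i w) ⁻¹' (U (i + 1) : Set X)ᶜ
  have hcovi : ∀ i : Fin 2, ∀ x, x ∉ U i → x ∈ U (i + 1) := by
    intro i x hx
    fin_cases i
    · exact (hcov x).resolve_left hx
    · exact (hcov x).resolve_right hx
  -- separating the two boundaries in each piece
  have hstep : ∀ i, ∃ (P₁ : Scheme.{u}) (gb₁ : P₁ ⟶ S) (o₁ : Xi i ⟶ P₁), IsProper gb₁ ∧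
      IsOpenImmersion o₁ ∧ QuasiCompact o₁ ∧ q i ≫ gX = o₁ ≫ gb₁ ∧
      Disjoint (closure ((fun w => o₁ w) '' A i)) (closure ((fun w => o₁ w) '' A' i)) := by
    intro i
    obtain ⟨J, hJ, hJs⟩ := QDom.Global.exists_support_eq_compl (V := o₀ i ''ᵁ (q i ⁻¹ᵁ U i))
      (((q i).isCompact_preimage (hU i)).image (o₀ i).continuous)
    obtain ⟨K, hK, hKs⟩ := QDom.Global.exists_support_eq_compl (V := o₀ i ''ᵁ (q i ⁻¹ᵁ U (i + 1)))
      (((q i).isCompact_preimage (hU (i + 1))).image (o₀ i).continuous)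
    obtain ⟨Z, c, hc⟩ := BlowUp.Glue.exists_isBlowUp (P₀ i) (J ⊔ K)
    have hft : BlowUp.IsFiniteTypeIdeal (J ⊔ K) := fun V => by
      rw [Scheme.IdealSheafData.ideal_sup, Pi.sup_apply]
      exact Submodule.FG.sup (hJ V) (hK V)
    have : IsProper c := BlowUpProper.Basic.isProper hc hft
    have : CompactSpace Z := QuasiCompact.compactSpace_of_compactSpace c
    have : QuasiSeparatedSpace Z := quasiSeparatedSpace_of_quasiSeparated c
    have hoA : (fun w => o₀ i w) '' A i ⊆ (J.support : Set (P₀ i)) := by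
      rintro _ ⟨a, ha, rfl⟩
      rw [hJs]
      rintro ⟨a', ha', he⟩
      exact ha ((o₀ i).isOpenEmbedding.injective he ▸ ha')
    have hoA' : (fun w => o₀ i w) '' A' i ⊆ (K.support : Set (P₀ i)) := by
      rintro _ ⟨a, ha, rfl⟩
      rw [hKs]
      rintro ⟨a', ha', he⟩
      exact ha ((o₀ i).isOpenEmbedding.injective he ▸ ha')
    have hd₁ : Disjoint (K.support : Set (P₀ i)) ((fun w => o₀ i w) '' A i) := by
      rw [Set.disjoint_right]
      rintro _ ⟨a, ha, rfl⟩ hK'
      rw [hKs] at hK'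
      exact hK' ⟨a, hcovi i _ ha, rfl⟩
    have hd₂ : Disjoint (J.support : Set (P₀ i)) ((fun w => o₀ i w) '' A' i) := by
      rw [Set.disjoint_right]
      rintro _ ⟨a, ha, rfl⟩ hJ'
      rw [hJs] at hJ'
      refine hJ' ⟨a, ?_, rfl⟩
      by_contra hna
      exact ha (hcovi i _ hna)
    have hdis : Disjoint ((J ⊔ K).support : Set (P₀ i)) ((o₀ i).opensRange : Set (P₀ i)) := by
      rw [Set.disjoint_left]
      rintro _ hx ⟨a, rfl⟩
      have h1 := Scheme.IdealSheafData.support_antitone (le_sup_left : J ≤ J ⊔ K) hx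
      have h2 := Scheme.IdealSheafData.support_antitone (le_sup_right : K ≤ J ⊔ K) hx
      change _ ∈ (J.support : Set (P₀ i)) at h1
      change _ ∈ (K.support : Set (P₀ i)) at h2
      rw [hJs] at h1
      rw [hKs] at h2
      by_cases ha : q i a ∈ U i
      · exact h1 ⟨a, ha, rfl⟩
      · exact h2 ⟨a, hcovi i _ ha, rfl⟩
    obtain ⟨o₁, ho₁, _, _, -, -⟩ := exists_lift (o₀ i) hc hdis
    have hsub : ∀ C : Set (Xi i),
        (fun w => o₁ w) '' C ⊆ c ⁻¹' ((fun w => o₀ i w) '' C) := by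
      rintro C _ ⟨a, ha, rfl⟩
      exact ⟨a, ha, by rw [← ho₁]; exact Scheme.Hom.comp_apply o₁ c a⟩
    refine ⟨Z, c ≫ gb₀ i, o₁, inferInstance, inferInstance, inferInstance,
      by rw [← Category.assoc, ho₁]; exact hqo₀ i, ?_⟩
    exact (disjoint_closure_blowUp J K c hc _ _ hoA hoA' hd₁ hd₂).mono (closure_mono (hsub _))
      (closure_mono (hsub _))
  choose P₁ gb₁ o₁ hgb₁ ho₁ ho₁c hqo₁ hAA' using hstep
  have hcP₁ : ∀ i, CompactSpace (P₁ i) := fun i => QuasiCompact.compactSpace_of_compactSpace (gb₁ i)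
  have hsP₁ : ∀ i, QuasiSeparatedSpace (P₁ i) := fun i => quasiSeparatedSpace_of_quasiSeparated (gb₁ i)
  -- separating the two boundaries in the product
  let U₁₂ := U 0 ⊓ U 1
  have hle : ∀ i, U₁₂ ≤ U i := by
    intro i; fin_cases i
    · exact inf_le_left
    · exact inf_le_right
  let v : ∀ i, U₁₂.toScheme ⟶ Xi i := fun i => X.homOfLE (hle i) ≫ u i
  have hv : ∀ i, v i ≫ q i = U₁₂.ι := fun i => by
    rw [Category.assoc, huq, Scheme.homOfLE_ι]
  have w : ∀ i, (v i ≫ o₁ i) ≫ gb₁ i = U₁₂.ι ≫ gX := fun i => by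
    rw [Category.assoc, ← hqo₁, reassoc_of% hv]
  choose I hI hIs using fun i => QDom.Global.exists_support_eq_compl (V := q i ⁻¹ᵁ U i)
    ((q i).isCompact_preimage (hU i))
  have hIA : ∀ i, ((I i).support : Set (Xi i)) = A i := fun i => by rw [hIs]; rfl
  have hempty : ∀ z ∈ closure (Set.range (fun x =>
      (WidePullback.lift (U₁₂.ι ≫ gX) (fun i => v i ≫ o₁ i) w) x)),
      ∃ i, (WidePullback.π gb₁ i) z ∉ (fun x => o₁ i x) '' ((I i).support : Set (Xi i)) := by
    intro z hz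
    by_contra hcon
    simp only [not_exists, not_not] at hcon
    let L := WidePullback.lift (U₁₂.ι ≫ gX) (fun i => v i ≫ o₁ i) w
    let O : (widePullback S P₁ gb₁).Opens :=
      WidePullback.π gb₁ 0 ⁻¹ᵁ (o₁ 0).opensRange ⊓ WidePullback.π gb₁ 1 ⁻¹ᵁ (o₁ 1).opensRange
    have hzO : z ∈ O := by
      obtain ⟨a, -, ha⟩ := hcon 0
      obtain ⟨b, -, hb⟩ := hcon 1
      exact ⟨⟨a, ha⟩, ⟨b, hb⟩⟩
    have hO : ∀ i, Set.range (O.ι ≫ WidePullback.π gb₁ i) ⊆ Set.range (o₁ i) := by
      intro i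
      rintro _ ⟨t, rfl⟩
      fin_cases i
      · exact t.2.1
      · exact t.2.2
    let a : ∀ i, (O : Scheme.{u}) ⟶ X := fun i => IsOpenImmersion.lift (o₁ i) _ (hO i) ≫ q i
    have ha : ∀ i, a i ≫ gX = O.ι ≫ WidePullback.base gb₁ := fun i => by
      rw [Category.assoc, hqo₁, IsOpenImmersion.lift_fac_assoc, Category.assoc,
        WidePullback.π_arrow]
    have hLO : Set.range L ⊆ Set.range O.ι := by
      rw [O.range_ι]
      rintro _ ⟨x, rfl⟩
      refine ⟨?_, ?_⟩
      · show WidePullback.π gb₁ 0 (L x) ∈ Set.range (o₁ 0)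
        rw [← Scheme.Hom.comp_apply, WidePullback.lift_π, Scheme.Hom.comp_apply]
        exact ⟨_, rfl⟩
      · show WidePullback.π gb₁ 1 (L x) ∈ Set.range (o₁ 1)
        rw [← Scheme.Hom.comp_apply, WidePullback.lift_π, Scheme.Hom.comp_apply]
        exact ⟨_, rfl⟩
    let L' : U₁₂.toScheme ⟶ (O : Scheme.{u}) := IsOpenImmersion.lift O.ι L hLO
    have hLa : ∀ i, L' ≫ a i = U₁₂.ι := fun i => by
      have : L' ≫ IsOpenImmersion.lift (o₁ i) _ (hO i) = v i := by
        rw [← cancel_mono (o₁ i), Category.assoc, IsOpenImmersion.lift_fac,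
          IsOpenImmersion.lift_fac_assoc, WidePullback.lift_π]
      show L' ≫ IsOpenImmersion.lift (o₁ i) _ (hO i) ≫ q i = _
      rw [reassoc_of% this, hv]
    let ab : (O : Scheme.{u}) ⟶ pullback gX gX := pullback.lift (a 0) (a 1) (by rw [ha, ha])
    have hdiag : IsClosed (Set.range (pullback.diagonal gX)) :=
      (pullback.diagonal gX).isClosedEmbedding.isClosed_range
    have hz' : ab ⟨z, hzO⟩ ∈ Set.range (pullback.diagonal gX) := by
      have h1 : (⟨z, hzO⟩ : (O : Scheme.{u})) ∈ O.ι ⁻¹' closure (Set.range L) := hz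
      rw [O.ι.isOpenEmbedding.isOpenMap.preimage_closure_eq_closure_preimage O.ι.continuous] at h1
      refine (closure_minimal ?_ (hdiag.preimage ab.continuous)) h1
      rintro t ⟨x, hx⟩
      have : L' x = t := O.ι.isOpenEmbedding.injective (by
        rw [← Scheme.Hom.comp_apply, IsOpenImmersion.lift_fac]; exact hx)
      subst this
      refine ⟨U₁₂.ι x, ?_⟩
      rw [← Scheme.Hom.comp_apply, ← Scheme.Hom.comp_apply,
        show L' ≫ ab = U₁₂.ι ≫ pullback.diagonal gX by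
          apply pullback.hom_ext <;> simp [ab, hLa]]
    obtain ⟨p, hp⟩ := hz'
    have hpi : ∀ i, a i ⟨z, hzO⟩ = p := by
      intro i; fin_cases i
      · show a 0 ⟨z, hzO⟩ = p
        rw [← pullback.lift_fst (a 0) (a 1) (by rw [ha, ha] : a 0 ≫ gX = a 1 ≫ gX),
          Scheme.Hom.comp_apply, ← hp, ← Scheme.Hom.comp_apply, pullback.diagonal_fst]
        rfl
      · show a 1 ⟨z, hzO⟩ = p
        rw [← pullback.lift_snd (a 0) (a 1) (by rw [ha, ha] : a 0 ≫ gX = a 1 ≫ gX),
          Scheme.Hom.comp_apply, ← hp, ← Scheme.Hom.comp_apply, pullback.diagonal_snd]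
        rfl
    have hnot : ∀ i, p ∉ U i := fun i => by
      obtain ⟨y, hy, hyz⟩ := hcon i
      have : IsOpenImmersion.lift (o₁ i) _ (hO i) ⟨z, hzO⟩ = y :=
        (o₁ i).isOpenEmbedding.injective (by
          rw [← Scheme.Hom.comp_apply, IsOpenImmersion.lift_fac]; exact hyz.symm)
      rw [← hpi i, Scheme.Hom.comp_apply, this]
      rw [hIA] at hy
      exact hy
    rcases hcov p with h | h
    exacts [hnot 0 h, hnot 1 h]
  obtain ⟨𝓔, P, c, v', w', hv', hsep⟩ :=
    BlowSep.exists_separate gX Xi P₁ gb₁ o₁ q hqo₁ U₁₂.ι v hv w I hI hempty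
  let gb : ∀ i, P i ⟶ S := fun i => c i ≫ gb₁ i
  have hcp : ∀ i, IsProper (c i) := fun i => BlowUpProper.Basic.isProper (hv' i).1 (hv' i).2.1.1
  have hgb : ∀ i, IsProper (gb i) := fun i => inferInstance
  have hcP : ∀ i, CompactSpace (P i) := fun i => QuasiCompact.compactSpace_of_compactSpace (gb i)
  have hsP : ∀ i, QuasiSeparatedSpace (P i) := fun i => quasiSeparatedSpace_of_quasiSeparated (gb i)
  choose o hoc ho hoqc hor _ using fun i => exists_lift (o₁ i) (hv' i).1 (hv' i).2.1.2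
  have hqo : ∀ i, q i ≫ gX = o i ≫ gb i := fun i => by
    rw [hqo₁, ← Category.assoc, hoc]
  have hvo : ∀ i, v' i = v i ≫ o i := fun i => by
    refine BlowUp.Basic.hom_ext_of_disjoint (hv' i).1 ?_ (by rw [(hv' i).2.2, ← hoc i]; simp only [v, Category.assoc])
    rw [(hv' i).2.2]
    refine Disjoint.mono_left ?_ (hv' i).2.1.2.symm
    rintro _ ⟨x, rfl⟩
    exact ⟨v i x, (Scheme.Hom.comp_apply (v i) (o₁ i) x).symm⟩
  let Ā : ∀ i, Set (P i) := fun i => closure ((fun w => o i w) '' A i)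
  let B : ∀ i, Set (P i) := fun i => closure ((fun w => o i w) '' A' i)
  have hosub : ∀ i (C : Set (Xi i)),
      (fun w => o i w) '' C ⊆ (fun y => c i y) ⁻¹' ((fun w => o₁ i w) '' C) := by
    rintro i C _ ⟨a, ha, rfl⟩
    exact ⟨a, ha, by rw [← hoc]; exact Scheme.Hom.comp_apply (o i) (c i) a⟩
  have hĀB : ∀ i, Disjoint (Ā i) (B i) := fun i => by
    refine ((hAA' i).preimage (fun y => c i y)).mono ?_ ?_ <;>
    exact closure_minimal ((hosub i _).trans (Set.preimage_mono subset_closure))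
      (isClosed_closure.preimage (c i).continuous)
  let G : ∀ i, Set (P i) := fun i => (fun w => o i w) '' ((fun w => q i w) ⁻¹' (U i : Set X))
  have hAcl : ∀ i, IsClosed (A i) := fun i => (U i).2.isClosed_compl.preimage (q i).continuous
  have hGĀ : ∀ i, Disjoint (G i) (Ā i) := fun i => by
    rw [Set.disjoint_left]
    rintro _ ⟨a, ha, rfl⟩ hā
    have : a ∈ closure (A i) := by
      rw [(o i).isOpenEmbedding.isEmbedding.isInducing.closure_eq_preimage_closure_image]
      exact hā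
    rw [(hAcl i).closure_eq] at this
    exact this ha
  have hL : (X.homOfLE (inf_le_left : U 0 ⊓ U 1 ≤ U 0) ≫ u 0 ≫ o 0) ≫ gb 0 =
      (X.homOfLE (inf_le_right : U 0 ⊓ U 1 ≤ U 1) ≫ u 1 ≫ o 1) ≫ gb 1 := by
    have : ∀ i, (v i ≫ o i) ≫ gb i = U₁₂.ι ≫ gX := fun i => by
      rw [Category.assoc, ← hqo, reassoc_of% hv]
    simpa [v, Category.assoc] using (this 0).trans (this 1).symm
  let L := pullback.lift _ _ hL
  let R : Set (pullback (gb 0) (gb 1) : Scheme.{u}) := closure (Set.range L)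
  have hR : ∀ z ∈ R, pullback.fst (gb 0) (gb 1) z ∉ Ā 0 ∨ pullback.snd (gb 0) (gb 1) z ∉ Ā 1 := by
    intro z hz
    let φ : pullback (gb 0) (gb 1) ⟶ widePullback S P gb :=
      WidePullback.lift (pullback.fst _ _ ≫ gb 0)
        (Fin.cases (pullback.fst _ _) (Fin.cases (pullback.snd _ _) (fun k => k.elim0)))
        (fun i => by
          fin_cases i
          · rfl
          · exact pullback.condition.symm)
    have hφ : L ≫ φ = WidePullback.lift (U₁₂.ι ≫ gX) (fun i => v' i) w' := by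
      refine WidePullback.hom_ext _ _ _ (fun i => ?_) ?_
      · rw [Category.assoc, WidePullback.lift_π, WidePullback.lift_π, hvo]
        fin_cases i
        · exact (pullback.lift_fst _ _ _).trans (Category.assoc _ _ _).symm
        · exact (pullback.lift_snd _ _ _).trans (Category.assoc _ _ _).symm
      · rw [Category.assoc, WidePullback.lift_base, WidePullback.lift_base, pullback.lift_fst_assoc,
          ← hv 0]
        simp only [v, Category.assoc, hqo]
    obtain ⟨i, hi⟩ := hsep (φ z) (by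
      refine closure_mono ?_ (image_closure_subset_closure_image φ.continuous ⟨z, hz, rfl⟩)
      rintro _ ⟨_, ⟨x, rfl⟩, rfl⟩
      exact ⟨x, by rw [← hφ]; exact Scheme.Hom.comp_apply L φ x⟩)
    rw [hIA, ← Scheme.Hom.comp_apply, WidePullback.lift_π] at hi
    fin_cases i
    · exact .inl fun h => hi (closure_mono (hosub 0 (A 0)) h)
    · exact .inr fun h => hi (closure_mono (hosub 1 (A 1)) h)
  have hRc : IsCompact R := by
    have : CompactSpace (pullback (gb 0) (gb 1) : Scheme.{u}) :=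
      QuasiCompact.compactSpace_of_compactSpace (pullback.fst (gb 0) (gb 1))
    exact isClosed_closure.isCompact
  let Oo : ∀ i, (P i).Opens := fun i => ⟨(Ā i)ᶜ, isClosed_closure.isOpen_compl⟩
  have hGc : ∀ i, IsCompact (G i) := fun i =>
    ((q i).isCompact_preimage (hU i)).image (o i).continuous
  obtain ⟨M₁, hM₁c, hKM₁, hM₁O⟩ := exists_qc_between
    (K := G 1 ∪ B 1 ∪ (fun z => pullback.snd (gb 0) (gb 1) z) ''
      (R ∩ (fun z => pullback.fst (gb 0) (gb 1) z) ⁻¹' Ā 0))
    (((hGc 1).union isClosed_closure.isCompact).union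
      ((hRc.inter_right (isClosed_closure.preimage (pullback.fst (gb 0) (gb 1)).continuous)).image
        (pullback.snd (gb 0) (gb 1)).continuous))
    (Oo 1) (by
      rintro y ((hy | hy) | ⟨z, ⟨hz, hz0⟩, rfl⟩)
      · exact fun h => Set.disjoint_left.mp (hGĀ 1) hy h
      · exact fun h => Set.disjoint_left.mp (hĀB 1) h hy
      · exact (hR z hz).resolve_left (not_not.mpr hz0))
  obtain ⟨M₀, hM₀c, hKM₀, hM₀O⟩ := exists_qc_between
    (K := G 0 ∪ B 0 ∪ (fun z => pullback.fst (gb 0) (gb 1) z) ''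
      (R \ (fun z => pullback.snd (gb 0) (gb 1) z) ⁻¹' (M₁ : Set (P 1))))
    (((hGc 0).union isClosed_closure.isCompact).union
      ((hRc.diff (M₁.2.preimage (pullback.snd (gb 0) (gb 1)).continuous)).image
        (pullback.fst (gb 0) (gb 1)).continuous))
    (Oo 0) (by
      rintro y ((hy | hy) | ⟨z, ⟨hz, hz1⟩, rfl⟩)
      · exact fun h => Set.disjoint_left.mp (hGĀ 0) hy h
      · exact fun h => Set.disjoint_left.mp (hĀB 0) h hy
      · exact fun h => hz1 (hKM₁ (.inr ⟨z, ⟨hz, h⟩, rfl⟩)))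
  let M : ∀ i, (P i).Opens := Fin.cases M₀ (Fin.cases M₁ fun k => k.elim0)
  have hMc : ∀ i, IsCompact (M i : Set (P i)) := by
    intro i; fin_cases i; exacts [hM₀c, hM₁c]
  have hGM : ∀ i, G i ⊆ (M i : Set (P i)) := by
    intro i; fin_cases i
    exacts [fun y hy => hKM₀ (.inl (.inl hy)), fun y hy => hKM₁ (.inl (.inl hy))]
  have hBM : ∀ i, B i ⊆ (M i : Set (P i)) := by
    intro i; fin_cases i
    exacts [fun y hy => hKM₀ (.inl (.inr hy)), fun y hy => hKM₁ (.inl (.inr hy))]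
  have hMO : ∀ i, M i ≤ Oo i := by
    intro i; fin_cases i; exacts [hM₀O, hM₁O]
  have huo : ∀ i, Set.range (u i ≫ o i) ⊆ Set.range (M i).ι := fun i => by
    rw [Scheme.Opens.range_ι]
    rintro _ ⟨x, rfl⟩
    refine hGM i ⟨u i x, ?_, (Scheme.Hom.comp_apply (u i) (o i) x).symm⟩
    rw [← hur]; exact ⟨x, rfl⟩
  let m : ∀ i, (U i).toScheme ⟶ (M i).toScheme := fun i =>
    IsOpenImmersion.lift (M i).ι (u i ≫ o i) (huo i)
  have hmι : ∀ i, m i ≫ (M i).ι = u i ≫ o i := fun i => IsOpenImmersion.lift_fac _ _ _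
  have hmo : ∀ i, IsOpenImmersion (m i) := fun i => by
    have : IsOpenImmersion (m i ≫ (M i).ι) := by rw [hmι]; infer_instance
    exact IsOpenImmersion.of_comp (m i) (M i).ι
  have hm : ∀ i, (U i).ι ≫ gX = m i ≫ (M i).ι ≫ gb i := fun i => by
    rw [reassoc_of% (hmι i), ← hqo, reassoc_of% (huq i)]
  refine ⟨P, gb, M, m, hm, by simpa only [hmι] using hL, B, hgb, hMc, hmo, fun i => ?_,
    fun i => ⟨isClosed_closure, hBM i⟩, fun i x hx => ?_, fun z hz => ?_⟩
  · let T := pullback gX ((M i).ι ≫ gb i)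
    let Φ : T ⟶ pullback (gb i) gX :=
      pullback.lift (pullback.snd _ _ ≫ (M i).ι) (pullback.fst _ _)
        (by rw [Category.assoc]; exact pullback.condition.symm)
    let graph := pullback.lift (o i) (q i) (hqo i).symm
    have hgraph : IsClosed (Set.range graph) :=
      QDom.Pair.isClosed_range_graph (o i) (gb i) gX (q i) (hqo i).symm
    have hΦl : pullback.lift (U i).ι (m i) (hm i) ≫ Φ = u i ≫ graph := by
      apply pullback.hom_ext <;> simp [Φ, graph, hmι, huq]
    have hΦinj : Function.Injective Φ := by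
      have hsq : Φ = (pullbackSymmetry _ _).hom ≫
          pullback.map ((M i).ι ≫ gb i) gX (gb i) gX (M i).ι (𝟙 X) (𝟙 S) (by simp) (by simp) := by
        apply pullback.hom_ext <;> simp [Φ]
      have : IsOpenImmersion Φ := by rw [hsq]; infer_instance
      exact Φ.isOpenEmbedding.injective
    have heq : Set.range (pullback.lift (U i).ι (m i) (hm i)) = Φ ⁻¹' Set.range graph := by
      refine Set.Subset.antisymm ?_ fun t ⟨a, ha⟩ => ?_
      · rintro _ ⟨x, rfl⟩
        exact ⟨u i x, by rw [← Scheme.Hom.comp_apply, ← hΦl, Scheme.Hom.comp_apply]⟩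
      · have hoa : o i a = (M i).ι (pullback.snd gX ((M i).ι ≫ gb i) t) := by
          rw [← Scheme.Hom.comp_apply, show pullback.snd gX ((M i).ι ≫ gb i) ≫ (M i).ι =
            Φ ≫ pullback.fst _ _ from (pullback.lift_fst _ _ _).symm, Scheme.Hom.comp_apply, ← ha,
            ← Scheme.Hom.comp_apply, pullback.lift_fst]
        have hqa : q i a ∈ U i := by
          by_contra hna
          refine hMO i (show o i a ∈ M i by rw [hoa]; exact (pullback.snd gX ((M i).ι ≫ gb i) t).2)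
            (subset_closure ⟨a, hna, rfl⟩)
        have : a ∈ Set.range (u i) := by rw [hur]; exact hqa
        obtain ⟨x, rfl⟩ := this
        refine ⟨x, hΦinj ?_⟩
        rw [← Scheme.Hom.comp_apply, hΦl, Scheme.Hom.comp_apply, ha]
    rw [heq]
    exact hgraph.preimage Φ.continuous
  · rw [← Scheme.Hom.comp_apply, hmι, Scheme.Hom.comp_apply]
    refine subset_closure ⟨u i x, ?_, rfl⟩
    show q i (u i x) ∉ U (i + 1)
    rw [← Scheme.Hom.comp_apply, huq]
    exact hx
  · have hzR : z ∈ R := by simpa only [hmι] using hz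
    by_cases h1 : pullback.snd (gb 0) (gb 1) z ∈ M₁
    · exact .inr h1
    · exact .inl (hKM₀ (.inr ⟨z, ⟨hzR, h1⟩, rfl⟩))

end Groth.Agent.Nagata
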