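import Groth.Agent.RegLoc.AssTensor
import Mathlib.RingTheory.RegularLocalRing.Defs
import Mathlib.RingTheory.AdicCompletion.AsTensorProduct
import Mathlib.RingTheory.AdicCompletion.Exactness
import Mathlib.RingTheory.AdicCompletion.Algebra
import Mathlib.RingTheory.Filtration
import Mathlib.RingTheory.Localization.AtPrime.Basic

/-!
Reducedness of a flat algebra from the divisor of an element.
-/

set_option autoImplicit false
set_option linter.style.haveILetI false

open TensorProduct

universe u

namespace Groth.Agent.Nagata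

open RegLoc.AssTensor

/-- `p` is generated by one element after localizing at `p`. -/
def LocPrincipal {A : Type u} [CommRing A] (p : Ideal A) : Prop :=
  ∃ t ∈ p, ∃ s ∉ p, ∀ a ∈ p, s * a ∈ Ideal.span {t}

theorem locPrincipal_of_isPrincipal {A : Type u} [CommRing A] [IsNoetherianRing A] (p : Ideal A)
    [p.IsPrime] (h : (IsLocalRing.maximalIdeal (Localization.AtPrime p)).IsPrincipal) : LocPrincipal p := by
  classical
  obtain ⟨⟨g, hg⟩⟩ := h
  obtain ⟨t, s, hts⟩ := IsLocalization.exists_mk'_eq p.primeCompl g
  have hgm : g ∈ IsLocalRing.maximalIdeal (Localization.AtPrime p) := hg ▸ Submodule.mem_span_singleton_self g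
  have htp : t ∈ p := by
    rw [← hts] at hgm
    exact (IsLocalization.AtPrime.mk'_mem_maximal_iff (Localization.AtPrime p) p t s).mp hgm
  obtain ⟨G, hG⟩ := IsNoetherian.noetherian p
  have hone : ∀ a ∈ p, ∃ u ∉ p, u * a ∈ Ideal.span {t} := by
    intro a ha
    have ham : algebraMap A (Localization.AtPrime p) a ∈ IsLocalRing.maximalIdeal (Localization.AtPrime p) :=
      (IsLocalization.AtPrime.to_map_mem_maximal_iff _ p a).mpr ha
    have hg' : IsLocalRing.maximalIdeal (Localization.AtPrime p) =
        (Ideal.span {t}).map (algebraMap A (Localization.AtPrime p)) := by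
      refine le_antisymm (hg.le.trans ?_) ?_
      · rw [Submodule.span_le, Set.singleton_subset_iff, SetLike.mem_coe, Ideal.map_span, Set.image_singleton,
          Ideal.mem_span_singleton']
        exact ⟨IsLocalization.mk' _ (1 : A) s, by
          rw [← hts, mul_comm, IsLocalization.mul_mk'_eq_mk'_of_mul, mul_one]⟩
      · rw [Ideal.map_le_iff_le_comap, Ideal.span_singleton_le_iff_mem, Ideal.mem_comap,
          IsLocalization.AtPrime.to_map_mem_maximal_iff _ p t]
        exact htp
    rw [hg'] at ham
    obtain ⟨⟨⟨b, hb⟩, v⟩, hv⟩ := (IsLocalization.mem_map_algebraMap_iff p.primeCompl _).mp ham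
    simp only at hv
    rw [← map_mul] at hv
    obtain ⟨w, hw⟩ := (IsLocalization.eq_iff_exists p.primeCompl _).mp hv
    refine ⟨(w : A) * v, ((inferInstance : p.IsPrime).mul_notMem w.2 v.2), ?_⟩
    rw [mul_assoc, mul_comm (v : A) a, hw]
    exact Ideal.mul_mem_left _ _ hb
  choose u hu hut using hone
  have hGp : ∀ a ∈ G, a ∈ p := fun a ha => hG ▸ Submodule.subset_span ha
  refine ⟨t, htp, ∏ a : G, u a (hGp a a.2), ?_, fun a ha => ?_⟩
  · intro hmem
    obtain ⟨a, -, ha⟩ := (Ideal.IsPrime.prod_mem_iff).mp hmem
    exact hu _ (hGp a a.2) ha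
  · rw [← hG] at ha
    induction ha using Submodule.span_induction with
    | mem b hb =>
      rw [← Finset.prod_erase_mul _ _ (Finset.mem_univ (⟨b, hb⟩ : G)), mul_assoc]
      exact Ideal.mul_mem_left _ _ (hut b _)
    | zero => simp
    | add b c _ _ hb hc => rw [mul_add]; exact Ideal.add_mem _ hb hc
    | smul r b _ hb => rw [smul_eq_mul, mul_left_comm]; exact Ideal.mul_mem_left _ _ hb

theorem isReduced_of_divisor {A B : Type u} [CommRing A] [IsNoetherianRing A] [CommRing B]
    [IsNoetherianRing B] [Algebra A B] [Module.Flat A B] (x : A) (hx : IsSMulRegular A x)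
    (hjac : algebraMap A B x ∈ (⊥ : Ideal B).jacobson)
    (hp : ∀ p ∈ associatedPrimes A (A ⧸ Ideal.span {x}),
      p ∈ (Ideal.span {x}).minimalPrimes ∧ LocPrincipal p ∧ IsReduced (B ⧸ p.map (algebraMap A B))) :
    IsReduced B := by
  classical
  set xB := algebraMap A B x with hxB
  have hregB : ∀ b : B, xB * b = 0 → b = 0 := by
    intro b hb
    have h1 := Module.Flat.rTensor_preserves_injective_linearMap (M := B) (LinearMap.lsmul A A x) hx
    have h2 : ((LinearMap.lsmul A A x).rTensor B) ((1 : A) ⊗ₜ b) = 0 := by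
      rw [LinearMap.rTensor_tmul]
      show (x • (1 : A)) ⊗ₜ[A] b = 0
      rw [TensorProduct.smul_tmul, Algebra.smul_def, hb, TensorProduct.tmul_zero]
    have h3 : ((1 : A) ⊗ₜ[A] b) = 0 := h1 (h2.trans (map_zero _).symm)
    simpa using congrArg (TensorProduct.lid A B) h3
  have claim : ∀ g : B, IsNilpotent g → g ∈ Ideal.span {xB} := by
    intro g hg
    by_contra hgx
    have hne : Ideal.Quotient.mk (Ideal.span {xB}) g ≠ 0 :=
      fun h => hgx (Ideal.Quotient.eq_zero_iff_mem.mp h)
    obtain ⟨q, hq, hqg⟩ := exists_le_isAssociatedPrime_of_isNoetherianRing B _ hne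
    -- transport to `B ⊗ A/x`
    obtain ⟨j, hj, -⟩ := exists_quot_map (N := B) (S := B) (Ideal.Quotient.mk (Ideal.span {x}) (1 : A))
      (Ideal.span {x}) fun a => by
        rw [show a • Ideal.Quotient.mk (Ideal.span {x}) (1 : A) = Ideal.Quotient.mk _ (a * 1) from rfl,
          mul_one, Ideal.Quotient.eq_zero_iff_mem]
    let e : (B ⧸ Ideal.span {xB}) →ₗ[B]
        B ⧸ (Ideal.span {x}).map (algebraMap A B) • (⊤ : Submodule B B) :=
      (Submodule.quotEquivOfEq _ _ (by
        rw [Ideal.map_span, Set.image_singleton, smul_eq_mul, Ideal.mul_top])).toLinearMap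
    have hq' : q ∈ associatedPrimes B (B ⊗[A] (A ⧸ Ideal.span {x})) :=
      hq.map_of_injective (j ∘ₗ e) (hj.comp (LinearEquiv.injective _))
    rw [associatedPrimes_tensor] at hq'
    simp only [Set.mem_iUnion] at hq'
    obtain ⟨p, hpA, hqp⟩ := hq'
    obtain ⟨hmin, ⟨t, htp, s, hsp, hs⟩, hred⟩ := hp p hpA
    haveI := hmin.1.1
    obtain ⟨hqprime, z, hz⟩ := isAssociatedPrime_iff.mp hqp
    haveI := hqprime
    obtain ⟨z, rfl⟩ := Submodule.Quotient.mk_surjective _ z
    set pB := p.map (algebraMap A B) with hpB
    have hzq : ∀ b : B, b ∈ q ↔ b * z ∈ pB := by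
      intro b
      rw [hz, Submodule.mem_colon_singleton, Submodule.mem_bot, ← Submodule.Quotient.mk_smul,
        Submodule.Quotient.mk_eq_zero, smul_eq_mul, smul_eq_mul, Ideal.mul_top]
    have hznq : z ∉ q := by
      intro hzmem
      have h1 : IsNilpotent (Ideal.Quotient.mk pB z) := ⟨2, by
        rw [← map_pow, Ideal.Quotient.eq_zero_iff_mem, pow_two]; exact (hzq z).mp hzmem⟩
      have h2 : z ∈ pB := Ideal.Quotient.eq_zero_iff_mem.mp (IsReduced.eq_zero _ h1)
      exact hqprime.ne_top ((Ideal.eq_top_iff_one q).mpr ((hzq 1).mpr (by rwa [one_mul])))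
    have hpq : ∀ a ∈ p, algebraMap A B a ∈ q := fun a ha =>
      (hzq _).mpr (pB.mul_mem_right _ (Ideal.mem_map_of_mem _ ha))
    have hnotq : ∀ a ∉ p, algebraMap A B a ∉ q := by
      intro a ha haq
      rw [hzq] at haq
      obtain ⟨j', hj', hj'1⟩ := exists_quot_map (N := B) (S := B) (Ideal.Quotient.mk p (1 : A)) p fun c => by
        rw [show c • Ideal.Quotient.mk p (1 : A) = Ideal.Quotient.mk p (c * 1) from rfl, mul_one,
          Ideal.Quotient.eq_zero_iff_mem]
      have hinj : Function.Injective (LinearMap.lsmul A (A ⧸ p) a) := by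
        rw [injective_iff_map_eq_zero]
        intro c hc
        obtain ⟨c, rfl⟩ := Ideal.Quotient.mk_surjective c
        have : a * c ∈ p := Ideal.Quotient.eq_zero_iff_mem.mp hc
        exact Ideal.Quotient.eq_zero_iff_mem.mpr
          (((inferInstance : p.IsPrime).mem_or_mem this).resolve_left ha)
      have h0 : j' (Submodule.Quotient.mk z) = 0 := by
        apply Module.Flat.lTensor_preserves_injective_linearMap (M := B) _ hinj
        rw [map_zero, hj'1, LinearMap.lTensor_tmul, LinearMap.lsmul_apply, ← TensorProduct.smul_tmul,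
          Algebra.smul_def, ← hj'1]
        have : (Submodule.Quotient.mk (algebraMap A B a * z) : B ⧸ pB • (⊤ : Submodule B B)) = 0 := by
          rw [Submodule.Quotient.mk_eq_zero, smul_eq_mul, Ideal.mul_top]; exact haq
        rw [this, map_zero]
      have hzmem : z ∈ pB := by
        have := hj' (h0.trans (map_zero j').symm)
        rwa [Submodule.Quotient.mk_eq_zero, smul_eq_mul, Ideal.mul_top] at this
      exact hqprime.ne_top ((Ideal.eq_top_iff_one q).mpr ((hzq 1).mpr (by rwa [one_mul])))
    -- `q` is generated by `t` up to elements outside `q`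
    have hqt : ∀ b ∈ q, ∃ w ∉ q, w * b ∈ Ideal.span {algebraMap A B t} := by
      intro b hb
      refine ⟨algebraMap A B s * z, hqprime.mul_notMem (hnotq s hsp) hznq, ?_⟩
      rw [mul_assoc, mul_comm z b]
      have hbz := (hzq b).mp hb
      generalize b * z = v at hbz ⊢
      induction hbz using Submodule.span_induction with
      | mem v hv =>
        obtain ⟨a, ha, rfl⟩ := hv
        obtain ⟨c, hc⟩ := Ideal.mem_span_singleton'.mp (hs a ha)
        exact Ideal.mem_span_singleton'.mpr ⟨algebraMap A B c, by rw [← map_mul, ← map_mul, hc]⟩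
      | zero => simp
      | add u v _ _ hu hv => rw [mul_add]; exact Ideal.add_mem _ hu hv
      | smul r v _ hv => rw [smul_eq_mul, mul_left_comm]; exact Ideal.mul_mem_left _ _ hv
    -- `t` is regular up to elements outside `q`
    obtain ⟨c, hc⟩ := Ideal.mem_span_singleton'.mp (hs x (hmin.1.2 (Ideal.mem_span_singleton_self x)))
    have htreg : ∀ b : B, algebraMap A B t * b = 0 → algebraMap A B s * b = 0 := by
      intro b hb
      apply hregB
      rw [← mul_assoc, ← map_mul, mul_comm x, ← hc, map_mul, mul_assoc, hb, mul_zero]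
    obtain ⟨N, s2, hs2, hN⟩ : ∃ N, ∃ s2 ∉ p, s2 * t ^ N ∈ Ideal.span {x} := by
      by_contra hcon
      push Not at hcon
      let T : Submonoid A := p.primeCompl ⊔ Submonoid.powers t
      have hdisj : Disjoint (Ideal.span {x} : Set A) (T : Set A) := by
        rw [Set.disjoint_left]
        intro a ha haT
        obtain ⟨u, hu, v, ⟨n, rfl⟩, rfl⟩ := Submonoid.mem_sup.mp haT
        exact hcon n u hu ha
      obtain ⟨P', hP', hxP', hdP'⟩ := Ideal.exists_le_prime_disjoint _ T hdisj
      have hP'p : P' ≤ p := fun a ha => by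
        by_contra hap
        exact Set.disjoint_left.mp hdP' ha (Submonoid.mem_sup_left (show a ∈ p.primeCompl from hap))
      have hpP' := hmin.2 ⟨hP', hxP'⟩ hP'p htp
      exact Set.disjoint_left.mp hdP' hpP' (Submonoid.mem_sup_right (Submonoid.mem_powers t))
    have hdiv : ∀ n : ℕ, ∃ w ∉ q, w * g ∈ Ideal.span {algebraMap A B t ^ n} := by
      intro n
      induction n with
      | zero => exact ⟨1, fun h => hqprime.ne_top ((Ideal.eq_top_iff_one q).mpr h), by simp⟩
      | succ n ih =>
        obtain ⟨w, hw, hwg⟩ := ih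
        obtain ⟨h, hh⟩ := Ideal.mem_span_singleton'.mp hwg
        have hhq : h ∈ q := by
          obtain ⟨k, hk⟩ := hg
          have hz0 : algebraMap A B t ^ (n * k) * h ^ k = 0 := by
            rw [pow_mul, ← mul_pow, mul_comm, hh, mul_pow, hk, mul_zero]
          have key : ∀ m : ℕ, ∀ b : B, algebraMap A B t ^ m * b = 0 → algebraMap A B s ^ m * b = 0 := by
            intro m
            induction m with
            | zero => intro b hb; simpa using hb
            | succ m ih' =>
              intro b hb
              rw [pow_succ, mul_assoc] at hb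
              have h5 := ih' _ hb
              rw [mul_left_comm] at h5
              rw [pow_succ', mul_assoc]
              exact htreg _ h5
          have h7 := key _ _ hz0
          refine hqprime.mem_of_pow_mem k ?_
          have h8 : algebraMap A B s ^ (n * k) * h ^ k ∈ q := by rw [h7]; exact q.zero_mem
          exact (hqprime.mem_or_mem h8).resolve_left fun h9 => hnotq s hsp (hqprime.mem_of_pow_mem _ h9)
        obtain ⟨w', hw', hw'h⟩ := hqt h hhq
        refine ⟨w' * w, hqprime.mul_notMem hw' hw, ?_⟩
        obtain ⟨h', hh'⟩ := Ideal.mem_span_singleton'.mp hw'h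
        refine Ideal.mem_span_singleton'.mpr ⟨h', ?_⟩
        rw [mul_assoc, ← hh, ← mul_assoc, ← hh', pow_succ]
        ring
    obtain ⟨w, hw, hwg⟩ := hdiv N
    have hmem : algebraMap A B s2 * w * g ∈ Ideal.span {xB} := by
      obtain ⟨h, hh⟩ := Ideal.mem_span_singleton'.mp hwg
      obtain ⟨e', he'⟩ := Ideal.mem_span_singleton'.mp hN
      refine Ideal.mem_span_singleton'.mpr ⟨algebraMap A B e' * h, ?_⟩
      rw [mul_assoc (algebraMap A B s2), ← hh, hxB, mul_right_comm, ← map_mul, he', map_mul, map_pow]
      ring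
    refine hqprime.mul_notMem (hnotq s2 hs2) hw (hqg ?_)
    rw [Submodule.mem_colon_singleton, Submodule.mem_bot]
    show Ideal.Quotient.mk _ (algebraMap A B s2 * w * g) = 0
    exact Ideal.Quotient.eq_zero_iff_mem.mpr hmem
  refine ⟨fun f hf => ?_⟩
  have hpow : ∀ n : ℕ, ∃ g, IsNilpotent g ∧ f = xB ^ n * g := by
    intro n
    induction n with
    | zero => exact ⟨f, hf, by simp⟩
    | succ n ih =>
      obtain ⟨g, hg, rfl⟩ := ih
      obtain ⟨h, rfl⟩ := Ideal.mem_span_singleton'.mp (claim g hg)
      refine ⟨h, ?_, by ring⟩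
      obtain ⟨k, hk⟩ := hg
      refine ⟨k, ?_⟩
      rw [mul_pow, mul_comm] at hk
      clear hf
      induction k with
      | zero => simpa using hk
      | succ k _ =>
        have key : ∀ m : ℕ, ∀ b : B, xB ^ m * b = 0 → b = 0 := by
          intro m
          induction m with
          | zero => intro b hb; simpa using hb
          | succ m ih' => intro b hb; rw [pow_succ, mul_assoc] at hb; exact hregB _ (ih' _ hb)
        exact key _ _ hk
  have hmem : f ∈ ⨅ n : ℕ, Ideal.span {xB} ^ n • (⊤ : Submodule B B) := by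
    rw [Submodule.mem_iInf]
    intro n
    obtain ⟨g, -, rfl⟩ := hpow n
    rw [smul_eq_mul, Ideal.mul_top, Ideal.span_singleton_pow]
    exact Ideal.mem_span_singleton'.mpr ⟨g, mul_comm _ _⟩
  rwa [Ideal.iInf_pow_smul_eq_bot_of_le_jacobson _
    ((Ideal.span_singleton_le_iff_mem _).mpr hjac), Submodule.mem_bot] at hmem

/-- `Â/pÂ` is reduced if the completion of `A/p` is. -/
theorem isReduced_completion_quotient {A : Type u} [CommRing A] [IsNoetherianRing A] (m p : Ideal A)
    [IsReduced (AdicCompletion (m.map (Ideal.Quotient.mk p)) (A ⧸ p))] :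
    IsReduced (AdicCompletion m A ⧸ p.map (algebraMap A (AdicCompletion m A))) := by
  classical
  let D := A ⧸ p
  let md := m.map (Ideal.Quotient.mk p)
  have hle : ∀ n, m ^ n ≤ (md ^ n).comap (Ideal.Quotient.mk p) := fun n => by
    rw [← Ideal.map_pow]; exact Ideal.le_comap_map
  let F : AdicCompletion m A →ₐ[A] AdicCompletion md D :=
    AdicCompletion.liftAlgHom md (fun n => (Ideal.quotientMapₐ (md ^ n) (Ideal.Quotient.mkₐ A p) (hle n)).comp
      ((AdicCompletion.evalₐ m n).restrictScalars A)) (fun {k n} hkn => by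
        refine AlgHom.ext fun z => ?_
        induction z using AdicCompletion.induction_on with
        | h a =>
          simp only [AlgHom.comp_apply, AlgHom.restrictScalars_apply, AdicCompletion.evalₐ_mk]
          have := SModEq.sub_mem.mp (a.property hkn).symm
          rw [smul_eq_mul, Ideal.mul_top] at this
          show Ideal.Quotient.mk (md ^ k) (Ideal.Quotient.mk p (a.val n)) =
            Ideal.Quotient.mk (md ^ k) (Ideal.Quotient.mk p (a.val k))
          rw [Ideal.Quotient.eq, ← map_sub]
          exact hle k this)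
  let pc := p.map (algebraMap A (AdicCompletion m A))
  have hker : ∀ z, F z = 0 → z ∈ pc := by
    intro z hz
    have hmk : AdicCompletion.map m p.mkQ z = 0 := by
      induction z using AdicCompletion.induction_on with
      | h a =>
        apply AdicCompletion.ext
        intro n
        have h1 := congrArg (AdicCompletion.evalₐ md n) hz
        rw [AdicCompletion.evalₐ_liftAlgHom, map_zero, AlgHom.comp_apply, AlgHom.restrictScalars_apply,
          AdicCompletion.evalₐ_mk] at h1
        have h2 : Ideal.Quotient.mk p (a.val n) ∈ md ^ n := Ideal.Quotient.eq_zero_iff_mem.mp h1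
        rw [AdicCompletion.map_mk, AdicCompletion.val_zero_apply]
        show Submodule.Quotient.mk (p.mkQ (a.val n)) = 0
        rw [Submodule.Quotient.mk_eq_zero, Ideal.smul_top_eq_map]
        rw [← Ideal.map_pow] at h2
        exact h2
    obtain ⟨w, hw⟩ := (AdicCompletion.map_exact (I := m) Subtype.val_injective
      (LinearMap.exact_subtype_mkQ p) (Submodule.mkQ_surjective p) z).mp hmk
    obtain ⟨t, ht⟩ := (AdicCompletion.ofTensorProduct_bijective_of_finite_of_isNoetherian m p).2 w
    rw [← hw, ← ht]
    clear ht hw hmk hz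
    induction t using TensorProduct.induction_on with
    | zero => simp
    | tmul r a =>
      rw [AdicCompletion.ofTensorProduct_tmul, LinearMap.map_smul]
      refine Submodule.smul_mem _ r ?_
      rw [AdicCompletion.map_of]
      exact Ideal.mem_map_of_mem _ a.2
    | add u v hu hv => rw [map_add, map_add]; exact Submodule.add_mem _ hu hv
  have hkill : ∀ z ∈ pc, F z = 0 := by
    intro z hz
    refine (Ideal.map_le_iff_le_comap.mpr (fun a ha => ?_) : pc ≤ RingHom.ker F.toRingHom) hz
    show F (algebraMap A (AdicCompletion m A) a) = 0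
    rw [AlgHom.commutes, IsScalarTower.algebraMap_apply A D, Ideal.Quotient.algebraMap_eq,
      Ideal.Quotient.eq_zero_iff_mem.mpr ha, map_zero]
  exact isReduced_of_injective (Ideal.Quotient.lift pc F.toRingHom hkill)
    (RingHom.lift_injective_of_ker_le_ideal _ _ fun z hz => hker z hz)

end Groth.Agent.Nagata
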