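import Groth.Agent.Nagata.Piece

/-!
# A union of two compactifiable opens is compactifiable
-/

set_option autoImplicit false
set_option maxHeartbeats 1000000
set_option backward.isDefEq.respectTransparency false
set_option backward.defeqAttrib.useBackward true

universe u

namespace Groth.Agent.Nagata

open AlgebraicGeometry CategoryTheory Limits TopologicalSpace

/-- A morphism whose source is covered by the images of finitely many morphisms with universally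
closed composites is universally closed. -/
lemma universallyClosed_of_ranges {Y S : Scheme.{u}} (f : Y ⟶ S) {ι : Type*} [Finite ι]
    (P : ι → Scheme.{u}) (g : ∀ k, P k ⟶ Y) (hg : ∀ k, UniversallyClosed (g k ≫ f))
    (hcov : ∀ y, ∃ k, y ∈ Set.range (g k)) : UniversallyClosed f := by
  constructor
  intro Y' S' i₁ i₂ f' H
  intro C hC
  have key : (fun y => f' y) '' C =
      ⋃ k, (fun p => (pullback.fst i₁ (g k) ≫ f') p) '' ((fun p => pullback.fst i₁ (g k) p) ⁻¹' C) := by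
    refine Set.Subset.antisymm ?_ (Set.iUnion_subset fun k => ?_)
    · rintro _ ⟨y, hy, rfl⟩
      obtain ⟨k, p, hp⟩ := hcov (i₁ y)
      obtain ⟨z, hz, -⟩ := Scheme.Pullback.exists_preimage_pullback (f := i₁) (g := g k) y p hp.symm
      refine Set.mem_iUnion.mpr ⟨k, z, ?_, ?_⟩
      · show pullback.fst i₁ (g k) z ∈ C
        rw [hz]; exact hy
      · show (pullback.fst i₁ (g k) ≫ f') z = f' y
        rw [Scheme.Hom.comp_apply, hz]
    · rintro _ ⟨p, hp, rfl⟩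
      exact ⟨pullback.fst i₁ (g k) p, hp, (Scheme.Hom.comp_apply _ f' p).symm⟩
  show IsClosed ((fun y => f' y) '' C)
  rw [key]
  refine isClosed_iUnion_of_finite fun k => ?_
  exact ((hg k).universally_isClosedMap _ _ _ ((IsPullback.of_hasPullback i₁ (g k)).paste_horiz H))
    _ (hC.preimage (pullback.fst i₁ (g k)).continuous)

/-- The closure of the graph of the common open meets the preimage of a piece only in itself. -/
lemma mem_range_of_graph {S X U₀ U₁ U₁₂ M₀ M₁ : Scheme.{u}} (gX : X ⟶ S) (g₀ : M₀ ⟶ S)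
    (g₁ : M₁ ⟶ S) (e₀ : U₀ ⟶ X) (e₁ : U₁ ⟶ X) (i₀ : U₁₂ ⟶ U₀) (i₁ : U₁₂ ⟶ U₁)
    (m₀ : U₀ ⟶ M₀) (m₁ : U₁ ⟶ M₁) [IsOpenImmersion e₀] [IsOpenImmersion m₀]
    (hi : i₀ ≫ e₀ = i₁ ≫ e₁) (hinter : ∀ x y, e₀ x = e₁ y → ∃ t, i₁ t = y)
    (h₀ : e₀ ≫ gX = m₀ ≫ g₀) (h₁ : e₁ ≫ gX = m₁ ≫ g₁)
    (h : (i₀ ≫ m₀) ≫ g₀ = (i₁ ≫ m₁) ≫ g₁)
    (hgraph : IsClosed (Set.range (pullback.lift e₁ m₁ h₁)))
    (z : (pullback g₀ g₁ : Scheme.{u}))
    (hz : z ∈ closure (Set.range (pullback.lift (i₀ ≫ m₀) (i₁ ≫ m₁) h)))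
    (hz₀ : pullback.fst g₀ g₁ z ∈ m₀.opensRange) :
    z ∈ Set.range (pullback.lift (i₀ ≫ m₀) (i₁ ≫ m₁) h) := by
  let L := pullback.lift (i₀ ≫ m₀) (i₁ ≫ m₁) h
  let φ : pullback (m₀ ≫ g₀) g₁ ⟶ pullback g₀ g₁ :=
    pullback.map _ _ _ _ m₀ (𝟙 _) (𝟙 _) (by simp) (by simp)
  let ψ : pullback (m₀ ≫ g₀) g₁ ⟶ pullback gX g₁ :=
    pullback.map _ _ _ _ e₀ (𝟙 _) (𝟙 _) (by rw [h₀]; simp) (by simp)
  let L' : U₁₂ ⟶ pullback (m₀ ≫ g₀) g₁ :=
    pullback.lift i₀ (i₁ ≫ m₁) (by rw [← Category.assoc i₀]; exact h)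
  have hL'φ : L' ≫ φ = L := by apply pullback.hom_ext <;> simp [L', φ, L]
  have hL'ψ : L' ≫ ψ = i₁ ≫ pullback.lift e₁ m₁ h₁ := by
    apply pullback.hom_ext <;> simp [L', ψ, hi]
  obtain ⟨a, ha⟩ := hz₀
  obtain ⟨w, hw, -⟩ : ∃ w : (pullback (m₀ ≫ g₀) g₁ : Scheme.{u}), φ w = z ∧ True := by
    have : z ∈ Set.range φ := by
      rw [Scheme.Pullback.range_map]
      exact ⟨⟨a, ha⟩, ⟨_, rfl⟩⟩
    obtain ⟨w, hw⟩ := this
    exact ⟨w, hw, trivial⟩
  have hwcl : w ∈ closure (Set.range L') := by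
    have h1 : w ∈ φ ⁻¹' closure (Set.range L) := by
      show φ w ∈ closure (Set.range L); rw [hw]; exact hz
    rw [φ.isOpenEmbedding.isOpenMap.preimage_closure_eq_closure_preimage φ.continuous] at h1
    refine closure_mono ?_ h1
    rintro t ⟨x, hx⟩
    exact ⟨x, φ.isOpenEmbedding.injective (by rw [← Scheme.Hom.comp_apply, hL'φ]; exact hx)⟩
  obtain ⟨y, hy⟩ : ψ w ∈ Set.range (pullback.lift e₁ m₁ h₁) := by
    refine closure_minimal ?_ (hgraph.preimage ψ.continuous) hwcl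
    rintro _ ⟨x, rfl⟩
    exact ⟨i₁ x, by rw [← Scheme.Hom.comp_apply, ← hL'ψ, Scheme.Hom.comp_apply]⟩
  obtain ⟨t, rfl⟩ := hinter (pullback.fst (m₀ ≫ g₀) g₁ w) y (by
    rw [← pullback.lift_fst e₁ m₁ h₁, Scheme.Hom.comp_apply, hy, ← Scheme.Hom.comp_apply,
      ← Scheme.Hom.comp_apply, pullback.lift_fst])
  refine ⟨t, ?_⟩
  show L t = z
  rw [← hL'φ, Scheme.Hom.comp_apply, ← hw]
  refine congrArg _ (ψ.isOpenEmbedding.injective ?_)
  rw [← Scheme.Hom.comp_apply, hL'ψ, Scheme.Hom.comp_apply, hy]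

/-- Symmetric form of `mem_range_of_graph`. -/
lemma mem_range_of_graph' {S X U₀ U₁ U₁₂ M₀ M₁ : Scheme.{u}} (gX : X ⟶ S) (g₀ : M₀ ⟶ S)
    (g₁ : M₁ ⟶ S) (e₀ : U₀ ⟶ X) (e₁ : U₁ ⟶ X) (i₀ : U₁₂ ⟶ U₀) (i₁ : U₁₂ ⟶ U₁)
    (m₀ : U₀ ⟶ M₀) (m₁ : U₁ ⟶ M₁) [IsOpenImmersion e₁] [IsOpenImmersion m₁]
    (hi : i₀ ≫ e₀ = i₁ ≫ e₁) (hinter : ∀ x y, e₀ x = e₁ y → ∃ t, i₀ t = x)
    (h₀ : e₀ ≫ gX = m₀ ≫ g₀) (h₁ : e₁ ≫ gX = m₁ ≫ g₁)
    (h : (i₀ ≫ m₀) ≫ g₀ = (i₁ ≫ m₁) ≫ g₁)
    (hgraph : IsClosed (Set.range (pullback.lift e₀ m₀ h₀)))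
    (z : (pullback g₀ g₁ : Scheme.{u}))
    (hz : z ∈ closure (Set.range (pullback.lift (i₀ ≫ m₀) (i₁ ≫ m₁) h)))
    (hz₁ : pullback.snd g₀ g₁ z ∈ m₁.opensRange) :
    z ∈ Set.range (pullback.lift (i₀ ≫ m₀) (i₁ ≫ m₁) h) := by
  let e := pullbackSymmetry g₀ g₁
  have he : pullback.lift (i₀ ≫ m₀) (i₁ ≫ m₁) h ≫ e.hom =
      pullback.lift (i₁ ≫ m₁) (i₀ ≫ m₀) h.symm := by
    apply pullback.hom_ext <;> simp [e]
  obtain ⟨t, ht⟩ := mem_range_of_graph gX g₁ g₀ e₁ e₀ i₁ i₀ m₁ m₀ hi.symm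
    (fun x y hxy => hinter y x hxy.symm) h₁ h₀ h.symm hgraph (e.hom z) (by
      refine closure_mono ?_ (image_closure_subset_closure_image e.hom.continuous ⟨z, hz, rfl⟩)
      rintro _ ⟨_, ⟨x, rfl⟩, rfl⟩
      exact ⟨x, by rw [← he]; exact Scheme.Hom.comp_apply _ e.hom x⟩)
    (by rwa [← Scheme.Hom.comp_apply, pullbackSymmetry_hom_comp_fst])
  refine ⟨t, e.hom.homeomorph.injective ?_⟩
  show e.hom _ = e.hom z
  rw [← Scheme.Hom.comp_apply, he, ht]

variable {S : Scheme.{u}} [CompactSpace S] [QuasiSeparatedSpace S]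

omit [CompactSpace S] [QuasiSeparatedSpace S] in
/-- A closed set of a proper scheme lying in an open `M` pulls back to something universally
closed over the base along a proper morphism to `M`. -/
lemma exists_closed_piece {P A Y : Scheme.{u}} (gb : P ⟶ S) [IsProper gb] (M : P.Opens)
    (a : A ⟶ M.toScheme) [IsProper a] (iA : A ⟶ Y) (q : Y ⟶ S) (hq : iA ≫ q = a ≫ M.ι ≫ gb)
    (B : Set P) (hB : IsClosed B) (hBM : B ⊆ (M : Set P)) :
    ∃ (T : Scheme.{u}) (g : T ⟶ Y), UniversallyClosed (g ≫ q) ∧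
      ∀ x, M.ι (a x) ∈ B → iA x ∈ Set.range g := by
  let I := Scheme.IdealSheafData.vanishingIdeal (⟨B, hB⟩ : Closeds P)
  have hrI : Set.range I.subschemeι = B := by
    rw [Scheme.IdealSheafData.range_subschemeι, Scheme.IdealSheafData.coe_support_vanishingIdeal]
    rfl
  let tl : I.subscheme ⟶ M.toScheme := IsOpenImmersion.lift M.ι I.subschemeι (by
    rw [hrI, Scheme.Opens.range_ι]; exact hBM)
  have htl : tl ≫ M.ι = I.subschemeι := IsOpenImmersion.lift_fac _ _ _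
  refine ⟨pullback tl a, pullback.snd tl a ≫ iA, ?_, fun x hx => ?_⟩
  · rw [Category.assoc, hq, ← pullback.condition_assoc, reassoc_of% htl]
    infer_instance
  · rw [← hrI] at hx
    obtain ⟨b, hb⟩ := hx
    obtain ⟨z, -, hz⟩ := Scheme.Pullback.exists_preimage_pullback (f := tl) (g := a) b x
      (M.ι.isOpenEmbedding.injective (by rw [← Scheme.Hom.comp_apply, htl, hb]))
    exact ⟨z, by rw [Scheme.Hom.comp_apply, hz]⟩

/-- A union of two compactifiable opens of a separated scheme of finite type is compactifiable. -/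
theorem exists_compactification_two {X : Scheme.{u}} (gX : X ⟶ S) [IsSeparated gX] [QuasiCompact gX]
    [LocallyOfFiniteType gX] (U : Fin 2 → X.Opens) (hU : ∀ i, IsCompact (U i : Set X))
    (hcov : U 0 ⊔ U 1 = ⊤)
    (h : ∀ i, ∃ (Y : Scheme.{u}) (j : (U i).toScheme ⟶ Y) (p : Y ⟶ S),
      IsOpenImmersion j ∧ QuasiCompact j ∧ IsProper p ∧ j ≫ p = (U i).ι ≫ gX) :
    ∃ (Y : Scheme.{u}) (j : X ⟶ Y) (p : Y ⟶ S),
      IsOpenImmersion j ∧ QuasiCompact j ∧ IsProper p ∧ j ≫ p = gX := by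
  classical
  choose Yc jc πc hjc hjqc hπc hjπ using h
  have hcov' : ∀ x, x ∈ U 0 ∨ x ∈ U 1 := fun x =>
    Opens.mem_sup.mp (hcov.symm ▸ trivial : x ∈ U 0 ⊔ U 1)
  obtain ⟨P, gb, M, m, hm, hL, B, hgb, hMc, hmo, hgraph, hB, hmB, hR⟩ :=
    exists_models gX U hU hcov' jc πc hjπ
  have : CompactSpace X := QuasiCompact.compactSpace_of_compactSpace gX
  have : QuasiSeparatedSpace X := quasiSeparatedSpace_of_quasiSeparated gX
  have : CompactSpace (U 0).toScheme := isCompact_iff_compactSpace.mp (hU 0)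
  have : CompactSpace (U 1).toScheme := isCompact_iff_compactSpace.mp (hU 1)
  have : CompactSpace (U 0 ⊓ U 1).toScheme := isCompact_iff_compactSpace.mp
    ((hU 0).inter_of_isOpen (hU 1) (U 0).2 (U 1).2)
  have hgc : ∀ i, QuasiCompact ((M i).ι ≫ gb i) := fun i => by
    have : CompactSpace (P i) := QuasiCompact.compactSpace_of_compactSpace (gb i)
    have : QuasiSeparatedSpace (P i) := quasiSeparatedSpace_of_quasiSeparated (gb i)
    have : CompactSpace (M i).toScheme := isCompact_iff_compactSpace.mp (hMc i)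
    exact QuasiCompact.of_comp _ (terminal.from S)
  let i₀ := X.homOfLE (inf_le_left : U 0 ⊓ U 1 ≤ U 0)
  let i₁ := X.homOfLE (inf_le_right : U 0 ⊓ U 1 ≤ U 1)
  let g₀ := (M 0).ι ≫ gb 0
  let g₁ := (M 1).ι ≫ gb 1
  have hhi : i₀ ≫ (U 0).ι = i₁ ≫ (U 1).ι := by simp [i₀, i₁]
  have hh : (i₀ ≫ m 0) ≫ g₀ = (i₁ ≫ m 1) ≫ g₁ := by
    simpa [g₀, g₁, i₀, i₁, Category.assoc] using hL
  have hint : ∀ (x : (U 0).toScheme) (y : (U 1).toScheme), (U 0).ι x = (U 1).ι y →
      ∃ t : (U 0 ⊓ U 1).toScheme, i₀ t = x ∧ i₁ t = y := by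
    intro x y hxy
    refine ⟨⟨(U 0).ι x, x.2, hxy ▸ y.2⟩, (U 0).ι.isOpenEmbedding.injective ?_,
      (U 1).ι.isOpenEmbedding.injective ?_⟩
    · rw [← Scheme.Hom.comp_apply, Scheme.homOfLE_ι]; rfl
    · rw [← Scheme.Hom.comp_apply, Scheme.homOfLE_ι]; exact hxy
  obtain ⟨Y, q, _, _, _, A, a, A', a', iA, iA', uA, uA', _, _, _, _, _, _, hYcov, _, _, huAd, huA'd,
      hua, hua', hiA, hiA', hglue, hdisj⟩ :=
    exists_glue g₀ g₁ i₀ i₁ (m 0) (m 1) hh
      (fun z hz hz₀ => mem_range_of_graph gX g₀ g₁ (U 0).ι (U 1).ι i₀ i₁ (m 0) (m 1) hhi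
        (fun x y hxy => (hint x y hxy).imp fun t ht => ht.2) (hm 0) (hm 1) hh (hgraph 1) z hz hz₀)
      (fun z hz hz₁ => mem_range_of_graph' gX g₀ g₁ (U 0).ι (U 1).ι i₀ i₁ (m 0) (m 1) hhi
        (fun x y hxy => (hint x y hxy).imp fun t ht => ht.1) (hm 0) (hm 1) hh (hgraph 0) z hz hz₁)
  let ψ₀ := uA ≫ iA
  let ψ₁ := uA' ≫ iA'
  -- the morphism from `X`
  obtain ⟨l, hl₀, hl₁⟩ := LimLib.exists_glue_sup (U 0) (U 1) ψ₀ ψ₁ hglue
  let eX : X ⟶ (U 0 ⊔ U 1 : X.Opens) := IsOpenImmersion.lift (U 0 ⊔ U 1).ι (𝟙 X) (by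
    rw [Scheme.Opens.range_ι, hcov]; exact Set.subset_univ _)
  let j : X ⟶ Y := eX ≫ l
  have hj₀ : (U 0).ι ≫ j = ψ₀ := by
    rw [← hl₀, ← Category.assoc]
    congr 1
    rw [← cancel_mono (U 0 ⊔ U 1).ι]; simp [eX]
  have hj₁ : (U 1).ι ≫ j = ψ₁ := by
    rw [← hl₁, ← Category.assoc]
    congr 1
    rw [← cancel_mono (U 0 ⊔ U 1).ι]; simp [eX]
  have hjinj : Function.Injective j := by
    have hcases : ∀ x, (∃ y, (U 0).ι y = x) ∨ ∃ y, (U 1).ι y = x := fun x =>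
      (hcov' x).imp (fun hx => ⟨⟨x, hx⟩, rfl⟩) (fun hx => ⟨⟨x, hx⟩, rfl⟩)
    have hmix : ∀ x y, ψ₀ x = ψ₁ y → (U 0).ι x = (U 1).ι y := by
      intro x y hxy
      obtain ⟨t, rfl, rfl⟩ := hdisj x y (by
        rw [← Scheme.Hom.comp_apply, ← Scheme.Hom.comp_apply]; exact hxy)
      rw [← Scheme.Hom.comp_apply, ← Scheme.Hom.comp_apply, hhi]
    intro x y hxy
    rcases hcases x with ⟨x', rfl⟩ | ⟨x', rfl⟩ <;> rcases hcases y with ⟨y', rfl⟩ | ⟨y', rfl⟩ <;>
      simp only [← Scheme.Hom.comp_apply, hj₀, hj₁] at hxy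
    · rw [ψ₀.isOpenEmbedding.injective hxy]
    · exact hmix _ _ hxy
    · exact (hmix _ _ hxy.symm).symm
    · rw [ψ₁.isOpenEmbedding.injective hxy]
  have hjo : IsOpenImmersion j := by
    refine QDom.Global.isOpenImmersion_of_local j fun x => ?_
    have key : ∀ (i : Fin 2) (ψ : (U i).toScheme ⟶ Y) [IsOpenImmersion ψ], (U i).ι ≫ j = ψ →
        x ∈ U i → ∃ W : Y.Opens, j x ∈ W ∧ IsIso (j ∣_ W) := by
      intro i ψ _ hψ hx
      refine ⟨ψ.opensRange, ⟨⟨x, hx⟩, by rw [← hψ]; rfl⟩, ?_⟩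
      have hpre : (U i).ι.opensRange = j ⁻¹ᵁ ψ.opensRange := by
        refine Opens.ext (Set.Subset.antisymm ?_ ?_)
        · rintro _ ⟨t, rfl⟩
          exact ⟨t, by rw [← hψ]; rfl⟩
        · intro y hy
          obtain ⟨t, ht⟩ : j y ∈ Set.range ψ := hy
          exact ⟨t, hjinj (by rw [← Scheme.Hom.comp_apply, hψ, ht])⟩
      let e' : (U i).toScheme ⟶ (j ⁻¹ᵁ ψ.opensRange).toScheme :=
        IsOpenImmersion.lift (j ⁻¹ᵁ ψ.opensRange).ι (U i).ι (by
          rw [Scheme.Opens.range_ι, Scheme.Opens.range_ι, ← hpre, Scheme.Hom.coe_opensRange,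
            Scheme.Opens.range_ι])
      have he' : e' ≫ (j ⁻¹ᵁ ψ.opensRange).ι = (U i).ι := IsOpenImmersion.lift_fac _ _ _
      have : IsOpenImmersion e' := by
        have : IsOpenImmersion (e' ≫ (j ⁻¹ᵁ ψ.opensRange).ι) := by rw [he']; infer_instance
        exact IsOpenImmersion.of_comp e' (j ⁻¹ᵁ ψ.opensRange).ι
      have : IsIso e' := by
        rw [IsOpenImmersion.iff_isIso_stalkMap] at this
        refine (isIso_iff_isOpenImmersion_and_epi_base e').mpr ⟨inferInstance, ?_⟩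
        rw [TopCat.epi_iff_surjective]
        rintro ⟨y, hy⟩
        obtain ⟨t, ht⟩ : y ∈ (U i).ι.opensRange := hpre ▸ hy
        refine ⟨t, Subtype.ext ?_⟩
        exact (congr(($he') t)).trans ht
      have : IsIso (e' ≫ (j ∣_ ψ.opensRange)) := by
        have : e' ≫ (j ∣_ ψ.opensRange) = ψ.isoOpensRange.hom := by
          rw [← cancel_mono ψ.opensRange.ι, Category.assoc, morphismRestrict_ι, reassoc_of% he', hψ,
            Scheme.Hom.isoOpensRange_hom_ι]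
        rw [this]; infer_instance
      exact IsIso.of_isIso_comp_left e' (j ∣_ ψ.opensRange)
    rcases hcov' x with hx | hx
    · exact key 0 ψ₀ hj₀ hx
    · exact key 1 ψ₁ hj₁ hx
  have hjq : j ≫ q = gX := by
    let 𝒰 := X.openCoverOfIsOpenCover U (top_le_iff.mp
      (hcov ▸ sup_le (le_iSup U 0) (le_iSup U 1)))
    refine 𝒰.hom_ext _ _ fun (i : Fin 2) => ?_
    show (U i).ι ≫ j ≫ q = (U i).ι ≫ gX
    fin_cases i
    · show (U 0).ι ≫ j ≫ q = (U 0).ι ≫ gX
      rw [reassoc_of% hj₀, hm 0, Category.assoc, hiA, reassoc_of% hua]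
    · show (U 1).ι ≫ j ≫ q = (U 1).ι ≫ gX
      rw [reassoc_of% hj₁, hm 1, Category.assoc, hiA', reassoc_of% hua']
  have : CompactSpace Y := QuasiCompact.compactSpace_of_compactSpace q
  have : QuasiSeparatedSpace Y := quasiSeparatedSpace_of_quasiSeparated q
  -- properness
  let L := pullback.lift (f := gb 0) (g := gb 1) _ _ hL
  let p₁₂ : pullback (gb 0) (gb 1) ⟶ S := pullback.fst _ _ ≫ gb 0
  have hψL : L ≫ p₁₂ = (i₀ ≫ ψ₀) ≫ q := by
    simp only [L, p₁₂, ψ₀, i₀, Category.assoc, pullback.lift_fst_assoc, hiA, g₀, reassoc_of% hua]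
  let Λ := pullback.lift (f := p₁₂) (g := q) L (i₀ ≫ ψ₀) hψL
  let I := Scheme.IdealSheafData.vanishingIdeal
    (⟨closure (Set.range Λ), isClosed_closure⟩ : Closeds (pullback p₁₂ q : Scheme.{u}))
  have hrI : Set.range I.subschemeι = closure (Set.range Λ) := by
    rw [Scheme.IdealSheafData.range_subschemeι, Scheme.IdealSheafData.coe_support_vanishingIdeal]
    rfl
  let pz : I.subscheme ⟶ pullback (gb 0) (gb 1) := I.subschemeι ≫ pullback.fst _ _
  have hpzR : ∀ z, pz z ∈ closure (Set.range L) := by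
    intro z
    rw [Scheme.Hom.comp_apply]
    have h1 : I.subschemeι z ∈ closure (Set.range Λ) := hrI ▸ ⟨z, rfl⟩
    refine closure_mono ?_ (image_closure_subset_closure_image (pullback.fst p₁₂ q).continuous
      ⟨_, h1, rfl⟩)
    rintro _ ⟨_, ⟨x, rfl⟩, rfl⟩
    exact ⟨x, by rw [← Scheme.Hom.comp_apply, pullback.lift_fst]⟩
  have hlocal : ∀ (M' : Scheme.{u}) (A : Scheme.{u}) (a : A ⟶ M') (_ : IsProper a)
      (R : (pullback (gb 0) (gb 1)).Opens) (π : R.toScheme ⟶ M') (g : M' ⟶ S)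
      (_ : π ≫ g = R.ι ≫ p₁₂) (iA : A ⟶ Y) (_ : iA ≫ q = a ≫ g)
      (k : (U 0 ⊓ U 1).toScheme ⟶ R.toScheme) (_ : k ≫ R.ι = L)
      (v : (U 0 ⊓ U 1).toScheme ⟶ A) (_ : v ≫ iA = i₀ ≫ ψ₀) (_ : v ≫ a = k ≫ π),
      UniversallyClosed (pz ∣_ R) := by
    intro M' A a _ R π g hπ iA hiA k hk v hv hva
    let G := pullback π a
    let Γ : G ⟶ pullback (R.ι ≫ p₁₂) q := pullback.lift (pullback.fst π a) (pullback.snd π a ≫ iA)
      (by rw [← hπ, pullback.condition_assoc, Category.assoc, hiA])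
    have : IsProper (Γ ≫ pullback.fst (R.ι ≫ p₁₂) q) := by
      rw [pullback.lift_fst]; infer_instance
    have := IsProper.of_comp Γ (pullback.fst (R.ι ≫ p₁₂) q)
    let φ : pullback (R.ι ≫ p₁₂) q ⟶ pullback p₁₂ q :=
      pullback.map _ _ _ _ R.ι (𝟙 _) (𝟙 _) (by simp) (by simp)
    let O := pz ⁻¹ᵁ R
    let κ : O.toScheme ⟶ pullback (R.ι ≫ p₁₂) q :=
      pullback.lift (pz ∣_ R) (O.ι ≫ I.subschemeι ≫ pullback.snd _ _) (by
        rw [morphismRestrict_ι_assoc]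
        simp only [pz, O, Category.assoc]
        rw [pullback.condition])
    have hκφ : κ ≫ φ = O.ι ≫ I.subschemeι := by
      apply pullback.hom_ext
      · simp [κ, φ, O, pz, morphismRestrict_ι]
      · simp [κ, φ]
    have : IsImmersion (κ ≫ φ) := by rw [hκφ]; infer_instance
    have : IsImmersion κ := IsImmersion.of_comp κ φ
    have hκr : Set.range κ = φ ⁻¹' Set.range I.subschemeι := by
      refine Set.Subset.antisymm ?_ fun t ⟨z, hz⟩ => ?_
      · rintro _ ⟨z, rfl⟩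
        exact ⟨O.ι z, by rw [← Scheme.Hom.comp_apply, ← hκφ, Scheme.Hom.comp_apply]⟩
      · have hzO : z ∈ O := by
          show pz z ∈ R
          rw [Scheme.Hom.comp_apply, hz, ← Scheme.Hom.comp_apply, pullback.lift_fst,
            Scheme.Hom.comp_apply]
          exact (pullback.fst (R.ι ≫ p₁₂) q t).2
        refine ⟨⟨z, hzO⟩, φ.isOpenEmbedding.injective ?_⟩
        rw [← Scheme.Hom.comp_apply, hκφ, ← hz]
        rfl
    have : IsClosedImmersion κ := IsClosedImmersion.of_isPreimmersion _ (by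
      rw [hκr]; exact I.subschemeι.isClosedEmbedding.isClosed_range.preimage φ.continuous)
    have hκΓ : Set.range κ ⊆ Set.range Γ := by
      rw [hκr, hrI, φ.isOpenEmbedding.isOpenMap.preimage_closure_eq_closure_preimage φ.continuous]
      refine closure_minimal ?_ Γ.isClosedMap.isClosed_range
      rintro t ⟨x, hx⟩
      refine ⟨pullback.lift k v hva.symm x, φ.isOpenEmbedding.injective ?_⟩
      rw [← hx, ← Scheme.Hom.comp_apply, ← Scheme.Hom.comp_apply]
      rw [show pullback.lift k v hva.symm ≫ Γ ≫ φ = Λ from by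
        apply pullback.hom_ext <;> simp [Γ, φ, Λ, hk, hv]]
    have : Surjective (pullback.fst κ Γ) := ⟨fun z => by
      obtain ⟨w, hw⟩ := hκΓ ⟨z, rfl⟩
      exact (Scheme.Pullback.exists_preimage_pullback (f := κ) (g := Γ) z w hw.symm).imp
        fun _ h => h.1⟩
    have : UniversallyClosed (pullback.fst κ Γ ≫ (pz ∣_ R)) := by
      have : (pz ∣_ R) = κ ≫ pullback.fst _ _ := (pullback.lift_fst _ _ _).symm
      rw [this, pullback.condition_assoc, pullback.lift_fst]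
      infer_instance
    exact UniversallyClosed.of_comp_surjective (pullback.fst κ Γ) _
  have hpz : UniversallyClosed pz := by
    let R₀ := pullback.fst (gb 0) (gb 1) ⁻¹ᵁ M 0
    let R₁ := pullback.snd (gb 0) (gb 1) ⁻¹ᵁ M 1
    let C : (pullback (gb 0) (gb 1)).Opens :=
      ⟨(closure (Set.range L))ᶜ, isClosed_closure.isOpen_compl⟩
    let W : Option Bool → (pullback (gb 0) (gb 1)).Opens := fun o => match o with
      | none => C | some true => R₀ | some false => R₁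
    have hW : ⨆ o, W o = ⊤ := by
      refine top_le_iff.mp fun z _ => Opens.mem_iSup.mpr ?_
      by_cases hz : z ∈ closure (Set.range L)
      · rcases hR z hz with h | h
        exacts [⟨some true, h⟩, ⟨some false, h⟩]
      · exact ⟨none, hz⟩
    rw [IsZariskiLocalAtTarget.iff_of_iSup_eq_top (P := @UniversallyClosed) W hW]
    intro o
    rcases o with _ | _ | _
    · have : IsEmpty (pz ⁻¹ᵁ C).toScheme := ⟨fun z => z.2 (hpzR _)⟩
      constructor
      intro X' Y' i₁ i₂ f' H C' _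
      have : IsEmpty X' := Function.isEmpty (fun x => i₁ x)
      rw [Set.eq_empty_of_isEmpty C', Set.image_empty]
      exact isClosed_empty
    · let k : (U 0 ⊓ U 1).toScheme ⟶ R₁.toScheme := IsOpenImmersion.lift R₁.ι L (by
        rw [Scheme.Opens.range_ι]
        rintro _ ⟨x, rfl⟩
        show pullback.snd (gb 0) (gb 1) (L x) ∈ M 1
        rw [← Scheme.Hom.comp_apply, pullback.lift_snd, ← Category.assoc, Scheme.Hom.comp_apply]
        exact ((i₁ ≫ m 1) x).2)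
      have hk : k ≫ R₁.ι = L := IsOpenImmersion.lift_fac _ _ _
      refine hlocal _ _ a' inferInstance R₁ (pullback.snd (gb 0) (gb 1) ∣_ M 1) g₁ ?_ iA' hiA' k hk
        (i₁ ≫ uA') ?_ ?_
      · simp only [g₁, p₁₂, morphismRestrict_ι_assoc, pullback.condition, R₁]
      · rw [Category.assoc]; exact hglue.symm
      · rw [Category.assoc, hua', ← cancel_mono (M 1).ι, Category.assoc, Category.assoc,
          morphismRestrict_ι, reassoc_of% hk, pullback.lift_snd]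
    · let k : (U 0 ⊓ U 1).toScheme ⟶ R₀.toScheme := IsOpenImmersion.lift R₀.ι L (by
        rw [Scheme.Opens.range_ι]
        rintro _ ⟨x, rfl⟩
        show pullback.fst (gb 0) (gb 1) (L x) ∈ M 0
        rw [← Scheme.Hom.comp_apply, pullback.lift_fst, ← Category.assoc, Scheme.Hom.comp_apply]
        exact ((i₀ ≫ m 0) x).2)
      have hk : k ≫ R₀.ι = L := IsOpenImmersion.lift_fac _ _ _
      refine hlocal _ _ a inferInstance R₀ (pullback.fst (gb 0) (gb 1) ∣_ M 0) g₀ ?_ iA hiA k hk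
        (i₀ ≫ uA) ?_ ?_
      · simp only [g₀, p₁₂, morphismRestrict_ι_assoc, R₀]
      · rw [Category.assoc]
      · rw [Category.assoc, hua, ← cancel_mono (M 0).ι, Category.assoc, Category.assoc,
          morphismRestrict_ι, reassoc_of% hk, pullback.lift_fst]
  let gz : I.subscheme ⟶ Y := I.subschemeι ≫ pullback.snd _ _
  have hgz : UniversallyClosed (gz ≫ q) := by
    have : gz ≫ q = pz ≫ p₁₂ := by
      simp only [gz, pz, Category.assoc, pullback.condition]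
    rw [this]; infer_instance
  obtain ⟨T₀, t₀, ht₀, hT₀⟩ := exists_closed_piece (gb 0) (M 0) a iA q hiA (B 0) (hB 0).1 (hB 0).2
  obtain ⟨T₁, t₁, ht₁, hT₁⟩ :=
    exists_closed_piece (gb 1) (M 1) a' iA' q hiA' (B 1) (hB 1).1 (hB 1).2
  have hcl : ∀ {T : Scheme.{u}} (t : T ⟶ Y) (_ : UniversallyClosed (t ≫ q)), IsClosed (Set.range t) := by
    intro T t ht
    have : UniversallyClosed t :=
      MorphismProperty.of_postcomp (W := @UniversallyClosed) (W' := @IsSeparated) t q ‹_› ht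
    exact t.isClosedMap.isClosed_range
  let Cs : Set Y := Set.range gz ∪ Set.range t₀ ∪ Set.range t₁
  have hCs : IsClosed Cs := ((hcl gz hgz).union (hcl t₀ ht₀)).union (hcl t₁ ht₁)
  have hψ : ∀ x, (ψ₀ x ∈ Cs) := by
    intro x
    by_cases hx : (U 0).ι x ∈ U 1
    · obtain ⟨t, rfl, -⟩ := hint x ⟨_, hx⟩ rfl
      obtain ⟨z, hz⟩ : Λ t ∈ Set.range I.subschemeι := by rw [hrI]; exact subset_closure ⟨t, rfl⟩
      refine .inl (.inl ⟨z, ?_⟩)
      rw [Scheme.Hom.comp_apply, hz, ← Scheme.Hom.comp_apply, pullback.lift_snd,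
        Scheme.Hom.comp_apply]
    · refine .inl (.inr ?_)
      rw [Scheme.Hom.comp_apply]
      refine hT₀ _ ?_
      rw [← Scheme.Hom.comp_apply uA a, hua]
      exact hmB 0 x hx
  have hψ' : ∀ x, (ψ₁ x ∈ Cs) := by
    intro x
    by_cases hx : (U 1).ι x ∈ U 0
    · obtain ⟨t, -, rfl⟩ := hint ⟨_, hx⟩ x rfl
      have : ψ₁ (i₁ t) = ψ₀ (i₀ t) := by
        rw [← Scheme.Hom.comp_apply, ← Scheme.Hom.comp_apply, hglue]
      rw [this]
      exact hψ _
    · refine .inr ?_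
      rw [Scheme.Hom.comp_apply]
      refine hT₁ _ ?_
      rw [← Scheme.Hom.comp_apply uA' a', hua']
      exact hmB 1 x hx
  have hall : ∀ y, y ∈ Cs := by
    intro y
    rcases (hYcov ▸ Set.mem_univ y : y ∈ Set.range iA ∪ Set.range iA') with ⟨x, rfl⟩ | ⟨x, rfl⟩
    · refine closure_minimal ?_ (hCs.preimage iA.continuous) (huAd x)
      rintro _ ⟨t, rfl⟩
      show iA (uA t) ∈ Cs
      rw [← Scheme.Hom.comp_apply]; exact hψ t
    · refine closure_minimal ?_ (hCs.preimage iA'.continuous) (huA'd x)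
      rintro _ ⟨t, rfl⟩
      show iA' (uA' t) ∈ Cs
      rw [← Scheme.Hom.comp_apply]; exact hψ' t
  have : UniversallyClosed q := by
    let Ps : Option Bool → Scheme.{u} := fun o => match o with
      | none => I.subscheme | some true => T₀ | some false => T₁
    let ts : ∀ o, Ps o ⟶ Y := fun o => match o with
      | none => gz | some true => t₀ | some false => t₁
    refine universallyClosed_of_ranges q Ps ts (fun o => ?_) fun y => ?_
    · rcases o with _ | _ | _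
      exacts [hgz, ht₁, ht₀]
    · rcases hall y with (h | h) | h
      exacts [⟨none, h⟩, ⟨some true, h⟩, ⟨some false, h⟩]
  have : IsProper q := ⟨⟩
  exact ⟨Y, j, q, hjo, QuasiCompact.of_comp _ (terminal.from Y), this, hjq⟩

end Groth.Agent.Nagata
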